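import Mathlib.AlgebraicGeometry.Restrict
import Mathlib.AlgebraicGeometry.AffineScheme
import Mathlib.AlgebraicGeometry.Morphisms.Basic

/-!
# Glueing morphisms over the affine opens of a base

For `p : P ⟶ Y` and morphisms `g U : p⁻¹(U) ⟶ Z` (`U` affine open of `Y`), compatible on basic opens `D(r) ⊆ U`,
there is a unique `P ⟶ Z` restricting to all of them.
-/

set_option autoImplicit false
universe u

open CategoryTheory CategoryTheory.Limits AlgebraicGeometry Opposite TopologicalSpace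

namespace K36.GlueAff

section opens

variable {X Z : Scheme.{u}} {ι : Type u}

theorem isOpenCover_of_forall (W : ι → X.Opens) (hW : ∀ x : X, ∃ i, x ∈ W i) : IsOpenCover W :=
  .mk (top_le_iff.mp fun x _ => Opens.mem_iSup.mpr (hW x))

/-- Morphisms agreeing on opens covering the source are equal. -/
theorem hom_ext_opens (W : ι → X.Opens) (hW : ∀ x : X, ∃ i, x ∈ W i) {a b : X ⟶ Z}
    (h : ∀ i, (W i).ι ≫ a = (W i).ι ≫ b) : a = b :=
  Scheme.Cover.hom_ext (X.openCoverOfIsOpenCover W (isOpenCover_of_forall W hW)) _ _ h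

/-- Morphisms from an open subscheme agreeing on smaller opens covering it are equal. -/
theorem hom_ext_homOfLE {V : X.Opens} (W : ι → X.Opens) (hWV : ∀ i, W i ≤ V) (hW : ∀ x ∈ V, ∃ i, x ∈ W i)
    {a b : (V : Scheme.{u}) ⟶ Z} (h : ∀ i, X.homOfLE (hWV i) ≫ a = X.homOfLE (hWV i) ≫ b) : a = b := by
  refine hom_ext_opens (fun i => V.ι ⁻¹ᵁ W i) (fun x => ?_) fun i => ?_
  · obtain ⟨i, hi⟩ := hW x.1 x.2
    exact ⟨i, hi⟩
  · have e : (V.ι ⁻¹ᵁ W i).ι = (IsOpenImmersion.lift (W i).ι ((V.ι ⁻¹ᵁ W i).ι ≫ V.ι)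
        (by
          rw [Scheme.Opens.range_ι]
          rintro _ ⟨x, rfl⟩
          exact x.2)) ≫ X.homOfLE (hWV i) := by
      rw [← cancel_mono V.ι, Category.assoc, Scheme.homOfLE_ι, IsOpenImmersion.lift_fac]
    rw [e, Category.assoc, Category.assoc, h i]

/-- Glueing of morphisms along opens covering the source. -/
theorem exists_glue_opens (W : ι → X.Opens) (hW : ∀ x : X, ∃ i, x ∈ W i) (g : ∀ i, (W i : Scheme.{u}) ⟶ Z)
    (hg : ∀ i j, X.homOfLE (inf_le_left : W i ⊓ W j ≤ W i) ≫ g i =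
      X.homOfLE (inf_le_right : W i ⊓ W j ≤ W j) ≫ g j) :
    ∃ a : X ⟶ Z, ∀ i, (W i).ι ≫ a = g i := by
  let 𝒰 := X.openCoverOfIsOpenCover W (isOpenCover_of_forall W hW)
  refine ⟨𝒰.glueMorphisms g fun i j => ?_, fun i => 𝒰.ι_glueMorphisms g _ i⟩
  have h1 := (isPullback_opens_inf (W i) (W j)).isoPullback_inv_fst
  have h2 := (isPullback_opens_inf (W i) (W j)).isoPullback_inv_snd
  change pullback.fst (W i).ι (W j).ι ≫ g i = pullback.snd (W i).ι (W j).ι ≫ g j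
  rw [← h1, ← h2, Category.assoc, Category.assoc, hg]

end opens

section base

variable {P Y Z : Scheme.{u}} (p : P ⟶ Y)

/-- Morphisms agreeing on the preimages of the affine opens of the base are equal. -/
theorem hom_ext {a b : P ⟶ Z} (h : ∀ U : Y.Opens, IsAffineOpen U → (p ⁻¹ᵁ U).ι ≫ a = (p ⁻¹ᵁ U).ι ≫ b) :
    a = b :=
  hom_ext_opens (fun U : Y.affineOpens => p ⁻¹ᵁ U.1)
    (fun x => by
      obtain ⟨U, hU, hx, -⟩ := (Opens.isBasis_iff_nbhd.mp Y.isBasis_affineOpens) (show p x ∈ (⊤ : Y.Opens) from trivial)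
      exact ⟨⟨U, hU⟩, hx⟩)
    fun U => h U.1 U.2

/-- Glueing of morphisms over the affine opens of the base. -/
theorem exists_glue (g : ∀ (U : Y.Opens) (_ : IsAffineOpen U), ((p ⁻¹ᵁ U : P.Opens) : Scheme.{u}) ⟶ Z)
    (hg : ∀ (U : Y.Opens) (hU : IsAffineOpen U) (r : Γ(Y, U)),
      P.homOfLE (p.preimage_mono (Y.basicOpen_le r)) ≫ g U hU = g (Y.basicOpen r) (hU.basicOpen r)) :
    ∃ a : P ⟶ Z, ∀ (U : Y.Opens) (hU : IsAffineOpen U), (p ⁻¹ᵁ U).ι ≫ a = g U hU := by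
  have compat : ∀ U V : Y.affineOpens,
      P.homOfLE (inf_le_left : p ⁻¹ᵁ U.1 ⊓ p ⁻¹ᵁ V.1 ≤ p ⁻¹ᵁ U.1) ≫ g U.1 U.2 =
        P.homOfLE (inf_le_right : p ⁻¹ᵁ U.1 ⊓ p ⁻¹ᵁ V.1 ≤ p ⁻¹ᵁ V.1) ≫ g V.1 V.2 := by
    intro U V
    have key : ∀ x ∈ (p ⁻¹ᵁ U.1 ⊓ p ⁻¹ᵁ V.1 : P.Opens), ∃ (f : Γ(Y, U.1)) (f' : Γ(Y, V.1)),
        Y.basicOpen f = Y.basicOpen f' ∧ p x ∈ Y.basicOpen f := fun x hx =>
      exists_basicOpen_le_affine_inter U.2 V.2 (p x) hx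
    choose f f' e hx using key
    refine hom_ext_homOfLE (V := p ⁻¹ᵁ U.1 ⊓ p ⁻¹ᵁ V.1)
      (fun x : (p ⁻¹ᵁ U.1 ⊓ p ⁻¹ᵁ V.1 : P.Opens) => p ⁻¹ᵁ Y.basicOpen (f x.1 x.2))
      (fun x => le_inf (p.preimage_mono (Y.basicOpen_le _)) (p.preimage_mono ((e x.1 x.2).trans_le (Y.basicOpen_le _))))
      (fun x hx' => ⟨⟨x, hx'⟩, hx x hx'⟩) fun x => ?_
    rw [Scheme.homOfLE_homOfLE_assoc, Scheme.homOfLE_homOfLE_assoc, hg U.1 U.2 (f x.1 x.2)]
    have aux : ∀ (W : Y.Opens) (hW : IsAffineOpen W) (h : W = Y.basicOpen (f' x.1 x.2)) (hW' : p ⁻¹ᵁ W ≤ p ⁻¹ᵁ V.1),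
        g W hW = P.homOfLE hW' ≫ g V.1 V.2 := by
      rintro W hW rfl hW'
      exact (hg V.1 V.2 (f' x.1 x.2)).symm
    exact aux _ _ (e x.1 x.2) _
  obtain ⟨a, ha⟩ := exists_glue_opens (fun U : Y.affineOpens => p ⁻¹ᵁ U.1)
    (fun x => by
      obtain ⟨U, hU, hx, -⟩ := (Opens.isBasis_iff_nbhd.mp Y.isBasis_affineOpens) (show p x ∈ (⊤ : Y.Opens) from trivial)
      exact ⟨⟨U, hU⟩, hx⟩) (fun U => g U.1 U.2) compat
  exact ⟨a, fun U hU => ha ⟨U, hU⟩⟩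

theorem existsUnique_glue (g : ∀ (U : Y.Opens) (_ : IsAffineOpen U), ((p ⁻¹ᵁ U : P.Opens) : Scheme.{u}) ⟶ Z)
    (hg : ∀ (U : Y.Opens) (hU : IsAffineOpen U) (r : Γ(Y, U)),
      P.homOfLE (p.preimage_mono (Y.basicOpen_le r)) ≫ g U hU = g (Y.basicOpen r) (hU.basicOpen r)) :
    ∃! a : P ⟶ Z, ∀ (U : Y.Opens) (hU : IsAffineOpen U), (p ⁻¹ᵁ U).ι ≫ a = g U hU := by
  obtain ⟨a, ha⟩ := exists_glue p g hg
  exact ⟨a, ha, fun b hb => hom_ext p fun U hU => (hb U hU).trans (ha U hU).symm⟩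

end base

end K36.GlueAff
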