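import Groth.Agent.Fdesc.LocGen
import Groth.Prelude.Def_RelProj3
/-!
# Pushing forward a morphism `T ⟶ a_* T'` along `j`, with `a ≫ j = j'`
-/

set_option autoImplicit false
universe u
open CategoryTheory CategoryTheory.Limits AlgebraicGeometry TopologicalSpace Opposite TopCat
noncomputable section

namespace K36.PushGen

open Groth.Agent.Fdesc.LocGen hiding sec res_sec

variable {Z Z' P : Scheme.{u}} (a : Z' ⟶ Z) (j : Z ⟶ P) (j' : Z' ⟶ P) (e : a ≫ j = j')

theorem app_bijective_of_isIso {M N : P.Modules} (φ : M ⟶ N) [IsIso φ] (W : P.Opens) :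
    Function.Bijective (φ.app W) := by
  have h1 : ∀ x, (inv φ).app W (φ.app W x) = x := fun x => by
    have := congr(($(IsIso.hom_inv_id φ)).app W x)
    exact this
  have h2 : ∀ x, φ.app W ((inv φ).app W x) = x := fun x => by
    have := congr(($(IsIso.inv_hom_id φ)).app W x)
    exact this
  exact Function.bijective_iff_has_inverse.mpr ⟨_, h1, h2⟩

/-- A morphism `T ⟶ a_* T'`, pushed forward to `P`. -/
def push {T : Z.Modules} {T' : Z'.Modules} (c : T ⟶ (Scheme.Modules.pushforward a).obj T') :
    (Scheme.Modules.pushforward j).obj T ⟶ (Scheme.Modules.pushforward j').obj T' :=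
  (Scheme.Modules.pushforward j).map c ≫ (Scheme.Modules.pushforwardComp a j).hom.app T' ≫
    (Scheme.Modules.pushforwardCongr e).hom.app T'

theorem push_bijective {T : Z.Modules} {T' : Z'.Modules} (c : T ⟶ (Scheme.Modules.pushforward a).obj T')
    (W : P.Opens) (h : Function.Bijective (c.app (j ⁻¹ᵁ W))) : Function.Bijective ((push a j j' e c).app W) := by
  have h1 : Function.Bijective (((Scheme.Modules.pushforward j).map c).app W) := h
  have h2 := app_bijective_of_isIso ((Scheme.Modules.pushforwardComp a j).hom.app T') W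
  have h3 := app_bijective_of_isIso ((Scheme.Modules.pushforwardCongr e).hom.app T') W
  exact h3.comp (h2.comp h1)

/-- Support: the sections of `j_* T` over `V` are those over `V ⊓ W` when `j` lands in `W`. -/
theorem push_supp (T : Z.Modules) (W : P.Opens) (hW : j ⁻¹ᵁ W = ⊤) (V : P.Opens) :
    Function.Bijective (res ((Scheme.Modules.pushforward j).obj T) (inf_le_left : V ⊓ W ≤ V)) := by
  have e : j ⁻¹ᵁ (V ⊓ W) = j ⁻¹ᵁ V := by
    rw [Scheme.Hom.preimage_inf, hW, inf_top_eq]
  have key : ∀ (V' V'' : Z.Opens) (h : V' ≤ V'') (e : V' = V''), Function.Bijective (res T h) := by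
    rintro V' V'' h rfl
    have h2 : (res T h : Γ(T, V') → Γ(T, V')) = id := by
      funext x
      change T.presheaf.map (𝟙 _) x = x
      rw [T.presheaf.map_id]
      rfl
    rw [h2]
    exact Function.bijective_id
  exact key _ _ (j.preimage_mono inf_le_left) e

end K36.PushGen

end
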