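import Groth.Prelude.Def_RelProj2
import Groth.Agent.EGA2.K36.GlueAff

/-!
# Morphisms between relative Proj's given in the charts
-/

set_option autoImplicit false
universe u

open CategoryTheory CategoryTheory.Limits AlgebraicGeometry Opposite TopologicalSpace
open scoped HomogeneousIdeal

namespace K36.RelProjMap

open RelProj

variable {Y P P' : Scheme.{u}} {𝒮 𝒮' : QCGrAlg Y} {p : P ⟶ Y} {p' : P' ⟶ Y}
  {chart : ∀ (U : Y.Opens) (hU : IsAffineOpen U), (((p ⁻¹ᵁ U : P.Opens) : Scheme.{u}) ≅ Proj (𝒮.deg U hU))}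
  {chart' : ∀ (U : Y.Opens) (hU : IsAffineOpen U), (((p' ⁻¹ᵁ U : P'.Opens) : Scheme.{u}) ≅ Proj (𝒮'.deg U hU))}

/-- the morphism `Proj 𝒮(U) ⟶ Y` -/
noncomputable def toY (𝒮 : QCGrAlg Y) (U : Y.Opens) (hU : IsAffineOpen U) : Proj (𝒮.deg U hU) ⟶ Y :=
  Proj.toSpecZero (𝒮.deg U hU) ≫ Spec.map (𝒮.strZero U hU) ≫ hU.fromSpec

theorem chart_toY (hP : IsRelProj 𝒮 p chart) (U : Y.Opens) (hU : IsAffineOpen U) :
    (chart U hU).hom ≫ toY 𝒮 U hU = (p ⁻¹ᵁ U).ι ≫ p := hP.chart_over U hU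

theorem emb_p (hP : IsRelProj 𝒮 p chart) (U : Y.Opens) (hU : IsAffineOpen U) :
    emb p chart U hU ≫ p = toY 𝒮 U hU := by
  rw [emb, Category.assoc, ← chart_toY hP, Iso.inv_hom_id_assoc]

theorem chart_emb (U : Y.Opens) (hU : IsAffineOpen U) :
    (chart U hU).hom ≫ emb p chart U hU = (p ⁻¹ᵁ U).ι := by
  rw [emb, Iso.hom_inv_id_assoc]

theorem opensRange_emb (U : Y.Opens) (hU : IsAffineOpen U) : (emb p chart U hU).opensRange = p ⁻¹ᵁ U := by
  have : (emb p chart U hU).opensRange = ((p ⁻¹ᵁ U).ι).opensRange := by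
    ext x
    constructor
    · rintro ⟨y, rfl⟩
      exact ⟨(chart U hU).inv y, rfl⟩
    · rintro ⟨y, rfl⟩
      refine ⟨(chart U hU).hom y, ?_⟩
      rw [← Scheme.Hom.comp_apply, chart_emb]
  rw [this, Scheme.Opens.opensRange_ι]

/-- Morphisms out of a relative Proj agreeing in the charts are equal. -/
theorem hom_ext_emb {Z : Scheme.{u}} {a b : P ⟶ Z}
    (h : ∀ (U : Y.Opens) (hU : IsAffineOpen U), emb p chart U hU ≫ a = emb p chart U hU ≫ b) : a = b :=
  GlueAff.hom_ext p fun U hU => by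
    rw [← chart_emb (chart := chart) U hU, Category.assoc, Category.assoc, h U hU]

/-- Glueing of morphisms out of a relative Proj given in the charts. -/
theorem exists_of_charts {Z : Scheme.{u}} (hP : IsRelProj 𝒮 p chart)
    (k : ∀ (U : Y.Opens) (hU : IsAffineOpen U), Proj (𝒮.deg U hU) ⟶ Z)
    (hk : ∀ (U : Y.Opens) (hU : IsAffineOpen U) (r : Γ(Y, U)),
      Proj.map (𝒮.res hU (hU.basicOpen r) (Y.basicOpen_le r)) (𝒮.irrelevant_le_map U hU r) ≫ k U hU =
        k (Y.basicOpen r) (hU.basicOpen r)) :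
    ∃ a : P ⟶ Z, ∀ (U : Y.Opens) (hU : IsAffineOpen U), emb p chart U hU ≫ a = k U hU := by
  obtain ⟨a, ha⟩ := GlueAff.exists_glue p (fun U hU => (chart U hU).hom ≫ k U hU) (fun U hU r => by
    rw [← Category.assoc, hP.chart_res U hU r, Category.assoc, hk U hU r])
  refine ⟨a, fun U hU => ?_⟩
  rw [emb, Category.assoc, ha U hU, Iso.inv_hom_id_assoc]

/-- Morphisms between relative Proj's from morphisms in the charts. -/
theorem exists_map (hP : IsRelProj 𝒮 p chart) (hP' : IsRelProj 𝒮' p' chart')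
    (k : ∀ (U : Y.Opens) (hU : IsAffineOpen U), Proj (𝒮.deg U hU) ⟶ Proj (𝒮'.deg U hU))
    (hk : ∀ (U : Y.Opens) (hU : IsAffineOpen U) (r : Γ(Y, U)),
      Proj.map (𝒮.res hU (hU.basicOpen r) (Y.basicOpen_le r)) (𝒮.irrelevant_le_map U hU r) ≫ k U hU =
        k (Y.basicOpen r) (hU.basicOpen r) ≫
          Proj.map (𝒮'.res hU (hU.basicOpen r) (Y.basicOpen_le r)) (𝒮'.irrelevant_le_map U hU r)) :
    ∃ a : P ⟶ P', ∀ (U : Y.Opens) (hU : IsAffineOpen U),
      emb p chart U hU ≫ a = k U hU ≫ emb p' chart' U hU :=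
  exists_of_charts hP (fun U hU => k U hU ≫ emb p' chart' U hU) (fun U hU r => by
    rw [← Category.assoc, hk U hU r, Category.assoc, map_res_emb hP'])

/-- A morphism given in the charts by morphisms over `Y` is over `Y`. -/
theorem comp_p (hP : IsRelProj 𝒮 p chart) (hP' : IsRelProj 𝒮' p' chart')
    (k : ∀ (U : Y.Opens) (hU : IsAffineOpen U), Proj (𝒮.deg U hU) ⟶ Proj (𝒮'.deg U hU))
    (hk : ∀ (U : Y.Opens) (hU : IsAffineOpen U), k U hU ≫ toY 𝒮' U hU = toY 𝒮 U hU) {a : P ⟶ P'}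
    (ha : ∀ (U : Y.Opens) (hU : IsAffineOpen U), emb p chart U hU ≫ a = k U hU ≫ emb p' chart' U hU) :
    a ≫ p' = p :=
  hom_ext_emb (chart := chart) fun U hU => by
    rw [← Category.assoc, ha U hU, Category.assoc, emb_p hP', hk, emb_p hP]

/-- The chart squares of a morphism given in the charts are cartesian. -/
theorem isPullback_emb (k : ∀ (U : Y.Opens) (hU : IsAffineOpen U), Proj (𝒮.deg U hU) ⟶ Proj (𝒮'.deg U hU))
    {a : P ⟶ P'} (hap : a ≫ p' = p)
    (ha : ∀ (U : Y.Opens) (hU : IsAffineOpen U), emb p chart U hU ≫ a = k U hU ≫ emb p' chart' U hU)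
    (U : Y.Opens) (hU : IsAffineOpen U) :
    IsPullback (emb p chart U hU) (k U hU) a (emb p' chart' U hU) := by
  refine (IsOpenImmersion.isPullback (k U hU) (emb p chart U hU) (emb p' chart' U hU) a (ha U hU) ?_).flip
  rw [opensRange_emb, opensRange_emb, ← Scheme.Hom.comp_preimage, hap]

/-- The restriction of a morphism given in the charts to the preimage of an affine open. -/
theorem isPullback_chart (k : ∀ (U : Y.Opens) (hU : IsAffineOpen U), Proj (𝒮.deg U hU) ⟶ Proj (𝒮'.deg U hU))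
    {a : P ⟶ P'} (hap : a ≫ p' = p)
    (ha : ∀ (U : Y.Opens) (hU : IsAffineOpen U), emb p chart U hU ≫ a = k U hU ≫ emb p' chart' U hU)
    (U : Y.Opens) (hU : IsAffineOpen U) :
    IsPullback (p ⁻¹ᵁ U).ι ((chart U hU).hom ≫ k U hU ≫ (chart' U hU).inv) a (p' ⁻¹ᵁ U).ι := by
  refine (isPullback_emb k hap ha U hU).of_iso (chart U hU).symm (Iso.refl _) (chart' U hU).symm (Iso.refl _)
    ?_ ?_ ?_ ?_
  · simp [emb]
  · simp
  · simp
  · simp [emb]

theorem iSup_preimage_affine (p : P ⟶ Y) : ⨆ U : Y.affineOpens, p ⁻¹ᵁ U.1 = ⊤ := by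
  rw [eq_top_iff]
  intro x _
  obtain ⟨U, hU, hx, -⟩ := (Opens.isBasis_iff_nbhd.mp Y.isBasis_affineOpens) (show p x ∈ (⊤ : Y.Opens) from trivial)
  exact Opens.mem_iSup.mpr ⟨⟨U, hU⟩, hx⟩

/-- A property of morphisms local on the target holds for a morphism between relative Proj's if it holds in the
charts. -/
theorem of_charts (k : ∀ (U : Y.Opens) (hU : IsAffineOpen U), Proj (𝒮.deg U hU) ⟶ Proj (𝒮'.deg U hU))
    {a : P ⟶ P'} (hap : a ≫ p' = p)
    (ha : ∀ (U : Y.Opens) (hU : IsAffineOpen U), emb p chart U hU ≫ a = k U hU ≫ emb p' chart' U hU)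
    (Q : MorphismProperty Scheme.{u}) [IsZariskiLocalAtTarget Q]
    (h : ∀ (U : Y.Opens) (hU : IsAffineOpen U), Q (k U hU)) : Q a := by
  rw [IsZariskiLocalAtTarget.iff_of_openCover (P := Q)
    (P'.openCoverOfIsOpenCover (fun U : Y.affineOpens => p' ⁻¹ᵁ U.1) (.mk (iSup_preimage_affine p')))]
  intro U
  let U' : Y.affineOpens := U
  have h1 := isPullback_chart k hap ha U'.1 U'.2
  have h3 : pullback.snd a (p' ⁻¹ᵁ U'.1).ι =
      h1.isoPullback.inv ≫ (chart U'.1 U'.2).hom ≫ k U'.1 U'.2 ≫ (chart' U'.1 U'.2).inv := by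
    simp
  change Q (pullback.snd a (p' ⁻¹ᵁ U'.1).ι)
  rw [h3, Q.cancel_left_of_respectsIso, Q.cancel_left_of_respectsIso, Q.cancel_right_of_respectsIso]
  exact h U'.1 U'.2

/-- A property of morphisms local on the target holds for the structure morphism of a relative Proj if it holds for
`Proj 𝒮(U) ⟶ Spec O(U)`. -/
theorem p_of_charts (hP : IsRelProj 𝒮 p chart) (Q : MorphismProperty Scheme.{u}) [IsZariskiLocalAtTarget Q]
    (h : ∀ (U : Y.Opens) (hU : IsAffineOpen U), Q (Proj.toSpecZero (𝒮.deg U hU) ≫ Spec.map (𝒮.strZero U hU))) :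
    Q p := by
  rw [IsZariskiLocalAtTarget.iff_of_openCover (P := Q)
    (Y.openCoverOfIsOpenCover (fun U : Y.affineOpens => U.1) (.mk (iSup_affineOpens_eq_top Y)))]
  intro U
  let U' : Y.affineOpens := U
  have h1 : IsPullback (p ⁻¹ᵁ U'.1).ι (p ∣_ U'.1) p U'.1.ι := (isPullback_morphismRestrict p U'.1).flip
  have h2 : p ∣_ U'.1 = (chart U'.1 U'.2).hom ≫
      (Proj.toSpecZero (𝒮.deg U'.1 U'.2) ≫ Spec.map (𝒮.strZero U'.1 U'.2)) ≫ U'.2.isoSpec.inv := by
    rw [← cancel_mono U'.1.ι, morphismRestrict_ι, ← chart_toY hP U'.1 U'.2, toY]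
    simp only [Category.assoc]
    rfl
  have h3 : pullback.snd p U'.1.ι = h1.isoPullback.inv ≫ p ∣_ U'.1 := by simp
  change Q (pullback.snd p U'.1.ι)
  rw [h3, Q.cancel_left_of_respectsIso, h2, Q.cancel_left_of_respectsIso, Q.cancel_right_of_respectsIso]
  exact h U'.1 U'.2

end K36.RelProjMap
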