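import Groth.Agent.EGA2.K36.RelComap
import Groth.Agent.EGA2.K36.PushGen
import Groth.Agent.EGA2.K32.GlueMod
import Groth.Agent.EGA2.K36.RelProjMap
/-!
# Existence of the module `(ℳ(n))~` on a relative Proj
-/

set_option autoImplicit false
universe u
open CategoryTheory CategoryTheory.Limits AlgebraicGeometry TopologicalSpace Opposite TopCat
open scoped HomogeneousIdeal
noncomputable section

namespace K36.TildeEx

open RelProj Groth.Agent.EGA2.K32.GlueMod K36.PushGen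
open Groth.Agent.Fdesc.LocGen hiding sec res_sec

variable {S P : Scheme.{u}} {𝒮 : QCGrAlg S} {p : P ⟶ S}
  {chart : ∀ (U : S.Opens) (hU : IsAffineOpen U), (((p ⁻¹ᵁ U : P.Opens) : Scheme.{u}) ≅ Proj (𝒮.deg U hU))}

/-- `V` is a basic open of `U`. -/
def Rel (U V : S.affineOpens) : Prop := ∃ r : Γ(S, U.1), S.basicOpen r = V.1

theorem Rel.le {U V : S.affineOpens} (h : Rel U V) : V.1 ≤ U.1 := by
  obtain ⟨r, hr⟩ := h
  rw [← hr]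
  exact S.basicOpen_le r

theorem Rel.trans {U V W : S.affineOpens} (h : Rel U V) (h' : Rel V W) : Rel U W := by
  obtain ⟨V, hV⟩ := V
  obtain ⟨r, hr⟩ := h
  obtain ⟨g, hg⟩ := h'
  dsimp at hr g hg
  subst hr
  obtain ⟨f, hf⟩ := U.2.basicOpen_basicOpen_is_basicOpen r g
  exact ⟨f, hf.trans hg⟩

variable (𝒮) in
theorem Rel.irr {U V : S.affineOpens} (h : Rel U V) :
    (𝒮.deg V.1 V.2)₊ ≤ ((𝒮.deg U.1 U.2)₊).map (𝒮.res U.2 V.2 h.le) := by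
  obtain ⟨V, hV⟩ := V
  obtain ⟨r, hr⟩ := id h
  dsimp at hr
  subst hr
  exact 𝒮.irrelevant_le_map U.1 U.2 r

theorem Rel.emb_eq (hP : IsRelProj 𝒮 p chart) {U V : S.affineOpens} (h : Rel U V) :
    Proj.map (𝒮.res U.2 V.2 h.le) (h.irr 𝒮) ≫ emb p chart U.1 U.2 = emb p chart V.1 V.2 := by
  obtain ⟨V, hV⟩ := V
  obtain ⟨r, hr⟩ := id h
  dsimp at hr
  subst hr
  exact map_res_emb hP U.1 U.2 r

theorem Rel.isOpenImmersion (hP : IsRelProj 𝒮 p chart) {U V : S.affineOpens} (h : Rel U V) :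
    IsOpenImmersion (Proj.map (𝒮.res U.2 V.2 h.le) (h.irr 𝒮)) := by
  have : IsOpenImmersion (Proj.map (𝒮.res U.2 V.2 h.le) (h.irr 𝒮) ≫ emb p chart U.1 U.2) := by
    rw [h.emb_eq hP]; infer_instance
  exact IsOpenImmersion.of_comp _ (emb p chart U.1 U.2)

theorem Rel.le_opensRange (hP : IsRelProj 𝒮 p chart) {U V : S.affineOpens} (h : Rel U V) (W : P.Opens)
    (hW : W ≤ p ⁻¹ᵁ V.1) :
    have := h.isOpenImmersion hP
    emb p chart U.1 U.2 ⁻¹ᵁ W ≤ (Proj.map (𝒮.res U.2 V.2 h.le) (h.irr 𝒮)).opensRange := by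
  intro this x hx
  have h1 : (emb p chart U.1 U.2).base x ∈ p ⁻¹ᵁ V.1 := hW hx
  rw [← RelProjMap.opensRange_emb (chart := chart) V.1 V.2] at h1
  obtain ⟨y, hy⟩ := h1
  rw [← h.emb_eq hP] at hy
  exact ⟨y, (emb p chart U.1 U.2).isOpenEmbedding.injective hy⟩

theorem exists_rel (U V : S.affineOpens) (x : S) (hxU : x ∈ U.1) (hxV : x ∈ V.1) :
    ∃ W, Rel U W ∧ Rel V W ∧ x ∈ W.1 := by
  obtain ⟨f, g, hfg, hx⟩ := exists_basicOpen_le_affine_inter U.2 V.2 x ⟨hxU, hxV⟩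
  exact ⟨⟨S.basicOpen f, U.2.basicOpen f⟩, ⟨f, rfl⟩, ⟨g, hfg.symm⟩, hx⟩

section glue

variable (hP : IsRelProj 𝒮 p chart)
  (T : ∀ U : S.affineOpens, (Proj (𝒮.deg U.1 U.2)).Modules)
  (c : ∀ {U V : S.affineOpens} (h : Rel U V),
    T U ⟶ (Scheme.Modules.pushforward (Proj.map (𝒮.res U.2 V.2 h.le) (h.irr 𝒮))).obj (T V))

/-- The transition morphisms. -/
abbrev tau {U V : S.affineOpens} (h : Rel U V) :
    (Scheme.Modules.pushforward (emb p chart U.1 U.2)).obj (T U) ⟶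
      (Scheme.Modules.pushforward (emb p chart V.1 V.2)).obj (T V) :=
  push (Proj.map (𝒮.res U.2 V.2 h.le) (h.irr 𝒮)) (emb p chart U.1 U.2) (emb p chart V.1 V.2) (h.emb_eq hP) (c h)

/-- Gluing along the charts of a relative Proj. -/
theorem exists_glued
    (hbij : ∀ {U V : S.affineOpens} (h : Rel U V) (W : P.Opens), W ≤ p ⁻¹ᵁ V.1 →
      Function.Bijective ((c h).app (emb p chart U.1 U.2 ⁻¹ᵁ W)))
    (hcomp : ∀ {U V W : S.affineOpens} (h : Rel U V) (h' : Rel V W),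
      tau hP T c h ≫ tau hP T c h' = tau hP T c (h.trans h')) :
    ∃ (F : P.Modules) (lam : ∀ U : S.affineOpens,
      F ⟶ (Scheme.Modules.pushforward (emb p chart U.1 U.2)).obj (T U)),
      (∀ (U : S.affineOpens) (W : P.Opens), W ≤ p ⁻¹ᵁ U.1 → Function.Bijective ((lam U).app W)) ∧
      (∀ {U V : S.affineOpens} (h : Rel U V), lam U ≫ tau hP T c h = lam V) := by
  let D : Datum P :=
    { I := S.affineOpens
      W := fun U => p ⁻¹ᵁ U.1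
      T := fun U => (Scheme.Modules.pushforward (emb p chart U.1 U.2)).obj (T U)
      R := Rel
      τ := fun h => tau hP T c h
      W_le := fun h => p.preimage_mono h.le
      trans := Rel.trans
      τ_comp := hcomp
      bij := fun {U V} h W hW => push_bijective _ _ _ _ _ W (hbij h W hW)
      supp := fun U V => push_supp _ _ _ (by
        rw [← RelProjMap.opensRange_emb (chart := chart) U.1 U.2]
        exact (emb p chart U.1 U.2).preimage_opensRange) V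
      dir := fun U V x hxU hxV => by
        obtain ⟨W, h1, h2, h3⟩ := exists_rel U V (p.base x) hxU hxV
        exact ⟨W, h1, h2, h3⟩ }
  exact ⟨glued D, fun U => lam D U, fun U W hW => lam_bijective D U hW, fun h => lam_τ D h⟩

end glue

section comp

open GrMod

variable {A σ : Type u} [CommRing A] [SetLike σ A] [AddSubgroupClass σ A] {𝒜 : ℕ → σ} [GradedRing 𝒜]
variable {M τ : Type u} [AddCommGroup M] [Module A M] [SetLike τ M] [AddSubgroupClass τ M] {ℳ : ℕ → τ}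
variable {B σ' : Type u} [CommRing B] [SetLike σ' B] [AddSubgroupClass σ' B] {ℬ : ℕ → σ'} [GradedRing ℬ]
variable {N : Type u} [AddCommGroup N] [Module B N]
variable {C σ'' : Type u} [CommRing C] [SetLike σ'' C] [AddSubgroupClass σ'' C] {𝒞 : ℕ → σ''} [GradedRing 𝒞]
variable {L : Type u} [AddCommGroup L] [Module C L]

theorem comap_comap (ψ₁ : 𝒜 →+*ᵍ ℬ) (hψ₁ : ℬ₊ ≤ (𝒜₊).map ψ₁) (ψ₂ : ℬ →+*ᵍ 𝒞) (hψ₂ : 𝒞₊ ≤ (ℬ₊).map ψ₂)
    (ψ₃ : 𝒜 →+*ᵍ 𝒞) (hψ₃ : 𝒞₊ ≤ (𝒜₊).map ψ₃) (e : ∀ a, ψ₃ a = ψ₂ (ψ₁ a)) (y : ProjectiveSpectrum 𝒞) :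
    ProjectiveSpectrum.comap ψ₁ hψ₁ (ProjectiveSpectrum.comap ψ₂ hψ₂ y) = ProjectiveSpectrum.comap ψ₃ hψ₃ y := by
  apply ProjectiveSpectrum.ext
  apply HomogeneousIdeal.ext
  ext a
  change ψ₂ (ψ₁ a) ∈ y.asHomogeneousIdeal ↔ ψ₃ a ∈ y.asHomogeneousIdeal
  rw [e]

/-- The composite of two comparison maps on values. -/
theorem locModMap_locModMap (ψ₁ : 𝒜 →+*ᵍ ℬ) (hψ₁ : ℬ₊ ≤ (𝒜₊).map ψ₁) (v₁ : M →ₛₗ[ψ₁.toRingHom] N)
    (ψ₂ : ℬ →+*ᵍ 𝒞) (hψ₂ : 𝒞₊ ≤ (ℬ₊).map ψ₂) (v₂ : N →ₛₗ[ψ₂.toRingHom] L)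
    (ψ₃ : 𝒜 →+*ᵍ 𝒞) (hψ₃ : 𝒞₊ ≤ (𝒜₊).map ψ₃) (v₃ : M →ₛₗ[ψ₃.toRingHom] L)
    (e : ∀ a, ψ₃ a = ψ₂ (ψ₁ a)) (ev : ∀ m, v₃ m = v₂ (v₁ m)) (y : ProjectiveSpectrum 𝒞)
    {n : ℤ} (U : Opens (ProjectiveSpectrum.top 𝒜)) (s : ∀ x : U, tildeAt 𝒜 ℳ n x.1)
    (h₁ : ProjectiveSpectrum.comap ψ₁ hψ₁ (ProjectiveSpectrum.comap ψ₂ hψ₂ y) ∈ U)
    (h₂ : ProjectiveSpectrum.comap ψ₃ hψ₃ y ∈ U) :
    locModMap ψ₂ hψ₂ v₂ y (locModMap ψ₁ hψ₁ v₁ (ProjectiveSpectrum.comap ψ₂ hψ₂ y) (s ⟨_, h₁⟩).1) =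
      locModMap ψ₃ hψ₃ v₃ y (s ⟨_, h₂⟩).1 := by
  have hpt := comap_comap ψ₁ hψ₁ ψ₂ hψ₂ ψ₃ hψ₃ e y
  have val_mk : ∀ (x x' : ProjectiveSpectrum 𝒜) (hx : x ∈ U) (hx' : x' ∈ U) (_ : x' = x) (m : M) (f : A)
      (hf : f ∈ x.asHomogeneousIdeal.toIdeal.primeCompl) (hf' : f ∈ x'.asHomogeneousIdeal.toIdeal.primeCompl)
      (_ : (s ⟨x, hx⟩).1 = LocalizedModule.mk m ⟨f, hf⟩),
      (s ⟨x', hx'⟩).1 = LocalizedModule.mk m ⟨f, hf'⟩ := by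
    rintro x _ hx hx' rfl m f hf hf' hq
    exact hq
  obtain ⟨m, f, hmf⟩ : ∃ (m : M) (f : (ProjectiveSpectrum.comap ψ₃ hψ₃ y).asHomogeneousIdeal.toIdeal.primeCompl),
      (s ⟨_, h₂⟩).1 = LocalizedModule.mk m f := by
    generalize (s ⟨_, h₂⟩).1 = q
    induction q using LocalizedModule.induction_on with
    | h m f => exact ⟨m, f, rfl⟩
  have hf₁ : (f : A) ∈ (ProjectiveSpectrum.comap ψ₁ hψ₁
      (ProjectiveSpectrum.comap ψ₂ hψ₂ y)).asHomogeneousIdeal.toIdeal.primeCompl := by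
    rw [hpt]; exact f.2
  have e2 := val_mk _ _ h₂ h₁ hpt m f.1 f.2 hf₁ hmf
  rw [hmf, e2, locModMap_mk, locModMap_mk, locModMap_mk, ev]
  congr 1
  exact Subtype.ext (e _).symm

end comp

section tilde

variable (hP : IsRelProj 𝒮 p chart) (ℳ : GrModule 𝒮) (n : ℤ)

/-- The comparison of the tilde modules. -/
abbrev cT {U V : S.affineOpens} (h : Rel U V) : GrMod.tilde (𝒮.deg U.1 U.2) (ℳ.deg U.1 U.2) n ⟶
    (Scheme.Modules.pushforward (Proj.map (𝒮.res U.2 V.2 h.le) (h.irr 𝒮))).obj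
      (GrMod.tilde (𝒮.deg V.1 V.2) (ℳ.deg V.1 V.2) n) :=
  GrMod.comap (𝒮.res U.2 V.2 h.le) (h.irr 𝒮) (ℳ.res U.2 V.2 h.le) (ℳ.res_mem U.2 V.2 h.le) n

theorem isLoc (hℳ : Coh.IsQCoh ((AMod.toOS 𝒮.toQCAlg).obj ℳ.mod)) {U V : S.affineOpens} (h : Rel U V) :
    ∃ r, ComapLoc.IsLoc (𝒮.res U.2 V.2 h.le) (ℳ.res U.2 V.2 h.le) (ℳ.deg U.1 U.2) (ℳ.deg V.1 V.2) r := by
  obtain ⟨V, hV⟩ := V
  obtain ⟨r, hr⟩ := id h
  dsimp at hr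
  subst hr
  exact ⟨_, RelComap.isLoc_mod U.1 U.2 r ℳ hℳ⟩

include hP in
theorem cT_bijective (hℳ : Coh.IsQCoh ((AMod.toOS 𝒮.toQCAlg).obj ℳ.mod)) {U V : S.affineOpens} (h : Rel U V)
    (W : P.Opens) (hW : W ≤ p ⁻¹ᵁ V.1) : Function.Bijective ((cT ℳ n h).app (emb p chart U.1 U.2 ⁻¹ᵁ W)) := by
  obtain ⟨r, hr⟩ := isLoc ℳ hℳ h
  have := h.isOpenImmersion hP
  exact ComapLoc.bijective_comapApp _ hr n _ _ (h.le_opensRange hP W hW) _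

theorem res_res (U V W : S.Opens) (hU : IsAffineOpen U) (hV : IsAffineOpen V) (hW : IsAffineOpen W)
    (h : V ≤ U) (h' : W ≤ V) (a : 𝒮.presheaf.obj (op U)) :
    𝒮.res hU hW (h'.trans h) a = 𝒮.res hV hW h' (𝒮.res hU hV h a) := by
  change (𝒮.presheaf.map _).hom a = (𝒮.presheaf.map _ ≫ 𝒮.presheaf.map _).hom a
  rw [← Functor.map_comp]
  rfl

theorem mres_mres (U V W : S.Opens) (hU : IsAffineOpen U) (hV : IsAffineOpen V) (hW : IsAffineOpen W)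
    (h : V ≤ U) (h' : W ≤ V) (a : ℳ.mod.val.obj (op U)) :
    ℳ.res hU hW (h'.trans h) a = ℳ.res hV hW h' (ℳ.res hU hV h a) := by
  change (ℳ.mod.val.presheaf.map _) a = (ℳ.mod.val.presheaf.map _ ≫ ℳ.mod.val.presheaf.map _) a
  rw [← Functor.map_comp]
  rfl

theorem cT_comp {U V W : S.affineOpens} (h : Rel U V) (h' : Rel V W) :
    tau hP _ (cT ℳ n) h ≫ tau hP _ (cT ℳ n) h' = tau hP _ (cT ℳ n) (h.trans h') := by
  ext O s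
  refine Subtype.ext (funext fun y => Subtype.ext ?_)
  exact locModMap_locModMap (𝒮.res U.2 V.2 h.le) (h.irr 𝒮) (ℳ.res U.2 V.2 h.le)
    (𝒮.res V.2 W.2 h'.le) (h'.irr 𝒮) (ℳ.res V.2 W.2 h'.le)
    (𝒮.res U.2 W.2 (h.trans h').le) ((h.trans h').irr 𝒮) (ℳ.res U.2 W.2 (h.trans h').le)
    (res_res _ _ _ _ _ _ _ _) (mres_mres ℳ _ _ _ _ _ _ _ _) y.1 _ _ _ _

include hP in
/-- Existence of `(ℳ(n))~`. -/
theorem exists_isRelTilde (hℳ : Coh.IsQCoh ((AMod.toOS 𝒮.toQCAlg).obj ℳ.mod)) :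
    ∃ (F : P.Modules) (lam : ∀ (U : S.Opens) (hU : IsAffineOpen U),
      F ⟶ (Scheme.Modules.pushforward (RelProj.emb p chart U hU)).obj (GrMod.tilde (𝒮.deg U hU) (ℳ.deg U hU) n)),
      RelProj.IsRelTilde 𝒮 p chart ℳ n F lam := by
  obtain ⟨F, lam, hlam, hcompat⟩ := exists_glued hP _ (cT ℳ n) (cT_bijective hP ℳ n hℳ) (cT_comp hP ℳ n)
  refine ⟨F, fun U hU => lam ⟨U, hU⟩, ⟨fun U hU W hW => hlam ⟨U, hU⟩ W hW, fun U hU r W s y hy hy' => ?_⟩⟩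
  have h : Rel ⟨U, hU⟩ ⟨S.basicOpen r, hU.basicOpen r⟩ := ⟨r, rfl⟩
  have h2 := hcompat h
  have h3 : (lam ⟨S.basicOpen r, hU.basicOpen r⟩).app W s = (tau hP _ (cT ℳ n) h).app W ((lam ⟨U, hU⟩).app W s) :=
    congr(($h2).app W s).symm
  rw [h3]
  rfl

end tilde

section twist

open GrMod

section ring

variable {A σ : Type u} [CommRing A] [SetLike σ A] [AddSubgroupClass σ A] {𝒜 : ℕ → σ} [GradedRing 𝒜]
variable {B σ' : Type u} [CommRing B] [SetLike σ' B] [AddSubgroupClass σ' B] {ℬ : ℕ → σ'} [GradedRing ℬ]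
variable {C σ'' : Type u} [CommRing C] [SetLike σ'' C] [AddSubgroupClass σ'' C] {𝒞 : ℕ → σ''} [GradedRing 𝒞]

theorem locMap_eq (ψ : 𝒜 →+*ᵍ ℬ) (hψ : ℬ₊ ≤ (𝒜₊).map ψ) (y : ProjectiveSpectrum ℬ)
    (q : GrTwist.Loc 𝒜 (ProjectiveSpectrum.comap ψ hψ y)) :
    GrTwist.locMap ψ hψ y q = locModMap ψ hψ ψ.toRingHom.toSemilinearMap y q := by
  induction q using Localization.induction_on with
  | H p =>
    obtain ⟨a, s⟩ := p
    exact GrTwist.locMap_mk ψ hψ y a s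

theorem bijective_twist_comapApp {ψ : 𝒜 →+*ᵍ ℬ} (hψ : ℬ₊ ≤ (𝒜₊).map ψ) {r : A}
    (hr : ComapLoc.IsLoc ψ ψ.toRingHom.toSemilinearMap 𝒜 ℬ r) (n : ℤ) [IsOpenImmersion (Proj.map ψ hψ)]
    (U : (Proj 𝒜).Opens) (hU : U ≤ (Proj.map ψ hψ).opensRange)
    (hUV : (Proj.map ψ hψ ⁻¹ᵁ U).1 ⊆ ProjectiveSpectrum.comap ψ hψ ⁻¹' U.1) :
    Function.Bijective (GrTwist.comapApp ψ hψ n U (Proj.map ψ hψ ⁻¹ᵁ U) hUV) := by
  have h1 := ComapLoc.bijective_comapApp hψ hr n (fun i m hm => ψ.map_mem hm) U hU hUV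
  have e : ∀ s : GrTwist.sectN (𝒜 := 𝒜) n (op U), GrTwist.comapApp ψ hψ n U (Proj.map ψ hψ ⁻¹ᵁ U) hUV s =
      (GrMod.comapApp ψ hψ ψ.toRingHom.toSemilinearMap (ℳ := 𝒜) (𝒩 := ℬ) (fun i m hm => ψ.map_mem hm) n U
        (Proj.map ψ hψ ⁻¹ᵁ U) hUV (show GrMod.sect 𝒜 𝒜 n (op U) from s) : GrTwist.sectN (𝒜 := ℬ) n _) := by
    intro s
    refine Subtype.ext (funext fun y => Subtype.ext ?_)
    exact locMap_eq ψ hψ y.1 _
  constructor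
  · intro s t hst
    rw [e s, e t] at hst
    exact h1.1 hst
  · intro t
    obtain ⟨s, hs⟩ := h1.2 t
    exact ⟨s, (e s).trans hs⟩

/-- The composite of two comparison maps on values. -/
theorem locMap_locMap (ψ₁ : 𝒜 →+*ᵍ ℬ) (hψ₁ : ℬ₊ ≤ (𝒜₊).map ψ₁)
    (ψ₂ : ℬ →+*ᵍ 𝒞) (hψ₂ : 𝒞₊ ≤ (ℬ₊).map ψ₂)
    (ψ₃ : 𝒜 →+*ᵍ 𝒞) (hψ₃ : 𝒞₊ ≤ (𝒜₊).map ψ₃)
    (e : ∀ a, ψ₃ a = ψ₂ (ψ₁ a)) (y : ProjectiveSpectrum 𝒞)
    {n : ℤ} (U : Opens (ProjectiveSpectrum.top 𝒜)) (s : ∀ x : U, GrTwist.twistAt 𝒜 n x.1)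
    (h₁ : ProjectiveSpectrum.comap ψ₁ hψ₁ (ProjectiveSpectrum.comap ψ₂ hψ₂ y) ∈ U)
    (h₂ : ProjectiveSpectrum.comap ψ₃ hψ₃ y ∈ U) :
    GrTwist.locMap ψ₂ hψ₂ y (GrTwist.locMap ψ₁ hψ₁ (ProjectiveSpectrum.comap ψ₂ hψ₂ y) (s ⟨_, h₁⟩).1) =
      GrTwist.locMap ψ₃ hψ₃ y (s ⟨_, h₂⟩).1 := by
  rw [locMap_eq, locMap_eq, locMap_eq]
  exact locModMap_locModMap ψ₁ hψ₁ ψ₁.toRingHom.toSemilinearMap ψ₂ hψ₂ ψ₂.toRingHom.toSemilinearMap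
    ψ₃ hψ₃ ψ₃.toRingHom.toSemilinearMap e e y (ℳ := 𝒜) U s h₁ h₂

end ring

variable (hP : IsRelProj 𝒮 p chart) (n : ℤ)

/-- The comparison of the twisting sheaves. -/
abbrev cO {U V : S.affineOpens} (h : Rel U V) : GrTwist.twist (𝒮.deg U.1 U.2) n ⟶
    (Scheme.Modules.pushforward (Proj.map (𝒮.res U.2 V.2 h.le) (h.irr 𝒮))).obj
      (GrTwist.twist (𝒮.deg V.1 V.2) n) :=
  GrTwist.comap (𝒮.res U.2 V.2 h.le) (h.irr 𝒮) n

theorem isLoc_self {U V : S.affineOpens} (h : Rel U V) :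
    ∃ r, ComapLoc.IsLoc (𝒮.res U.2 V.2 h.le) (𝒮.res U.2 V.2 h.le).toRingHom.toSemilinearMap
      (𝒮.deg U.1 U.2) (𝒮.deg V.1 V.2) r := by
  obtain ⟨V, hV⟩ := V
  obtain ⟨r, hr⟩ := id h
  dsimp at hr
  subst hr
  exact ⟨_, RelComap.isLoc_self 𝒮 U.1 U.2 r⟩

include hP in
theorem cO_bijective {U V : S.affineOpens} (h : Rel U V)
    (W : P.Opens) (hW : W ≤ p ⁻¹ᵁ V.1) : Function.Bijective ((cO (𝒮 := 𝒮) n h).app (emb p chart U.1 U.2 ⁻¹ᵁ W)) := by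
  obtain ⟨r, hr⟩ := isLoc_self h
  have := h.isOpenImmersion hP
  exact bijective_twist_comapApp (h.irr 𝒮) hr n _ (h.le_opensRange hP W hW) Set.Subset.rfl

theorem cO_comp {U V W : S.affineOpens} (h : Rel U V) (h' : Rel V W) :
    tau hP _ (cO n) h ≫ tau hP _ (cO n) h' = tau hP _ (cO n) (h.trans h') := by
  ext O s
  refine Subtype.ext (funext fun y => Subtype.ext ?_)
  exact locMap_locMap (𝒮.res U.2 V.2 h.le) (h.irr 𝒮)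
    (𝒮.res V.2 W.2 h'.le) (h'.irr 𝒮)
    (𝒮.res U.2 W.2 (h.trans h').le) ((h.trans h').irr 𝒮)
    (res_res _ _ _ _ _ _ _ _) y.1 _ _ _ _

include hP in
/-- Existence of `O_P(n)`. -/
theorem exists_isRelTwist :
    ∃ (F : P.Modules) (lam : ∀ (U : S.Opens) (hU : IsAffineOpen U),
      F ⟶ (Scheme.Modules.pushforward (RelProj.emb p chart U hU)).obj (GrTwist.twist (𝒮.deg U hU) n)),
      RelProj.IsRelTwist 𝒮 p chart n F lam := by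
  obtain ⟨F, lam, hlam, hcompat⟩ := exists_glued hP _ (cO n) (cO_bijective hP n) (cO_comp hP n)
  refine ⟨F, fun U hU => lam ⟨U, hU⟩, ⟨fun U hU W hW => hlam ⟨U, hU⟩ W hW, fun U hU r W s y hy hy' => ?_⟩⟩
  have h : Rel ⟨U, hU⟩ ⟨S.basicOpen r, hU.basicOpen r⟩ := ⟨r, rfl⟩
  have h2 := hcompat h
  have h3 : (lam ⟨S.basicOpen r, hU.basicOpen r⟩).app W s = (tau hP _ (cO n) h).app W ((lam ⟨U, hU⟩).app W s) :=
    congr(($h2).app W s).symm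
  rw [h3]
  rfl

end twist

end K36.TildeEx

end
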