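import Groth.Agent.EGA2.K36.QCAlgAff
import Groth.Agent.CohqB.AlgSym

/-!
# The symmetric algebra of a quasi-coherent module

* `symHom E A j U : Sym(E(U)) → A(U)` for a module map `j : E ⟶ A` into a quasi-coherent algebra.
* `isSymAlg_of_bijective`: if `symHom` is bijective over every affine open then `(A, j)` is the symmetric algebra.
* `exists_symAlg`: existence for `E` quasi-coherent, with `symHom` bijective over the affine opens.
* `bijective_symHom`: for `E` quasi-coherent and any symmetric algebra `(A, j)`, `symHom` is bijective over affine opens.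
-/

set_option autoImplicit false
universe u

open CategoryTheory CategoryTheory.Limits AlgebraicGeometry Opposite TopologicalSpace

namespace K36.SymAlg

open Groth.Agent.CohqB.SymLoc K36.QCAlgAff

variable {S : Scheme.{u}} (E : S.Modules) (A : RelSpec.QCAlg S) (j : E ⟶ A.toModule)

/-- The additive map underlying `j` over an open. -/
noncomputable def jApp (U : S.Opens) : Γ(E, U) →+ A.presheaf.obj (op U) := (j.app U).hom

theorem jApp_apply (U : S.Opens) (m : Γ(E, U)) : jApp E A j U m = j.app U m := rfl

theorem jApp_smul (U : S.Opens) (r : Γ(S, U)) (m : Γ(E, U)) :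
    jApp E A j U (r • m) = (A.str.app (op U)).hom r * jApp E A j U m :=
  Scheme.Modules.Hom.app_smul j r m

theorem jApp_res {U V : S.Opens} (h : V ≤ U) (m : Γ(E, U)) :
    jApp E A j V (E.presheaf.map (homOfLE h).op m) = (A.presheaf.map (homOfLE h).op).hom (jApp E A j U m) :=
  Groth.Agent.Sga67.Sec.appS_res j h m

/-- The ring homomorphism `Sym(E(U)) → A(U)`. -/
noncomputable def symHom (U : S.Opens) : SymmetricAlgebra Γ(S, U) Γ(E, U) →+* A.presheaf.obj (op U) :=
  desc (A.str.app (op U)).hom (jApp E A j U) (jApp_smul E A j U)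

theorem symHom_algebraMap (U : S.Opens) (r : Γ(S, U)) :
    symHom E A j U (algebraMap _ _ r) = (A.str.app (op U)).hom r := desc_algebraMap _ _ _ r

theorem symHom_ι (U : S.Opens) (m : Γ(E, U)) :
    symHom E A j U (SymmetricAlgebra.ι _ _ m) = jApp E A j U m := desc_ι _ _ _ m

/-- Restriction maps of the symmetric algebras of sections. -/
noncomputable def symRes {U V : S.Opens} (h : V ≤ U) :
    SymmetricAlgebra Γ(S, U) Γ(E, U) →+* SymmetricAlgebra Γ(S, V) Γ(E, V) :=
  symMap (S.presheaf.map (homOfLE h).op).hom (E.presheaf.map (homOfLE h).op).hom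
    (fun r m => Scheme.Modules.map_smul E (homOfLE h) r m)

theorem symHom_res {U V : S.Opens} (h : V ≤ U) :
    (symHom E A j V).comp (symRes E h) = (A.presheaf.map (homOfLE h).op).hom.comp (symHom E A j U) := by
  apply ringHom_ext
  · intro r
    rw [RingHom.comp_apply, RingHom.comp_apply, symRes, symMap_algebraMap, symHom_algebraMap, symHom_algebraMap]
    exact congr($(A.str.naturality (homOfLE h).op) r)
  · intro m
    rw [RingHom.comp_apply, RingHom.comp_apply, symRes, symMap_ι, symHom_ι, symHom_ι]
    exact jApp_res E A j h m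

variable {E A j}

/-- Post-composition with a homomorphism of algebras. -/
theorem comp_symHom {B : RelSpec.QCAlg S} (ψ : A ⟶ B) {φ : E ⟶ B.toModule}
    (h : j ≫ RelSpec.QCAlg.Hom.toModuleMap ψ = φ) (U : S.Opens) :
    (ψ.hom.app (op U)).hom.comp (symHom E A j U) = symHom E B φ U := by
  apply ringHom_ext
  · intro r
    rw [RingHom.comp_apply, symHom_algebraMap, symHom_algebraMap]
    exact congr($(NatTrans.congr_app ψ.comm (op U)) r)
  · intro m
    rw [RingHom.comp_apply, symHom_ι, symHom_ι, ← h]
    rfl

/-- The algebra homomorphism extends the module map iff it does so over the affine opens. -/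
theorem comp_eq_of_affine {B : RelSpec.QCAlg S} (ψ : A ⟶ B) {φ : E ⟶ B.toModule}
    (h : ∀ (U : S.Opens), IsAffineOpen U → (ψ.hom.app (op U)).hom.comp (symHom E A j U) = symHom E B φ U) :
    j ≫ RelSpec.QCAlg.Hom.toModuleMap ψ = φ := by
  apply mod_hom_ext
  intro U hU m
  have := congr($(h U hU) (SymmetricAlgebra.ι _ _ m))
  rw [RingHom.comp_apply, symHom_ι, symHom_ι] at this
  exact this

/-- If `Sym(E(U)) → A(U)` is bijective for every affine open `U`, then `A` is the symmetric algebra of `E`. -/
theorem isSymAlg_of_bijective (h : ∀ (U : S.Opens), IsAffineOpen U → Function.Bijective (symHom E A j U)) :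
    RelSpec.IsSymAlg E A j := by
  intro B φ
  let e : ∀ (U : S.Opens) (_ : IsAffineOpen U), SymmetricAlgebra Γ(S, U) Γ(E, U) ≃+* A.presheaf.obj (op U) :=
    fun U hU => RingEquiv.ofBijective _ (h U hU)
  have he : ∀ (U : S.Opens) (hU : IsAffineOpen U) (x), (e U hU) x = symHom E A j U x := fun _ _ _ => rfl
  obtain ⟨ψ, hψ⟩ := exists_hom (A := A) (B := B)
    (fun U hU => CommRingCat.ofHom ((symHom E B φ U).comp (e U hU).symm.toRingHom))
    (fun U hU r => by
      ext x
      obtain ⟨y, rfl⟩ := (e U hU).surjective x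
      have h1 : (A.presheaf.map (homOfLE (S.basicOpen_le r)).op).hom (e U hU y) =
          e (S.basicOpen r) (hU.basicOpen r) (symRes E (S.basicOpen_le r) y) :=
        congr($(symHom_res E A j (S.basicOpen_le r)) y).symm
      have h2 : (B.presheaf.map (homOfLE (S.basicOpen_le r)).op).hom (symHom E B φ U y) =
          symHom E B φ (S.basicOpen r) (symRes E (S.basicOpen_le r) y) :=
        congr($(symHom_res E B φ (S.basicOpen_le r)) y).symm
      change symHom E B φ (S.basicOpen r) ((e (S.basicOpen r) (hU.basicOpen r)).symm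
        ((A.presheaf.map (homOfLE (S.basicOpen_le r)).op).hom (e U hU y))) =
        (B.presheaf.map (homOfLE (S.basicOpen_le r)).op).hom (symHom E B φ U ((e U hU).symm (e U hU y)))
      rw [h1, RingEquiv.symm_apply_apply, RingEquiv.symm_apply_apply, h2])
    (fun U hU => by
      ext r
      have h1 : (A.str.app (op U)).hom r = e U hU (algebraMap _ _ r) := (symHom_algebraMap E A j U r).symm
      change symHom E B φ U ((e U hU).symm ((A.str.app (op U)).hom r)) = (B.str.app (op U)).hom r
      rw [h1, RingEquiv.symm_apply_apply, symHom_algebraMap])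
  refine ⟨ψ, comp_eq_of_affine ψ fun U hU => ?_, fun ψ' hψ' => ?_⟩
  · refine RingHom.ext fun y => ?_
    rw [RingHom.comp_apply, hψ U hU]
    change symHom E B φ U ((e U hU).symm (e U hU y)) = _
    rw [RingEquiv.symm_apply_apply]
  · refine hom_ext_affine fun U hU => ?_
    rw [hψ U hU]
    ext x
    obtain ⟨y, rfl⟩ := (e U hU).surjective x
    change (ψ'.hom.app (op U)).hom (e U hU y) = symHom E B φ U ((e U hU).symm (e U hU y))
    rw [RingEquiv.symm_apply_apply]
    exact congr($(comp_symHom ψ' hψ' U) y)

section existence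

open Groth.Agent.CohqB

variable (hE : Coh.IsQCoh E)

/-- The symmetric algebra, as a quasi-coherent algebra. -/
noncomputable def symAlg : RelSpec.QCAlg S := ofAff (AlgSym.coequifibered hE)

/-- Its sections over the affine opens. -/
noncomputable def sec (U : S.Opens) (hU : IsAffineOpen U) :
    (symAlg hE).presheaf.obj (op U) ≃+* SymmetricAlgebra Γ(S, U) Γ(E, U) :=
  (asIso (secAff (AlgSym.coequifibered hE) U hU)).commRingCatIsoToRingEquiv

theorem sec_apply (U : S.Opens) (hU : IsAffineOpen U) (x : (symAlg hE).presheaf.obj (op U)) :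
    sec hE U hU x = (secAff (AlgSym.coequifibered hE) U hU).hom x := rfl

theorem sec_str (U : S.Opens) (hU : IsAffineOpen U) (r : Γ(S, U)) :
    sec hE U hU (((symAlg hE).str.app (op U)).hom r) = algebraMap _ _ r :=
  congr($(str_secAff (AlgSym.coequifibered hE) U hU) r)

theorem sec_res (U : S.Opens) (hU : IsAffineOpen U) (r : Γ(S, U)) (x : (symAlg hE).presheaf.obj (op U)) :
    sec hE (S.basicOpen r) (hU.basicOpen r) (((symAlg hE).presheaf.map (homOfLE (S.basicOpen_le r)).op).hom x) =
      symRes E (S.basicOpen_le r) (sec hE U hU x) :=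
  congr($(secAff_res (AlgSym.coequifibered hE) U hU r) x)

/-- The universal module map. -/
theorem exists_j : ∃ j : E ⟶ (symAlg hE).toModule, ∀ (U : S.Opens) (hU : IsAffineOpen U) (m : Γ(E, U)),
    sec hE U hU (jApp E (symAlg hE) j U m) = SymmetricAlgebra.ι _ _ m := by
  obtain ⟨j, hj⟩ := exists_mod_hom (M := E) (N := (symAlg hE).toModule)
    (fun U hU => ((sec hE U hU).symm.toRingHom.toAddMonoidHom.comp
      (SymmetricAlgebra.ι Γ(S, U) Γ(E, U)).toAddMonoidHom : Γ(E, U) →+ (symAlg hE).presheaf.obj (op U)))
    (fun U hU r m => by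
      apply (sec hE U hU).injective
      have h1 : sec hE U hU ((sec hE U hU).symm (SymmetricAlgebra.ι Γ(S, U) Γ(E, U) (r • m))) =
        SymmetricAlgebra.ι Γ(S, U) Γ(E, U) (r • m) := RingEquiv.apply_symm_apply _ _
      refine h1.trans ?_
      have h2 : sec hE U hU (((symAlg hE).str.app (op U)).hom r *
          (sec hE U hU).symm (SymmetricAlgebra.ι Γ(S, U) Γ(E, U) m)) =
          algebraMap _ _ r * SymmetricAlgebra.ι Γ(S, U) Γ(E, U) m := by
        rw [map_mul, sec_str, RingEquiv.apply_symm_apply]
      rw [map_smul, Algebra.smul_def]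
      exact h2.symm)
    (fun U hU r m => by
      apply (sec hE (S.basicOpen r) (hU.basicOpen r)).injective
      have h1 : sec hE (S.basicOpen r) (hU.basicOpen r) ((sec hE (S.basicOpen r) (hU.basicOpen r)).symm
        (SymmetricAlgebra.ι _ _ (E.presheaf.map (homOfLE (S.basicOpen_le r)).op m))) =
        SymmetricAlgebra.ι _ _ (E.presheaf.map (homOfLE (S.basicOpen_le r)).op m) := RingEquiv.apply_symm_apply _ _
      have h2 := sec_res hE U hU r ((sec hE U hU).symm (SymmetricAlgebra.ι _ _ m))
      rw [RingEquiv.apply_symm_apply, symRes, symMap_ι] at h2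
      exact h1.trans h2.symm)
  refine ⟨j, fun U hU m => ?_⟩
  rw [jApp_apply, hj U hU m]
  exact RingEquiv.apply_symm_apply _ _

variable (E) in
/-- Existence of the symmetric algebra with its sections over the affine opens. -/
theorem exists_symAlg (hE : Coh.IsQCoh E) : ∃ (A : RelSpec.QCAlg S) (j : E ⟶ A.toModule),
    RelSpec.IsSymAlg E A j ∧ ∀ (U : S.Opens), IsAffineOpen U → Function.Bijective (symHom E A j U) := by
  obtain ⟨j, hj⟩ := exists_j hE
  have hb : ∀ (U : S.Opens), IsAffineOpen U → Function.Bijective (symHom E (symAlg hE) j U) := by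
    intro U hU
    have h1 : symHom E (symAlg hE) j U = (sec hE U hU).symm.toRingHom := by
      apply ringHom_ext
      · intro r
        apply (sec hE U hU).injective
        rw [symHom_algebraMap, sec_str]
        exact (RingEquiv.apply_symm_apply _ _).symm
      · intro m
        apply (sec hE U hU).injective
        rw [symHom_ι, hj U hU]
        exact (RingEquiv.apply_symm_apply _ _).symm
    rw [h1]
    exact (sec hE U hU).symm.bijective
  exact ⟨symAlg hE, j, isSymAlg_of_bijective hb, hb⟩

end existence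

/-- For `E` quasi-coherent, the sections of any symmetric algebra of `E` over an affine open `U` are `Sym(E(U))`. -/
theorem bijective_symHom (hE : Coh.IsQCoh E) (hA : RelSpec.IsSymAlg E A j) (U : S.Opens) (hU : IsAffineOpen U) :
    Function.Bijective (symHom E A j U) := by
  obtain ⟨A₀, j₀, hA₀, hb⟩ := exists_symAlg E hE
  obtain ⟨v, hv, -⟩ := hA₀ A j
  obtain ⟨w, hw, -⟩ := hA A₀ j₀
  have key : ∀ {C D : RelSpec.QCAlg S} (a : C ⟶ D) (b : D ⟶ C),
      RelSpec.QCAlg.Hom.toModuleMap (a ≫ b) = RelSpec.QCAlg.Hom.toModuleMap a ≫ RelSpec.QCAlg.Hom.toModuleMap b :=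
    fun _ _ => rfl
  have hid : ∀ C : RelSpec.QCAlg S, RelSpec.QCAlg.Hom.toModuleMap (𝟙 C) = 𝟙 C.toModule := fun _ => rfl
  have h1 : v ≫ w = 𝟙 A₀ := (hA₀ A₀ j₀).unique
    (by rw [key, reassoc_of% hv, hw]) (by rw [hid, Category.comp_id])
  have h2 : w ≫ v = 𝟙 A := (hA A j).unique
    (by rw [key, reassoc_of% hw, hv]) (by rw [hid, Category.comp_id])
  have : IsIso v := ⟨w, h1, h2⟩
  rw [← comp_symHom v hv U]
  exact (bijective_of_isIso v U).comp (hb U hU)

theorem isSymAlg_iff (hE : Coh.IsQCoh E) :
    RelSpec.IsSymAlg E A j ↔ ∀ (U : S.Opens), IsAffineOpen U → Function.Bijective (symHom E A j U) :=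
  ⟨fun h => bijective_symHom hE h, isSymAlg_of_bijective⟩

end K36.SymAlg
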