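import Groth.Prelude.Def_RelSpec
import Groth.Agent.CohqB.RelSpec
import Mathlib.AlgebraicGeometry.Morphisms.ClosedImmersion

/-!
# Relative spectra: cartesian charts, properties local on the target
-/

set_option autoImplicit false
universe u

open CategoryTheory CategoryTheory.Limits AlgebraicGeometry Opposite TopologicalSpace

namespace K36.SpecLocal

variable {S : Scheme.{u}} (A : RelSpec.QCAlg S)

/-- The chart over `U` is the preimage of `U`, cartesian form. -/
theorem isPullback_ι (U : S.Opens) (hU : IsAffineOpen U) :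
    IsPullback (A.ι U hU) (Spec.map (A.str.app (op U))) A.π hU.fromSpec :=
  Groth.Agent.CohqB.RelSpec.isPullback_ι A.coequifibered ⟨U, hU⟩

/-- Morphisms out of a relative spectrum agreeing on the charts are equal. -/
theorem hom_ext {Z : Scheme.{u}} {a b : A.spec ⟶ Z}
    (h : ∀ (U : S.Opens) (hU : IsAffineOpen U), A.ι U hU ≫ a = A.ι U hU ≫ b) : a = b :=
  colimit.hom_ext fun U => h U.1 U.2

/-- The charts cover. -/
theorem exists_mem_chart (x : A.spec) : ∃ (U : S.Opens) (hU : IsAffineOpen U) (y : Spec (A.presheaf.obj (op U))),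
    A.ι U hU y = x := by
  obtain ⟨U, hU, hx, -⟩ := (Opens.isBasis_iff_nbhd.mp S.isBasis_affineOpens) (show A.π x ∈ (⊤ : S.Opens) from trivial)
  have : x ∈ A.π ⁻¹ᵁ U := hx
  rw [A.π_preimage U hU] at this
  obtain ⟨y, hy⟩ := this
  exact ⟨U, hU, y, hy⟩

variable {A}

/-- Charts of two relative spectra and the morphism induced by an algebra homomorphism form a cartesian square. -/
theorem isPullback_specMap {B : RelSpec.QCAlg S} (ψ : A ⟶ B) (U : S.Opens) (hU : IsAffineOpen U) :
    IsPullback (B.ι U hU) (Spec.map (ψ.hom.app (op U))) (RelSpec.QCAlg.specMap ψ) (A.ι U hU) := by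
  have h1 := isPullback_ι A U hU
  have h2 := isPullback_ι B U hU
  have e1 : RelSpec.QCAlg.specMap ψ ≫ A.π = B.π := RelSpec.QCAlg.specMap_π ψ
  have e2 : Spec.map (ψ.hom.app (op U)) ≫ Spec.map (A.str.app (op U)) = Spec.map (B.str.app (op U)) := by
    rw [← Spec.map_comp, ← NatTrans.comp_app, ψ.comm]
  rw [← e1, ← e2] at h2
  exact IsPullback.of_bot h2 (RelSpec.QCAlg.ι_specMap U hU ψ) h1

variable (A) in
/-- The open cover of a relative spectrum by the charts. -/
noncomputable def cover : A.spec.OpenCover := A.glueData.cover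

/-- A property of morphisms local on the target holds for `specMap ψ` if it holds over the affine opens. -/
theorem specMap_of_affine {B : RelSpec.QCAlg S} (ψ : A ⟶ B) (P : MorphismProperty Scheme.{u})
    [IsZariskiLocalAtTarget P]
    (h : ∀ (U : S.Opens), IsAffineOpen U → P (Spec.map (ψ.hom.app (op U)))) : P (RelSpec.QCAlg.specMap ψ) := by
  rw [IsZariskiLocalAtTarget.iff_of_openCover (P := P) (cover A)]
  intro U
  let U' : S.AffineZariskiSite := U
  have h1 := isPullback_specMap ψ U'.1 U'.2
  have h3 : pullback.snd (RelSpec.QCAlg.specMap ψ) (A.ι U'.1 U'.2) =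
      h1.isoPullback.inv ≫ Spec.map (ψ.hom.app (op U'.1)) := by
    simp
  change P (pullback.snd (RelSpec.QCAlg.specMap ψ) (A.ι U'.1 U'.2))
  rw [h3, P.cancel_left_of_respectsIso]
  exact h U'.1 U'.2

variable (A) in
/-- A property of morphisms local on the target holds for `π` if it holds over the affine opens. -/
theorem π_of_affine (P : MorphismProperty Scheme.{u}) [IsZariskiLocalAtTarget P]
    (h : ∀ (U : S.Opens), IsAffineOpen U → P (Spec.map (A.str.app (op U)))) : P A.π :=
  Groth.Agent.CohqB.RelSpec.toBase_of_spec A.coequifibered P fun U => h U.1 U.2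

variable (A) in
theorem locallyOfFiniteType_π (h : ∀ (U : S.Opens), IsAffineOpen U → (A.str.app (op U)).hom.FiniteType) :
    LocallyOfFiniteType A.π := by
  apply π_of_affine A (@LocallyOfFiniteType : MorphismProperty Scheme.{u})
  intro U hU
  exact (HasRingHomProperty.Spec_iff (P := @LocallyOfFiniteType)).2 (h U hU)

theorem isClosedImmersion_specMap {B : RelSpec.QCAlg S} (ψ : A ⟶ B)
    (h : ∀ (U : S.Opens), IsAffineOpen U → Function.Surjective (ψ.hom.app (op U)).hom) :
    IsClosedImmersion (RelSpec.QCAlg.specMap ψ) := by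
  apply specMap_of_affine ψ @IsClosedImmersion
  intro U hU
  exact IsClosedImmersion.spec_of_surjective _ (h U hU)

instance isAffineHom_specMap {B : RelSpec.QCAlg S} (ψ : A ⟶ B) : IsAffineHom (RelSpec.QCAlg.specMap ψ) := by
  apply specMap_of_affine ψ (@IsAffineHom : MorphismProperty Scheme.{u})
  intro U hU
  infer_instance

theorem specMap_id : RelSpec.QCAlg.specMap (𝟙 A) = 𝟙 A.spec :=
  hom_ext A fun U hU => by
    rw [RelSpec.QCAlg.ι_specMap, Category.comp_id, RelSpec.QCAlg.id_hom, NatTrans.id_app, Spec.map_id,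
      Category.id_comp]

theorem specMap_comp {B C : RelSpec.QCAlg S} (ψ : A ⟶ B) (χ : B ⟶ C) :
    RelSpec.QCAlg.specMap (ψ ≫ χ) = RelSpec.QCAlg.specMap χ ≫ RelSpec.QCAlg.specMap ψ :=
  hom_ext C fun U hU => by
    rw [RelSpec.QCAlg.ι_specMap, ← Category.assoc, RelSpec.QCAlg.ι_specMap, Category.assoc,
      RelSpec.QCAlg.ι_specMap, RelSpec.QCAlg.comp_hom, NatTrans.comp_app, Spec.map_comp, Category.assoc]

end K36.SpecLocal
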