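import Groth.Agent.EGA2.K36.SymAlg
import Groth.Agent.EGA2.K36.SpecLocal
import Groth.Agent.EGA2.K34.FtSub
import Groth.Agent.Sga67.CohBasic
import Groth.Agent.Ega2.QCohLocal
/-!
# Affine morphisms of finite type embed into vector bundles

* `mor f ψ : X ⟶ A.spec` attached to an algebra homomorphism `ψ : A ⟶ f_* O_X`; `mor_π`, `ι_mor`, `isPullback_mor`,
  `isClosedImmersion_mor` (for `f` affine, it is enough that `ψ` is surjective over an affine open cover);
* `exists_embedding`: an affine morphism of finite type to a qcqs scheme embeds into a vector bundle of finite type.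
-/

set_option autoImplicit false
universe u
open CategoryTheory CategoryTheory.Limits AlgebraicGeometry Opposite TopologicalSpace

namespace K36.AffEmb

variable {X Y : Scheme.{u}} (f : X ⟶ Y)

theorem isQCoh_toModule [QuasiCompact f] [QuasiSeparated f] :
    Coh.IsQCoh (RelSpec.QCAlg.directImage f).toModule := by
  have h := Groth.Agent.Sga67.CohBasic.isQCoh_push f (Groth.Agent.Ega2.QCohLocal.isQCoh_structureModule X)
  exact h

section mor

variable {A : RelSpec.QCAlg Y} [QuasiCompact f] [QuasiSeparated f] (ψ : A ⟶ RelSpec.QCAlg.directImage f)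

/-- The ring map over an open. -/
abbrev psi (U : Y.Opens) : A.presheaf.obj (op U) ⟶ Γ(X, f ⁻¹ᵁ U) := ψ.hom.app (op U)

open AlgebraicGeometry.Scheme.AffineZariskiSite Groth.Agent.CohqB in
/-- The lifting data. -/
noncomputable def liftData : RelSpec.LiftData (Functor.whiskerLeft (toOpensFunctor Y).op A.str) f where
  ψ U := psi f ψ U.1
  nat {U V} i := ψ.hom.naturality (homOfLE (toOpens_mono i.le)).op
  comp U := NatTrans.congr_app ψ.comm (op U.1)

/-- The morphism attached to an algebra homomorphism into the direct image. -/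
noncomputable def mor : X ⟶ A.spec := Groth.Agent.CohqB.RelSpec.lift A.coequifibered (liftData f ψ)

theorem mor_π : mor f ψ ≫ A.π = f :=
  Groth.Agent.CohqB.RelSpec.lift_toBase A.coequifibered (liftData f ψ)

theorem ι_mor (U : Y.Opens) (hU : IsAffineOpen U) :
    (f ⁻¹ᵁ U).ι ≫ mor f ψ = (f ⁻¹ᵁ U).toSpecΓ ≫ Spec.map (psi f ψ U) ≫ A.ι U hU :=
  Groth.Agent.CohqB.RelSpec.ι_lift A.coequifibered (liftData f ψ) ⟨U, hU⟩

theorem isPullback_mor (U : Y.Opens) (hU : IsAffineOpen U) :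
    IsPullback ((f ⁻¹ᵁ U).toSpecΓ ≫ Spec.map (psi f ψ U)) (f ⁻¹ᵁ U).ι (A.ι U hU) (mor f ψ) := by
  refine IsOpenImmersion.isPullback _ _ _ _ ?_ ?_
  · rw [ι_mor f ψ U hU, Category.assoc]
  · have h1 : (A.ι U hU).opensRange = A.π ⁻¹ᵁ U := by
      ext x
      have := A.π_preimage U hU
      rw [this]
    rw [h1, ← Scheme.Hom.comp_preimage, mor_π, Scheme.Opens.opensRange_ι]

/-- Closed immersion criterion. -/
theorem isClosedImmersion_mor [IsAffineHom f] {J : Type u} (V : J → Y.Opens) (hV : ∀ i, IsAffineOpen (V i))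
    (hcov : ∀ y : Y, ∃ i, y ∈ V i) (hs : ∀ i, Function.Surjective (psi f ψ (V i)).hom) :
    IsClosedImmersion (mor f ψ) := by
  have hcov' : ∀ x : A.spec, ∃ i, x ∈ Set.range (A.ι (V i) (hV i)) := by
    intro x
    obtain ⟨i, hi⟩ := hcov (A.π x)
    have h1 : x ∈ A.π ⁻¹ᵁ (V i) := hi
    rw [A.π_preimage (V i) (hV i)] at h1
    exact ⟨i, h1⟩
  let 𝒰 : A.spec.OpenCover :=
    { I₀ := J
      X := fun i => Spec (A.presheaf.obj (op (V i)))
      f := fun i => A.ι (V i) (hV i)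
      mem₀ := by
        rw [Scheme.ofArrows_mem_precoverage_iff]
        exact ⟨fun x => hcov' x, fun i => inferInstance⟩ }
  rw [IsZariskiLocalAtTarget.iff_of_openCover (P := @IsClosedImmersion) 𝒰]
  intro i
  have h2 := isPullback_mor f ψ (V i) (hV i)
  have h4 : IsClosedImmersion ((f ⁻¹ᵁ (V i)).toSpecΓ ≫ Spec.map (psi f ψ (V i))) := by
    have h5 : IsClosedImmersion (Spec.map (psi f ψ (V i))) := IsClosedImmersion.spec_of_surjective _ (hs i)
    have h6 : IsIso (f ⁻¹ᵁ (V i)).toSpecΓ := by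
      rw [← ((hV i).preimage f).isoSpec_hom]; infer_instance
    infer_instance
  have h7 : pullback.snd (mor f ψ) (A.ι (V i) (hV i)) =
      h2.flip.isoPullback.inv ≫ ((f ⁻¹ᵁ (V i)).toSpecΓ ≫ Spec.map (psi f ψ (V i))) := by simp
  change IsClosedImmersion (pullback.snd (mor f ψ) (A.ι (V i) (hV i)))
  rw [h7]
  infer_instance

end mor

theorem exists_finite_affine_cover (Z : Scheme.{u}) [CompactSpace Z] :
    ∃ (ι : Type u) (_ : Finite ι) (W : ι → Z.Opens), (∀ i, IsAffineOpen (W i)) ∧ ∀ x : Z, ∃ i, x ∈ W i := by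
  choose W hW hxW _ using fun x : Z => exists_isAffineOpen_mem_and_subset (X := Z) (x := x)
    (U := ⊤) trivial
  obtain ⟨F, hF⟩ := isCompact_univ.elim_finite_subcover (fun x : Z => (W x : Set Z))
    (fun x => (W x).2) (fun x _ => Set.mem_iUnion.mpr ⟨x, hxW x⟩)
  refine ⟨F, inferInstance, fun i => W i, fun i => hW _, fun x => ?_⟩
  obtain ⟨y, hy⟩ := Set.mem_iUnion.mp (hF (Set.mem_univ x))
  obtain ⟨hy, hx⟩ := Set.mem_iUnion.mp hy
  exact ⟨⟨y, hy⟩, hx⟩

/-- An affine morphism locally of finite type to a qcqs scheme embeds into the vector bundle of a quasi-coherent module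
of finite type. -/
theorem exists_embedding [CompactSpace Y] [QuasiSeparatedSpace Y] [IsAffineHom f] [LocallyOfFiniteType f] :
    ∃ (E : Y.Modules) (_ : Coh.IsCoh E) (A : RelSpec.QCAlg Y) (j : E ⟶ A.toModule)
      (_ : RelSpec.IsSymAlg E A j) (i : X ⟶ A.spec), IsClosedImmersion i ∧ i ≫ A.π = f := by
  obtain ⟨J, hJ, V, hV, hcov⟩ := exists_finite_affine_cover Y
  have hft : ∀ i, (f.app (V i)).hom.FiniteType := fun i => by
    have h1 := LocallyOfFiniteType.finiteType_appLE f (hV i) ((hV i).preimage f) le_rfl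
    rwa [Scheme.Hom.appLE_eq_app] at h1
  have hgen : ∀ i, ∃ T : Finset Γ(X, f ⁻¹ᵁ (V i)), ∀ R : Subring Γ(X, f ⁻¹ᵁ (V i)),
      (∀ r, (f.app (V i)).hom r ∈ R) → (∀ t ∈ T, t ∈ R) → R = ⊤ := by
    intro i
    let _ := (f.app (V i)).hom.toAlgebra
    obtain ⟨T, hT⟩ : ∃ T : Finset Γ(X, f ⁻¹ᵁ (V i)), Algebra.adjoin Γ(Y, V i) (T : Set Γ(X, f ⁻¹ᵁ (V i))) = ⊤ := (hft i).out
    refine ⟨T, fun R h1 h2 => ?_⟩
    let R' : Subalgebra Γ(Y, V i) Γ(X, f ⁻¹ᵁ (V i)) := { R with algebraMap_mem' := h1 }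
    have h3 : Algebra.adjoin Γ(Y, V i) (T : Set Γ(X, f ⁻¹ᵁ (V i))) ≤ R' := Algebra.adjoin_le h2
    rw [hT] at h3
    exact top_le_iff.mp fun x _ => h3 (Algebra.mem_top : x ∈ _)
  choose T hT using hgen
  obtain ⟨E, j, hmono, hE, hEft, hj⟩ := K34.FtSub.exists_ft_sub (isQCoh_toModule f)
    (ι := Σ i : J, {t // t ∈ T i}) (fun p => V p.1) (fun p => hV p.1) (fun p => (p.2.1 : Γ(X, f ⁻¹ᵁ (V p.1))))
  obtain ⟨A, jA, hA, hb⟩ := K36.SymAlg.exists_symAlg E hE
  obtain ⟨ψ, hψ, -⟩ := hA (RelSpec.QCAlg.directImage f) j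
  refine ⟨E, ⟨hE, hEft⟩, A, jA, hA, mor f ψ, ?_, mor_π f ψ⟩
  refine isClosedImmersion_mor f ψ V hV hcov fun i => ?_
  have h1 : (psi f ψ (V i)).hom.range = ⊤ := by
    refine hT i _ (fun r => ?_) (fun t ht => ?_)
    · exact ⟨(A.str.app (op (V i))).hom r, congr($(NatTrans.congr_app ψ.comm (op (V i))) r)⟩
    · obtain ⟨e, he⟩ := hj ⟨i, t, ht⟩
      exact ⟨jA.app (V i) e, (congr(($hψ).app (V i) e)).trans he⟩
  intro x
  have h2 : x ∈ (psi f ψ (V i)).hom.range := by rw [h1]; trivial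
  exact h2

end K36.AffEmb
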