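import Groth.Agent.EGA2.K36.SymAlg
import Groth.Agent.EGA2.K36.SpecLocal
import Groth.Agent.Sga67.QCohEpi

/-!
# Vector bundles: finite type, functoriality for epimorphisms
-/

set_option autoImplicit false
universe u

open CategoryTheory CategoryTheory.Limits AlgebraicGeometry Opposite TopologicalSpace

namespace K36.SymGeo

open K36.SymAlg Groth.Agent.CohqB

variable {S : Scheme.{u}} {E F : S.Modules} {A B : RelSpec.QCAlg S} {j : E ⟶ A.toModule} {k : F ⟶ B.toModule}

/-- `V(E)` is of finite type for `E` quasi-coherent of finite type. -/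
theorem locallyOfFiniteType_π (hE : Coh.IsCoh E) (hA : RelSpec.IsSymAlg E A j) : LocallyOfFiniteType A.π := by
  apply SpecLocal.locallyOfFiniteType_π
  intro U hU
  have := hE.1
  have := FiniteType2.finite_sections_of_isFT E hE.2 hU
  have h1 : (A.str.app (op U)).hom = (symHom E A j U).comp (algebraMap Γ(S, U) (SymmetricAlgebra Γ(S, U) Γ(E, U))) :=
    RingHom.ext fun r => (symHom_algebraMap E A j U r).symm
  have h2 : (algebraMap Γ(S, U) (SymmetricAlgebra Γ(S, U) Γ(E, U))).FiniteType := by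
    rw [RingHom.finiteType_algebraMap]
    exact Groth.Agent.Smoothlim.SymAlg.finiteType _ _
  change (A.str.app (op U)).hom.FiniteType
  rw [h1]
  exact RingHom.FiniteType.comp_surjective h2 (bijective_symHom hE.1 hA U hU).2

/-- Sections of `E ⟶ F ⟶ B` generate `B` over affine opens. -/
theorem surjective_symHom_comp (hE : Coh.IsQCoh E) (hF : Coh.IsQCoh F) (u : E ⟶ F) [Epi u]
    (hB : RelSpec.IsSymAlg F B k) (U : S.Opens) (hU : IsAffineOpen U) :
    Function.Surjective (symHom E B (u ≫ k) U) := by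
  have hu : Function.Surjective (u.app U) := Groth.Agent.Sga67.QCohEpi.app_surjective u hE hF hU
  intro b
  obtain ⟨y, rfl⟩ := (bijective_symHom hF hB U hU).2 b
  induction y using SymmetricAlgebra.induction with
  | algebraMap r => exact ⟨algebraMap _ _ r, by rw [symHom_algebraMap, symHom_algebraMap]⟩
  | ι m =>
    obtain ⟨e, rfl⟩ := hu m
    exact ⟨SymmetricAlgebra.ι _ _ e, by rw [symHom_ι, symHom_ι]; rfl⟩
  | mul a b ha hb =>
    obtain ⟨x, hx⟩ := ha
    obtain ⟨y, hy⟩ := hb
    exact ⟨x * y, by rw [map_mul, map_mul, hx, hy]⟩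
  | add a b ha hb =>
    obtain ⟨x, hx⟩ := ha
    obtain ⟨y, hy⟩ := hb
    exact ⟨x + y, by rw [map_add, map_add, hx, hy]⟩

/-- `E ⟶ F` epi gives a closed immersion `V(F) ⟶ V(E)`. -/
theorem isClosedImmersion_specMap (hE : Coh.IsQCoh E) (hF : Coh.IsQCoh F) (u : E ⟶ F) [Epi u]
    (hB : RelSpec.IsSymAlg F B k) (ψ : A ⟶ B) (hψ : j ≫ RelSpec.QCAlg.Hom.toModuleMap ψ = u ≫ k) :
    IsClosedImmersion (RelSpec.QCAlg.specMap ψ) := by
  apply SpecLocal.isClosedImmersion_specMap
  intro U hU b
  obtain ⟨x, hx⟩ := surjective_symHom_comp hE hF u hB U hU b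
  exact ⟨symHom E A j U x, by rw [← hx]; exact congr($(comp_symHom ψ hψ U) x)⟩

end K36.SymGeo
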