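import Groth.Agent.EGA2.K36.QCAlgAff
import Groth.Agent.EGA2.K36.SpecLocal
import Groth.Agent.EGA2.K36.GlueAff

/-!
# Morphisms of relative spectra over a morphism of bases
-/

set_option autoImplicit false
universe u

open CategoryTheory CategoryTheory.Limits AlgebraicGeometry Opposite TopologicalSpace

namespace K36.QSpec

open K36.QCAlgAff

section gamma

variable {S : Scheme.{u}} (A : RelSpec.QCAlg S)

theorem isIso_gammaAff (U : S.Opens) (hU : IsAffineOpen U) : IsIso (A.gammaAff U hU) :=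
  Groth.Agent.Ega2.H280.RelSpecAlg.isIso_secHom A.coequifibered ⟨U, hU⟩

theorem isIso_gammaHom : IsIso A.gammaHom := by
  apply isIso_of_affine
  intro U hU
  have := isIso_gammaAff A U hU
  change IsIso (A.gammaMap.app (op U))
  rw [A.gammaMap_app U hU]
  exact this

/-- The universal family `A ⟶ π_* O_{Spec A}`. -/
noncomputable def theta : A ⟶ RelSpec.QCAlg.directImage A.π :=
  @inv _ _ _ _ A.gammaHom (isIso_gammaHom A)

theorem theta_gammaHom : theta A ≫ A.gammaHom = 𝟙 A :=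
  @IsIso.inv_hom_id _ _ _ _ A.gammaHom (isIso_gammaHom A)

/-- The universal family over an open. -/
noncomputable def thetaApp (U : S.Opens) : A.presheaf.obj (op U) ⟶ Γ(A.spec, A.π ⁻¹ᵁ U) := (theta A).hom.app (op U)

theorem thetaApp_gammaAff (U : S.Opens) (hU : IsAffineOpen U) : thetaApp A U ≫ A.gammaAff U hU = 𝟙 _ := by
  have h := congrArg (fun f : A ⟶ A => f.hom.app (op U)) (theta_gammaHom A)
  rw [← A.gammaMap_app U hU]
  exact h

theorem thetaApp_res {U V : S.Opens} (h : V ≤ U) :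
    A.presheaf.map (homOfLE h).op ≫ thetaApp A V =
      thetaApp A U ≫ A.spec.presheaf.map (homOfLE (A.π.preimage_mono h)).op :=
  (theta A).hom.naturality (homOfLE h).op

theorem str_thetaApp (U : S.Opens) : A.str.app (op U) ≫ thetaApp A U = A.π.app U :=
  NatTrans.congr_app (theta A).comm (op U)

theorem top_le_of_le {U V : S.Opens} (hV : IsAffineOpen V) (h : V ≤ U) :
    (⊤ : (Spec (A.presheaf.obj (op V))).Opens) ≤ A.ι V hV ⁻¹ᵁ (A.π ⁻¹ᵁ U) :=
  (A.top_le_preimage V hV).trans ((A.ι V hV).preimage_mono (A.π.preimage_mono h))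

/-- The universal family over `U` read in the chart over an affine open `V ≤ U` is the restriction map. -/
theorem thetaApp_appLE {U V : S.Opens} (hV : IsAffineOpen V) (h : V ≤ U) :
    thetaApp A U ≫ (A.ι V hV).appLE (A.π ⁻¹ᵁ U) ⊤ (top_le_of_le A hV h) ≫ (Scheme.ΓSpecIso _).hom =
      A.presheaf.map (homOfLE h).op := by
  have h1 : (A.ι V hV).appLE (A.π ⁻¹ᵁ U) ⊤ (top_le_of_le A hV h) =
      A.spec.presheaf.map (homOfLE (A.π.preimage_mono h)).op ≫
        (A.ι V hV).appLE (A.π ⁻¹ᵁ V) ⊤ (A.top_le_preimage V hV) := by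
    rw [Scheme.Hom.map_appLE]
  rw [h1, Category.assoc, ← Category.assoc (thetaApp A U), ← thetaApp_res, Category.assoc]
  have h2 := thetaApp_gammaAff A V hV
  rw [RelSpec.QCAlg.gammaAff] at h2
  rw [h2, Category.comp_id]

/-- Morphisms out of a relative spectrum agreeing on charts over affine neighbourhoods are equal. -/
theorem hom_ext_nhd {Z : Scheme.{u}} {a b : A.spec ⟶ Z}
    (h : ∀ x : S, ∃ (U : S.Opens) (hU : IsAffineOpen U), x ∈ U ∧ A.ι U hU ≫ a = A.ι U hU ≫ b) : a = b := by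
  choose U hU hx e using h
  refine GlueAff.hom_ext_opens (fun x : S => A.π ⁻¹ᵁ U x) (fun y => ⟨A.π y, hx _⟩) fun x => ?_
  have h1 : (A.ι (U x) (hU x)).opensRange = A.π ⁻¹ᵁ U x := (A.π_preimage (U x) (hU x)).symm
  rw [← h1, ← Scheme.Hom.isoOpensRange_inv_comp, Category.assoc, Category.assoc, e x]

end gamma

section spec

variable {R : CommRingCat.{u}} {X Z : Scheme.{u}}

theorem top_toSpecΓ : (⊤ : (Spec R).Opens).toSpecΓ = (⊤ : (Spec R).Opens).ι ≫ Spec.map (Scheme.ΓSpecIso R).hom := by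
  rw [Scheme.Opens.toSpecΓ_top, SpecMap_ΓSpecIso_hom]

/-- A morphism `Spec R ⟶ X` landing in `W`, followed by a morphism given on `W` by a ring map. -/
theorem comp_eq_of_appLE (f : Spec R ⟶ X) (W : X.Opens) (hW : ⊤ ≤ f ⁻¹ᵁ W) {T : CommRingCat.{u}}
    (ρ : T ⟶ Γ(X, W)) (ι : Spec T ⟶ Z) (v : X ⟶ Z) (hv : W.ι ≫ v = W.toSpecΓ ≫ Spec.map ρ ≫ ι) :
    f ≫ v = Spec.map (ρ ≫ f.appLE W ⊤ hW ≫ (Scheme.ΓSpecIso R).hom) ≫ ι := by
  have h1 : f.resLE W ⊤ hW ≫ W.ι = (⊤ : (Spec R).Opens).ι ≫ f := Scheme.Hom.resLE_comp_ι _ _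
  have h2 := Scheme.Opens.toSpecΓ_SpecMap_appLE f W ⊤ hW
  have : IsIso (⊤ : (Spec R).Opens).ι := (Spec R).topIso.isIso_hom
  rw [← cancel_epi (⊤ : (Spec R).Opens).ι, ← Category.assoc, ← h1, Category.assoc, hv, ← Category.assoc, ← h2,
    top_toSpecΓ]
  simp only [Spec.map_comp, Category.assoc]

end spec

section q

variable {S S' : Scheme.{u}} (q : S' ⟶ S) (B : RelSpec.QCAlg S) (B' : RelSpec.QCAlg S')
  (u : B.presheaf ⟶ q.base _* B'.presheaf)
  (hu : B.str ≫ u = q.c ≫ (TopCat.Presheaf.pushforward CommRingCat.{u} q.base).map B'.str)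

/-- the component of `u` over an open -/
def uApp (U : S.Opens) : B.presheaf.obj (op U) ⟶ B'.presheaf.obj (op (q ⁻¹ᵁ U)) := u.app (op U)

theorem uApp_res {U V : S.Opens} (h : V ≤ U) :
    B.presheaf.map (homOfLE h).op ≫ uApp q B B' u V =
      uApp q B B' u U ≫ B'.presheaf.map (homOfLE (q.preimage_mono h)).op :=
  u.naturality (homOfLE h).op

include hu in
theorem str_uApp (U : S.Opens) :
    B.str.app (op U) ≫ uApp q B B' u U = q.app U ≫ B'.str.app (op (q ⁻¹ᵁ U)) :=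
  NatTrans.congr_app hu (op U)

/-- the ring maps of the lifting data -/
noncomputable def psi (U : S.Opens) : B.presheaf.obj (op U) ⟶ Γ(B'.spec, (B'.π ≫ q) ⁻¹ᵁ U) :=
  uApp q B B' u U ≫ thetaApp B' (q ⁻¹ᵁ U)

theorem psi_res {U V : S.Opens} (h : V ≤ U) :
    B.presheaf.map (homOfLE h).op ≫ psi q B B' u V =
      psi q B B' u U ≫ B'.spec.presheaf.map (homOfLE ((B'.π ≫ q).preimage_mono h)).op := by
  have h1 := uApp_res q B B' u h
  have h2 := thetaApp_res B' (q.preimage_mono h)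
  have h3 : B.presheaf.map (homOfLE h).op ≫ uApp q B B' u V ≫ thetaApp B' (q ⁻¹ᵁ V) =
      uApp q B B' u U ≫ thetaApp B' (q ⁻¹ᵁ U) ≫
        B'.spec.presheaf.map (homOfLE (B'.π.preimage_mono (q.preimage_mono h))).op := by
    rw [← h2, ← Category.assoc, h1, Category.assoc]
  exact h3.trans (Category.assoc _ _ _).symm

include hu in
theorem str_psi (U : S.Opens) : B.str.app (op U) ≫ psi q B B' u U = (B'.π ≫ q).app U := by
  have h1 := str_uApp q B B' u hu U
  have h2 := str_thetaApp B' (q ⁻¹ᵁ U)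
  have h3 : B.str.app (op U) ≫ uApp q B B' u U ≫ thetaApp B' (q ⁻¹ᵁ U) = q.app U ≫ B'.π.app (q ⁻¹ᵁ U) := by
    rw [← h2, ← Category.assoc, h1, Category.assoc]
  exact h3.trans (Scheme.Hom.comp_app _ _ _).symm

open AlgebraicGeometry.Scheme.AffineZariskiSite Groth.Agent.CohqB in
/-- The lifting data of the morphism of relative spectra. -/
noncomputable def liftData : RelSpec.LiftData
    (Functor.whiskerLeft (toOpensFunctor S).op B.str) (B'.π ≫ q) where
  ψ U := psi q B B' u U.1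
  nat {U V} i := psi_res q B B' u (toOpens_mono i.le)
  comp U := str_psi q B B' u hu U.1

/-- The morphism of relative spectra. -/
noncomputable def v : B'.spec ⟶ B.spec := Groth.Agent.CohqB.RelSpec.lift B.coequifibered (liftData q B B' u hu)

theorem v_π : v q B B' u hu ≫ B.π = B'.π ≫ q :=
  Groth.Agent.CohqB.RelSpec.lift_toBase B.coequifibered (liftData q B B' u hu)

theorem ι_v (U : S.Opens) (hU : IsAffineOpen U) :
    ((B'.π ≫ q) ⁻¹ᵁ U).ι ≫ v q B B' u hu =
      ((B'.π ≫ q) ⁻¹ᵁ U).toSpecΓ ≫ Spec.map (psi q B B' u U) ≫ B.ι U hU :=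
  Groth.Agent.CohqB.RelSpec.ι_lift B.coequifibered (liftData q B B' u hu) ⟨U, hU⟩

/-- The morphism in charts. -/
theorem chart_v (U : S.Opens) (hU : IsAffineOpen U) (U' : S'.Opens) (hU' : IsAffineOpen U') (hle : U' ≤ q ⁻¹ᵁ U) :
    B'.ι U' hU' ≫ v q B B' u hu =
      Spec.map (uApp q B B' u U ≫ B'.presheaf.map (homOfLE hle).op) ≫ B.ι U hU := by
  have h1 := comp_eq_of_appLE (B'.ι U' hU') ((B'.π ≫ q) ⁻¹ᵁ U) (top_le_of_le B' hU' hle) (psi q B B' u U)
    (B.ι U hU) (v q B B' u hu) (ι_v q B B' u hu U hU)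
  have h2 := thetaApp_appLE B' hU' hle
  rw [h1]
  congr 2
  rw [← h2]
  exact Category.assoc _ _ _

theorem exists_nhd (x : S') : ∃ (U : S.Opens) (_ : IsAffineOpen U) (U' : S'.Opens) (_ : IsAffineOpen U'),
    x ∈ U' ∧ U' ≤ q ⁻¹ᵁ U := by
  obtain ⟨U, hU, hx, -⟩ := (Opens.isBasis_iff_nbhd.mp S.isBasis_affineOpens) (show q x ∈ (⊤ : S.Opens) from trivial)
  obtain ⟨U', hU', hx', h⟩ := (Opens.isBasis_iff_nbhd.mp S'.isBasis_affineOpens) (show x ∈ q ⁻¹ᵁ U from hx)
  exact ⟨U, hU, U', hU', hx', h⟩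

/-- Two morphisms with the same description in the charts are equal. -/
theorem eq_of_charts {a b : B'.spec ⟶ B.spec}
    (h : ∀ (U : S.Opens) (_ : IsAffineOpen U) (U' : S'.Opens) (hU' : IsAffineOpen U') (_ : U' ≤ q ⁻¹ᵁ U),
      B'.ι U' hU' ≫ a = B'.ι U' hU' ≫ b) : a = b := by
  apply hom_ext_nhd
  intro x
  obtain ⟨U, hU, U', hU', hx, hle⟩ := exists_nhd q x
  exact ⟨U', hU', hx, h U hU U' hU' hle⟩

end q

end K36.QSpec
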