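import Groth.Agent.EGA2.K36.ComapLoc
import Groth.Agent.Fdesc.QCohStalk
/-!
# The restriction homomorphisms of a quasi-coherent graded algebra / module are localizations (`ComapLoc.IsLoc`)
-/

set_option autoImplicit false
universe u
open CategoryTheory CategoryTheory.Limits AlgebraicGeometry TopologicalSpace Opposite TopCat
open scoped HomogeneousIdeal
noncomputable section

namespace K36.RelComap

open RelProj

variable {S : Scheme.{u}} (𝒮 : QCGrAlg S) (U : S.Opens) (hU : IsAffineOpen U) (r : Γ(S, U))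

omit U hU r in
/-- An additive map preserving degrees commutes with the projections. -/
theorem map_decompose {M N τ τ' : Type u} [AddCommGroup M] [AddCommGroup N] [SetLike τ M] [AddSubgroupClass τ M]
    [SetLike τ' N] [AddSubgroupClass τ' N] (ℳ : ℕ → τ) (𝒩 : ℕ → τ') [DirectSum.Decomposition ℳ] [DirectSum.Decomposition 𝒩]
    (f : M →+ N) (hf : ∀ (i : ℕ) (m : M), m ∈ ℳ i → f m ∈ 𝒩 i) (m : M) (i : ℕ) :
    f (DirectSum.decompose ℳ m i) = DirectSum.decompose 𝒩 (f m) i := by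
  classical
  induction m using DirectSum.Decomposition.inductionOn ℳ with
  | zero => simp
  | @homogeneous j m =>
    by_cases h : j = i
    · subst h
      rw [DirectSum.decompose_of_mem_same _ m.2, DirectSum.decompose_of_mem_same _ (hf _ _ m.2)]
    · rw [DirectSum.decompose_of_mem_ne _ m.2 h, DirectSum.decompose_of_mem_ne _ (hf _ _ m.2) h, map_zero]
  | add m m' hm hm' =>
    simp only [DirectSum.decompose_add, DirectSum.add_apply, AddMemClass.coe_add, map_add, hm, hm']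

/-- `r` as an element of degree zero. -/
abbrev rr : 𝒮.presheaf.obj (op U) := (𝒮.str.app (op U)).hom r

theorem res_rr : 𝒮.res hU (hU.basicOpen r) (S.basicOpen_le r) (rr 𝒮 U r) =
    (𝒮.str.app (op (S.basicOpen r))).hom (S.presheaf.map (homOfLE (S.basicOpen_le r)).op r) :=
  congr($(𝒮.str.naturality (homOfLE (S.basicOpen_le r)).op) r).symm

theorem isUnit_res : IsUnit (𝒮.res hU (hU.basicOpen r) (S.basicOpen_le r) (rr 𝒮 U r)) := by
  rw [res_rr]
  exact (RingedSpace.isUnit_res_basicOpen _ r).map _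

theorem exists_res_eq (b : 𝒮.presheaf.obj (op (S.basicOpen r))) :
    ∃ (k : ℕ) (a : 𝒮.presheaf.obj (op U)), 𝒮.res hU (hU.basicOpen r) (S.basicOpen_le r) a =
      𝒮.res hU (hU.basicOpen r) (S.basicOpen_le r) (rr 𝒮 U r) ^ k * b := by
  let _inst := (𝒮.presheaf.map (homOfLE (S.basicOpen_le r)).op).hom.toAlgebra
  have hloc : IsLocalization.Away (rr 𝒮 U r) (𝒮.presheaf.obj (op (S.basicOpen r))) := 𝒮.isQC U hU r
  obtain ⟨⟨x, s, hs⟩, hxs⟩ := IsLocalization.surj (Submonoid.powers (rr 𝒮 U r)) b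
  obtain ⟨k, rfl⟩ := (Submonoid.mem_powers_iff _ _).mp hs
  refine ⟨k, x, ?_⟩
  rw [← map_pow, mul_comm]
  exact hxs.symm

theorem res_eq_zero (a : 𝒮.presheaf.obj (op U)) (h : 𝒮.res hU (hU.basicOpen r) (S.basicOpen_le r) a = 0) :
    ∃ k : ℕ, rr 𝒮 U r ^ k * a = 0 := by
  let _inst := (𝒮.presheaf.map (homOfLE (S.basicOpen_le r)).op).hom.toAlgebra
  have hloc : IsLocalization.Away (rr 𝒮 U r) (𝒮.presheaf.obj (op (S.basicOpen r))) := 𝒮.isQC U hU r
  obtain ⟨⟨_, k, rfl⟩, h⟩ := (IsLocalization.map_eq_zero_iff (Submonoid.powers (rr 𝒮 U r)) _ a).mp h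
  exact ⟨k, h⟩

theorem exists_res_eq_deg (i : ℕ) (b : 𝒮.presheaf.obj (op (S.basicOpen r)))
    (hb : b ∈ 𝒮.deg (S.basicOpen r) (hU.basicOpen r) i) :
    ∃ (k : ℕ) (a : 𝒮.presheaf.obj (op U)), a ∈ 𝒮.deg U hU i ∧ 𝒮.res hU (hU.basicOpen r) (S.basicOpen_le r) a =
      𝒮.res hU (hU.basicOpen r) (S.basicOpen_le r) (rr 𝒮 U r) ^ k * b := by
  classical
  obtain ⟨k, a, ha⟩ := exists_res_eq 𝒮 U hU r b
  refine ⟨k, DirectSum.decompose (𝒮.deg U hU) a i, SetLike.coe_mem _, ?_⟩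
  rw [GradedRingHom.map_directSumDecompose, ha]
  have h0 : 𝒮.res hU (hU.basicOpen r) (S.basicOpen_le r) (rr 𝒮 U r) ^ k ∈ 𝒮.deg (S.basicOpen r) (hU.basicOpen r) 0 := by
    have := SetLike.pow_mem_graded k ((𝒮.res hU (hU.basicOpen r) (S.basicOpen_le r)).map_mem (𝒮.str_mem U hU r))
    rwa [smul_zero] at this
  have h1 := SetLike.mul_mem_graded h0 hb
  rw [zero_add] at h1
  exact DirectSum.decompose_of_mem_same _ h1

/-- The restriction homomorphism, as a semilinear map. -/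
abbrev resLin : 𝒮.presheaf.obj (op U) →ₛₗ[(𝒮.res hU (hU.basicOpen r) (S.basicOpen_le r)).toRingHom]
    𝒮.presheaf.obj (op (S.basicOpen r)) :=
  (𝒮.res hU (hU.basicOpen r) (S.basicOpen_le r)).toRingHom.toSemilinearMap

theorem isLoc_self : ComapLoc.IsLoc (𝒮.res hU (hU.basicOpen r) (S.basicOpen_le r)) (resLin 𝒮 U hU r)
    (𝒮.deg U hU) (𝒮.deg (S.basicOpen r) (hU.basicOpen r)) (rr 𝒮 U r) where
  mem := 𝒮.str_mem U hU r
  unit := isUnit_res 𝒮 U hU r
  surj := exists_res_eq 𝒮 U hU r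
  surjH := exists_res_eq_deg 𝒮 U hU r
  minj m hm := res_eq_zero 𝒮 U hU r m hm
  msurjH i b hb := exists_res_eq_deg 𝒮 U hU r i b hb

variable {𝒮} (ℳ : GrModule 𝒮) (hℳ : Coh.IsQCoh ((AMod.toOS 𝒮.toQCAlg).obj ℳ.mod))

include hℳ in
theorem isLoc_mod : ComapLoc.IsLoc (𝒮.res hU (hU.basicOpen r) (S.basicOpen_le r))
    (ℳ.res hU (hU.basicOpen r) (S.basicOpen_le r))
    (ℳ.deg U hU) (ℳ.deg (S.basicOpen r) (hU.basicOpen r)) (rr 𝒮 U r) := by
  classical
  let F := (AMod.toOS 𝒮.toQCAlg).obj ℳ.mod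
  have hsm : ∀ (V : S.Opens) (c : Γ(S, V)) (m : Γ(F, V)),
      c • m = ((𝒮.str.app (op V)).hom c • (show ℳ.mod.val.obj (op V) from m) : ℳ.mod.val.obj (op V)) := fun _ _ _ => rfl
  refine ⟨𝒮.str_mem U hU r, isUnit_res 𝒮 U hU r, exists_res_eq 𝒮 U hU r, exists_res_eq_deg 𝒮 U hU r, ?_, ?_⟩
  · intro m hm
    obtain ⟨k, hk⟩ := Groth.Agent.Fdesc.QCohStalk.exists_pow_smul_eq_zero F hU hℳ r m hm
    refine ⟨k, ?_⟩
    rw [hsm, map_pow] at hk
    exact hk
  · intro i b hb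
    obtain ⟨k, m, hm⟩ := Groth.Agent.Fdesc.QCohStalk.exists_map_eq_pow_smul F hU hℳ r b
    rw [hsm, map_pow, ← res_rr 𝒮 U hU r] at hm
    refine ⟨k, DirectSum.decompose (ℳ.deg U hU) m i, SetLike.coe_mem _, ?_⟩
    have h0 : 𝒮.res hU (hU.basicOpen r) (S.basicOpen_le r) (rr 𝒮 U r) ^ k ∈ 𝒮.deg (S.basicOpen r) (hU.basicOpen r) 0 := by
      have := SetLike.pow_mem_graded k ((𝒮.res hU (hU.basicOpen r) (S.basicOpen_le r)).map_mem (𝒮.str_mem U hU r))
      rwa [smul_zero] at this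
    have h1 := SetLike.GradedSMul.smul_mem (B := ℳ.deg (S.basicOpen r) (hU.basicOpen r)) h0 hb
    rw [vadd_eq_add, zero_add] at h1
    refine (map_decompose (ℳ.deg U hU) (ℳ.deg (S.basicOpen r) (hU.basicOpen r))
      (ℳ.res hU (hU.basicOpen r) (S.basicOpen_le r)).toAddMonoidHom (fun i m hm => ℳ.map_mem _ _ _ hm) m i).trans ?_
    refine Eq.trans ?_ (DirectSum.decompose_of_mem_same _ h1)
    congr 3

end K36.RelComap

end
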