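import Groth.Prelude.Def_RelSpec
import Groth.Agent.Ega2.H280.RelSpecAlg
import Groth.Agent.Sga67.Sec

/-!
# Quasi-coherent algebras from data on the affine opens

* `pre_hom_ext`, `exists_pre_hom`: maps of presheaves of rings into a quasi-coherent algebra are determined by /
  can be given by their components on the affine opens (compatible with basic opens).
* `hom_ext_affine`, `exists_hom`, `isIso_of_affine` for homomorphisms of quasi-coherent algebras.
* `ofAff`: the quasi-coherent algebra of a coequifibered functor on the small affine Zariski site.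
* `exists_mod_hom`: morphisms of `O_S`-modules from linear maps on affine opens compatible with basic opens.
-/

set_option autoImplicit false
universe u

open CategoryTheory CategoryTheory.Limits AlgebraicGeometry Opposite TopologicalSpace

namespace K36.QCAlgAff

open AlgebraicGeometry.Scheme.AffineZariskiSite

variable {S : Scheme.{u}}

section pre

variable {F : TopCat.Presheaf CommRingCat.{u} S.carrier} (B : RelSpec.QCAlg S)

/-- Maps of presheaves of rings into a quasi-coherent algebra agreeing on the affine opens are equal. -/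
theorem pre_hom_ext {f g : F ⟶ B.presheaf}
    (h : ∀ (U : S.Opens), IsAffineOpen U → f.app (op U) = g.app (op U)) : f = g := by
  apply (Functor.IsCoverDense.restrictHomEquivHom (G := toOpensFunctor S)
    (K := Opens.grothendieckTopology S) (ℱ := F)
    (ℱ' := (⟨B.presheaf, B.isSheaf⟩ : TopCat.Sheaf CommRingCat.{u} S.carrier))).symm.injective
  ext U : 2
  exact h U.unop.1 U.unop.2

/-- Maps of presheaves of rings into a quasi-coherent algebra from components on the affine opens compatible with
restriction to basic opens. -/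
theorem exists_pre_hom (f : ∀ (U : S.Opens) (_ : IsAffineOpen U), F.obj (op U) ⟶ B.presheaf.obj (op U))
    (hf : ∀ (U : S.Opens) (hU : IsAffineOpen U) (r : Γ(S, U)),
      F.map (homOfLE (S.basicOpen_le r)).op ≫ f (S.basicOpen r) (hU.basicOpen r) =
        f U hU ≫ B.presheaf.map (homOfLE (S.basicOpen_le r)).op) :
    ∃ g : F ⟶ B.presheaf, ∀ (U : S.Opens) (hU : IsAffineOpen U), g.app (op U) = f U hU := by
  let α : (toOpensFunctor S).op ⋙ F ⟶ (toOpensFunctor S).op ⋙ B.presheaf :=
    { app := fun U => f U.unop.1 U.unop.2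
      naturality := by
        rintro ⟨U⟩ ⟨V⟩ ⟨i⟩
        obtain ⟨V, hV⟩ := V
        obtain ⟨r, rfl⟩ := i.le
        exact hf U.1 U.2 r }
  refine ⟨Functor.IsCoverDense.restrictHomEquivHom (G := toOpensFunctor S)
    (K := Opens.grothendieckTopology S) (ℱ := F)
    (ℱ' := (⟨B.presheaf, B.isSheaf⟩ : TopCat.Sheaf CommRingCat.{u} S.carrier)) α, fun U hU => ?_⟩
  have h := (Functor.IsCoverDense.restrictHomEquivHom (G := toOpensFunctor S)
    (K := Opens.grothendieckTopology S) (ℱ := F)
    (ℱ' := (⟨B.presheaf, B.isSheaf⟩ : TopCat.Sheaf CommRingCat.{u} S.carrier))).symm_apply_apply α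
  exact NatTrans.congr_app h (op ⟨U, hU⟩)

end pre

section alg

variable {A B : RelSpec.QCAlg S}

theorem hom_ext_affine {f g : A ⟶ B}
    (h : ∀ (U : S.Opens), IsAffineOpen U → f.hom.app (op U) = g.hom.app (op U)) : f = g :=
  RelSpec.QCAlg.hom_ext (pre_hom_ext B h)

/-- Homomorphisms of quasi-coherent algebras from components on the affine opens. -/
theorem exists_hom (f : ∀ (U : S.Opens) (_ : IsAffineOpen U), A.presheaf.obj (op U) ⟶ B.presheaf.obj (op U))
    (hf : ∀ (U : S.Opens) (hU : IsAffineOpen U) (r : Γ(S, U)),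
      A.presheaf.map (homOfLE (S.basicOpen_le r)).op ≫ f (S.basicOpen r) (hU.basicOpen r) =
        f U hU ≫ B.presheaf.map (homOfLE (S.basicOpen_le r)).op)
    (hstr : ∀ (U : S.Opens) (hU : IsAffineOpen U), A.str.app (op U) ≫ f U hU = B.str.app (op U)) :
    ∃ g : A ⟶ B, ∀ (U : S.Opens) (hU : IsAffineOpen U), g.hom.app (op U) = f U hU := by
  obtain ⟨g, hg⟩ := exists_pre_hom B f hf
  exact ⟨⟨g, pre_hom_ext B fun U hU => by rw [NatTrans.comp_app, hg U hU, hstr U hU]⟩, hg⟩

/-- A homomorphism of quasi-coherent algebras is an isomorphism if it is bijective over the affine opens. -/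
theorem isIso_of_affine (g : A ⟶ B) (h : ∀ (U : S.Opens), IsAffineOpen U → IsIso (g.hom.app (op U))) :
    IsIso g := by
  obtain ⟨k, hk⟩ := exists_hom (A := B) (B := A) (fun U hU => @inv _ _ _ _ (g.hom.app (op U)) (h U hU))
    (fun U hU r => by
      have := h U hU
      have := h (S.basicOpen r) (hU.basicOpen r)
      rw [IsIso.comp_inv_eq, Category.assoc, IsIso.eq_inv_comp]
      exact (g.hom.naturality _).symm)
    (fun U hU => by
      have := h U hU
      rw [IsIso.comp_inv_eq]
      exact (NatTrans.congr_app g.comm (op U)).symm)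
  refine ⟨k, hom_ext_affine fun U hU => ?_, hom_ext_affine fun U hU => ?_⟩
  · have := h U hU
    rw [RelSpec.QCAlg.comp_hom, NatTrans.comp_app, hk U hU, IsIso.hom_inv_id]
    rfl
  · have := h U hU
    rw [RelSpec.QCAlg.comp_hom, NatTrans.comp_app, hk U hU, IsIso.inv_hom_id]
    rfl

theorem bijective_of_isIso (g : A ⟶ B) [IsIso g] (U : S.Opens) : Function.Bijective (g.hom.app (op U)).hom := by
  have e1 : (g.hom.app (op U)) ≫ ((inv g).hom.app (op U)) = 𝟙 _ := by
    rw [← NatTrans.comp_app, ← RelSpec.QCAlg.comp_hom, IsIso.hom_inv_id]; rfl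
  have e2 : ((inv g).hom.app (op U)) ≫ (g.hom.app (op U)) = 𝟙 _ := by
    rw [← NatTrans.comp_app, ← RelSpec.QCAlg.comp_hom, IsIso.inv_hom_id]; rfl
  have : IsIso (g.hom.app (op U)) := ⟨_, e1, e2⟩
  exact ConcreteCategory.bijective_of_isIso (g.hom.app (op U))

end alg

section ofAff

open Groth.Agent.Ega2.H280.RelSpecAlg

variable {F : S.AffineZariskiSiteᵒᵖ ⥤ CommRingCat.{u}}
  {α : (toOpensFunctor S).op ⋙ S.presheaf ⟶ F} (H : α.Coequifibered)

/-- The quasi-coherent algebra of a coequifibered functor on the small affine Zariski site. -/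
noncomputable def ofAff : RelSpec.QCAlg S := RelSpec.QCAlg.directImage (Groth.Agent.CohqB.RelSpec.toBase H)

/-- Its sections over an affine open. -/
noncomputable def secAff (U : S.Opens) (hU : IsAffineOpen U) : (ofAff H).presheaf.obj (op U) ⟶ F.obj (op ⟨U, hU⟩) :=
  secHom H ⟨U, hU⟩

instance isIso_secAff (U : S.Opens) (hU : IsAffineOpen U) : IsIso (secAff H U hU) := isIso_secHom H ⟨U, hU⟩

theorem str_secAff (U : S.Opens) (hU : IsAffineOpen U) :
    (ofAff H).str.app (op U) ≫ secAff H U hU = α.app (op ⟨U, hU⟩) := app_secHom H ⟨U, hU⟩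

theorem secAff_res (U : S.Opens) (hU : IsAffineOpen U) (r : Γ(S, U)) :
    (ofAff H).presheaf.map (homOfLE (S.basicOpen_le r)).op ≫ secAff H (S.basicOpen r) (hU.basicOpen r) =
      secAff H U hU ≫ F.map (homOfLE (basicOpen_le ⟨U, hU⟩ r)).op :=
  secHom_naturality H (homOfLE (basicOpen_le ⟨U, hU⟩ r))

end ofAff

section mod

open Groth.Agent.Sga67.Sec

variable {M N : S.Modules}

/-- Morphisms of `O_S`-modules agreeing on the affine opens are equal. -/
theorem mod_hom_ext {f g : M ⟶ N} (h : ∀ (U : S.Opens), IsAffineOpen U → ∀ m : Γ(M, U), f.app U m = g.app U m) :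
    f = g := by
  apply Scheme.Modules.hom_ext
  intro U
  ext m
  apply eq_of_locally N
  intro x hx
  obtain ⟨V, hV, hxV, hVU⟩ := Opens.isBasis_iff_nbhd.mp S.isBasis_affineOpens hx
  refine ⟨V, hVU, hxV, ?_⟩
  have h1 := appS_res f hVU m
  have h2 := appS_res g hVU m
  exact h1.symm.trans ((h V hV _).trans h2)

/-- Morphisms of `O_S`-modules from linear maps on the affine opens compatible with restriction to basic opens. -/
theorem exists_mod_hom (f : ∀ (U : S.Opens) (_ : IsAffineOpen U), Γ(M, U) →+ Γ(N, U))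
    (hsmul : ∀ (U : S.Opens) (hU : IsAffineOpen U) (r : Γ(S, U)) (m : Γ(M, U)), f U hU (r • m) = r • f U hU m)
    (hf : ∀ (U : S.Opens) (hU : IsAffineOpen U) (r : Γ(S, U)) (m : Γ(M, U)),
      f (S.basicOpen r) (hU.basicOpen r) (M.presheaf.map (homOfLE (S.basicOpen_le r)).op m) =
        N.presheaf.map (homOfLE (S.basicOpen_le r)).op (f U hU m)) :
    ∃ g : M ⟶ N, ∀ (U : S.Opens) (hU : IsAffineOpen U) (m : Γ(M, U)), g.app U m = f U hU m := by
  let φ : ∀ U : S.affineOpens, Sec M U.1 →ₗ[Γ(S, U.1)] Sec N U.1 := fun U =>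
    { toFun := f U.1 U.2
      map_add' := fun a b => map_add _ a b
      map_smul' := fun r m => hsmul U.1 U.2 r m }
  have hbas : ∀ (U : S.Opens) (hU : IsAffineOpen U) (V : S.Opens) (hV : IsAffineOpen V) (r : Γ(S, U))
      (e : S.basicOpen r = V) (h : V ≤ U) (m : Sec M U),
      f V hV (res M h m) = res N h (f U hU m) := by
    rintro U hU V hV r rfl h m
    exact hf U hU r m
  obtain ⟨g, hg⟩ := exists_hom_of_basis' (affineBasis S) M N φ (by
    intro U V h s
    apply eq_of_locally N
    intro x hx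
    obtain ⟨a, b, e, hxa⟩ := exists_basicOpen_le_affine_inter U.2 V.2 x ⟨h hx, hx⟩
    have hDV : S.basicOpen a ≤ V.1 := e.trans_le (S.basicOpen_le b)
    refine ⟨S.basicOpen a, hDV, hxa, ?_⟩
    have h1 := hbas V.1 V.2 (S.basicOpen a) (U.2.basicOpen a) b e.symm hDV (res M h s)
    have h2 := hbas U.1 U.2 (S.basicOpen a) (U.2.basicOpen a) a rfl (S.basicOpen_le a) s
    rw [res_res] at h1
    refine h1.symm.trans (h2.trans ?_)
    exact (res_res N h hDV _).symm)
  exact ⟨g, fun U hU m => hg ⟨U, hU⟩ m⟩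

end mod

end K36.QCAlgAff
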