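import Groth.Prelude.Def_RelProj3

/-!
# Graded modules over a quasi-coherent graded algebra, given on the affine opens

`AffGr 𝒮`: the data, with the localization property for basic opens.  `AffGr.IsGlued D ℳ e`: the graded `𝒮`-module `ℳ` has the
sections `D.M U` over every affine open `U`, through `e`.
-/

set_option autoImplicit false
universe u
open CategoryTheory CategoryTheory.Limits AlgebraicGeometry TopologicalSpace Opposite

noncomputable section

namespace K36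

open RelProj

variable {S : Scheme.{u}}

/-- Graded `𝒮(U)`-modules `M(U)` for the affine opens `U`, with restriction maps, and `M(D(r)) = M(U)_r`. -/
structure AffGr (𝒮 : QCGrAlg S) where
  /-- the module `M(U)` -/
  M : ∀ U : S.Opens, IsAffineOpen U → Type u
  [acg : ∀ (U : S.Opens) (hU : IsAffineOpen U), AddCommGroup (M U hU)]
  [mod : ∀ (U : S.Opens) (hU : IsAffineOpen U), Module (𝒮.presheaf.obj (op U)) (M U hU)]
  /-- its homogeneous parts -/
  deg : ∀ (U : S.Opens) (hU : IsAffineOpen U), ℕ → AddSubgroup (M U hU)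
  decomp : ∀ (U : S.Opens) (hU : IsAffineOpen U), DirectSum.Decomposition (deg U hU)
  gsmul : ∀ (U : S.Opens) (hU : IsAffineOpen U), SetLike.GradedSMul (𝒮.deg U hU) (deg U hU)
  /-- restriction -/
  ρ : ∀ {U V : S.Opens} (hU : IsAffineOpen U) (hV : IsAffineOpen V), V ≤ U → (M U hU →+ M V hV)
  ρ_smul : ∀ {U V : S.Opens} (hU : IsAffineOpen U) (hV : IsAffineOpen V) (h : V ≤ U)
    (a : 𝒮.presheaf.obj (op U)) (m : M U hU),
    ρ hU hV h (a • m) = (𝒮.presheaf.map (homOfLE h).op).hom a • ρ hU hV h m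
  ρ_self : ∀ {U : S.Opens} (hU : IsAffineOpen U) (m : M U hU), ρ hU hU le_rfl m = m
  ρ_ρ : ∀ {U V W : S.Opens} (hU : IsAffineOpen U) (hV : IsAffineOpen V) (hW : IsAffineOpen W) (h : V ≤ U) (h' : W ≤ V)
    (m : M U hU), ρ hV hW h' (ρ hU hV h m) = ρ hU hW (h'.trans h) m
  ρ_mem : ∀ {U V : S.Opens} (hU : IsAffineOpen U) (hV : IsAffineOpen V) (h : V ≤ U) {d : ℕ} {m : M U hU},
    m ∈ deg U hU d → ρ hU hV h m ∈ deg V hV d
  loc_surj : ∀ {U : S.Opens} (hU : IsAffineOpen U) (r : Γ(S, U)) (z : M (S.basicOpen r) (hU.basicOpen r)),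
    ∃ (n : ℕ) (m : M U hU), ρ hU (hU.basicOpen r) (S.basicOpen_le r) m =
      ((𝒮.presheaf.map (homOfLE (S.basicOpen_le r)).op).hom ((𝒮.str.app (op U)).hom r)) ^ n • z
  loc_inj : ∀ {U : S.Opens} (hU : IsAffineOpen U) (r : Γ(S, U)) (m : M U hU),
    ρ hU (hU.basicOpen r) (S.basicOpen_le r) m = 0 → ∃ n : ℕ, ((𝒮.str.app (op U)).hom r) ^ n • m = 0

attribute [instance] AffGr.acg AffGr.mod AffGr.decomp AffGr.gsmul

/-- `ℳ` has the sections `D.M U` over the affine opens. -/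
structure AffGr.IsGlued {𝒮 : QCGrAlg S} (D : AffGr 𝒮) (ℳ : GrModule 𝒮)
    (e : ∀ (U : S.Opens) (hU : IsAffineOpen U), ℳ.mod.val.obj (op U) ≃+ D.M U hU) : Prop where
  smul : ∀ (U : S.Opens) (hU : IsAffineOpen U) (a : 𝒮.presheaf.obj (op U)) (x : ℳ.mod.val.obj (op U)),
    e U hU (a • x) = a • e U hU x
  res : ∀ (U V : S.Opens) (hU : IsAffineOpen U) (hV : IsAffineOpen V) (h : V ≤ U) (x : ℳ.mod.val.obj (op U)),
    e V hV ((ℳ.mod.val.map (homOfLE h).op).hom x) = D.ρ hU hV h (e U hU x)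
  mem : ∀ (U : S.Opens) (hU : IsAffineOpen U) (d : ℕ) (x : ℳ.mod.val.obj (op U)),
    x ∈ ℳ.deg U hU d ↔ e U hU x ∈ D.deg U hU d
  qcoh : Coh.IsQCoh ((AMod.toOS 𝒮.toQCAlg).obj ℳ.mod)

/-- THE NODE (helper42): `theorem K42.AffGrMod.exists_glued (D : AffGr 𝒮) : D.Glued`. -/
def AffGr.Glued {𝒮 : QCGrAlg S} (D : AffGr 𝒮) : Prop :=
  ∃ (ℳ : GrModule 𝒮) (e : ∀ (U : S.Opens) (hU : IsAffineOpen U), ℳ.mod.val.obj (op U) ≃+ D.M U hU), D.IsGlued ℳ e

end K36

end
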