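import Groth.Prelude.Def_RelProj3
/-!
# `GrMod.comap` along a localization at an element of degree zero is bijective on sections
-/

set_option autoImplicit false
universe u
open CategoryTheory CategoryTheory.Limits AlgebraicGeometry TopologicalSpace Opposite TopCat
open scoped HomogeneousIdeal
noncomputable section

namespace K36.ComapLoc

open GrMod

variable {A σ : Type u} [CommRing A] [SetLike σ A] [AddSubgroupClass σ A] {𝒜 : ℕ → σ} [GradedRing 𝒜]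
variable {M τ : Type u} [AddCommGroup M] [Module A M] [SetLike τ M] [AddSubgroupClass τ M] {ℳ : ℕ → τ}
variable {B σ' : Type u} [CommRing B] [SetLike σ' B] [AddSubgroupClass σ' B] {ℬ : ℕ → σ'} [GradedRing ℬ]
variable {N τ' : Type u} [AddCommGroup N] [Module B N] [SetLike τ' N] [AddSubgroupClass τ' N] {𝒩 : ℕ → τ'}
variable (ψ : 𝒜 →+*ᵍ ℬ) (hψ : ℬ₊ ≤ (𝒜₊).map ψ) (v : M →ₛₗ[ψ.toRingHom] N)
  (hv : ∀ (i : ℕ) (m : M), m ∈ ℳ i → v m ∈ 𝒩 i)

/-- `(ψ, v)` is the localization at the degree-zero element `r`. -/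
structure IsLoc (ℳ : ℕ → τ) (𝒩 : ℕ → τ') (r : A) : Prop where
  mem : r ∈ 𝒜 0
  unit : IsUnit (ψ r)
  surj : ∀ b : B, ∃ (k : ℕ) (a : A), ψ a = ψ r ^ k * b
  surjH : ∀ (i : ℕ) (b : B), b ∈ ℬ i → ∃ (k : ℕ) (a : A), a ∈ 𝒜 i ∧ ψ a = ψ r ^ k * b
  minj : ∀ m : M, v m = 0 → ∃ k : ℕ, r ^ k • m = 0
  msurjH : ∀ (i : ℕ) (b : N), b ∈ 𝒩 i → ∃ (k : ℕ) (a : M), a ∈ ℳ i ∧ v a = ψ r ^ k • b

variable {ψ v} {r : A} (H : IsLoc ψ v ℳ 𝒩 r)

include H

omit [AddSubgroupClass τ M] [AddSubgroupClass τ' N] in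
theorem injective_locModMap (y : ProjectiveSpectrum ℬ) : Function.Injective (locModMap ψ hψ v y) := by
  rw [injective_iff_map_eq_zero]
  intro q hq
  induction q using LocalizedModule.induction_on with
  | h m s =>
    rw [locModMap_mk, ← LocalizedModule.zero_mk 1, LocalizedModule.mk_eq] at hq
    obtain ⟨⟨t, ht⟩, h⟩ := hq
    simp only [Submonoid.smul_def, one_smul, smul_zero] at h
    obtain ⟨k, a, ha⟩ := H.surj t
    have h1 : v (a • m) = 0 := by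
      rw [LinearMap.map_smulₛₗ]
      change ψ a • v m = 0
      rw [ha, mul_smul, h, smul_zero]
    obtain ⟨l, hl⟩ := H.minj _ h1
    have hmem : r ^ l * a ∈ (ProjectiveSpectrum.comap ψ hψ y).asHomogeneousIdeal.toIdeal.primeCompl := by
      intro hh
      have hh' : ψ (r ^ l * a) ∈ y.asHomogeneousIdeal.toIdeal := hh
      rw [map_mul, map_pow, ha, ← mul_assoc, ← pow_add, Ideal.unit_mul_mem_iff_mem _ (H.unit.pow _)] at hh'
      exact ht hh'
    rw [← LocalizedModule.zero_mk 1, LocalizedModule.mk_eq]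
    refine ⟨⟨r ^ l * a, hmem⟩, ?_⟩
    simp only [Submonoid.smul_def, one_smul, smul_zero]
    rw [mul_smul, hl]

variable [SetLike.GradedSMul 𝒜 ℳ] [SetLike.GradedSMul ℬ 𝒩] (n : ℤ)

omit [SetLike.GradedSMul ℬ 𝒩] [AddSubgroupClass τ' N] in
/-- A local fraction `b / c` on the side of `ℬ` comes from a fraction on the side of `𝒜`. -/
theorem exists_frac {i j : ℕ} (b : 𝒩 i) (c : ℬ j) (hij : (i : ℤ) = j + n ∨ (b : N) = 0) :
    ∃ (m : ℳ i) (s : 𝒜 j), ((i : ℤ) = j + n ∨ (m : M) = 0) ∧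
      ∀ (y : ProjectiveSpectrum ℬ) (hc : (c : B) ∉ y.asHomogeneousIdeal),
        ∃ (hs : (s : A) ∉ (ProjectiveSpectrum.comap ψ hψ y).asHomogeneousIdeal),
        (LocalizedModule.mk (b : N) ⟨(c : B), hc⟩ : LocMod ℬ (M := N) y) =
          LocalizedModule.mk (v (m : M)) ⟨ψ (s : A), hs⟩ := by
  obtain ⟨k, m, hm, hmb⟩ : ∃ (k : ℕ) (m : M), m ∈ ℳ i ∧ (((i : ℤ) = j + n ∨ m = 0) ∧ v m = ψ r ^ k • (b : N)) := by
    rcases hij with hij | hij
    · obtain ⟨k, m, hm, h⟩ := H.msurjH i b b.2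
      exact ⟨k, m, hm, Or.inl hij, h⟩
    · exact ⟨0, 0, zero_mem _, Or.inr rfl, by rw [map_zero, hij, smul_zero]⟩
  obtain ⟨l, s, hs, hsc⟩ := H.surjH j c c.2
  have hr0 : ∀ l : ℕ, r ^ l ∈ 𝒜 0 := fun l => by
    have := SetLike.pow_mem_graded l H.mem
    rwa [smul_zero] at this
  refine ⟨⟨r ^ l • m, ?_⟩, ⟨r ^ k * s, ?_⟩, ?_, ?_⟩
  · have := SetLike.GradedSMul.smul_mem (hr0 l) hm
    rwa [vadd_eq_add, zero_add] at this
  · have := SetLike.mul_mem_graded (hr0 k) hs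
    rwa [zero_add] at this
  · rcases hmb.1 with h | h
    · exact Or.inl h
    · exact Or.inr (by change r ^ l • m = 0; rw [h, smul_zero])
  · intro y hc
    have e1 : ψ (r ^ k * s) = (ψ r ^ k * ψ r ^ l) * c := by
      rw [map_mul, map_pow, hsc, mul_assoc]
    have hs' : ψ (r ^ k * s) ∉ y.asHomogeneousIdeal.toIdeal := by
      rw [e1, Ideal.unit_mul_mem_iff_mem _ ((H.unit.pow _).mul (H.unit.pow _))]
      exact hc
    refine ⟨hs', ?_⟩
    rw [LocalizedModule.mk_eq]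
    refine ⟨1, ?_⟩
    simp only [Submonoid.smul_def, one_smul]
    rw [e1]
    have e2 : v (r ^ l • m) = ψ r ^ l • ψ r ^ k • (b : N) := by
      rw [LinearMap.map_smulₛₗ, hmb.2]
      change ψ (r ^ l) • _ = _
      rw [map_pow]
    rw [e2, ← mul_smul, ← mul_smul]
    congr 1
    ring

variable (hv : ∀ (i : ℕ) (m : M), m ∈ ℳ i → v m ∈ 𝒩 i)

/-- `comap` is bijective on sections over the opens inside the (open) range of `Proj.map ψ`. -/
theorem bijective_comapApp [IsOpenImmersion (Proj.map ψ hψ)] (U : (Proj 𝒜).Opens)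
    (hU : U ≤ (Proj.map ψ hψ).opensRange) (hUV : (Proj.map ψ hψ ⁻¹ᵁ U).1 ⊆ ProjectiveSpectrum.comap ψ hψ ⁻¹' U.1) :
    Function.Bijective (comapApp ψ hψ v hv n U (Proj.map ψ hψ ⁻¹ᵁ U) hUV) := by
  have hinj : Function.Injective (ProjectiveSpectrum.comap ψ hψ) :=
    (Proj.map ψ hψ).isOpenEmbedding.injective
  have hex : ∀ x : U, ∃ y : (Proj.map ψ hψ ⁻¹ᵁ U : (Proj ℬ).Opens), ProjectiveSpectrum.comap ψ hψ y.1 = x.1 := by
    intro x
    obtain ⟨y, hy⟩ := hU x.2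
    exact ⟨⟨y, by change (Proj.map ψ hψ).base y ∈ U; rw [hy]; exact x.2⟩, hy⟩
  constructor
  · rw [injective_iff_map_eq_zero]
    intro s hs
    refine Subtype.ext (funext fun x => Subtype.ext ?_)
    obtain ⟨⟨y, hyU⟩, hyx⟩ := hex x
    obtain ⟨x, hx⟩ := x
    change ProjectiveSpectrum.comap ψ hψ y = x at hyx
    subst hyx
    apply injective_locModMap hψ H y
    have h1 := congrArg (fun t : sect ℬ 𝒩 n (op (Proj.map ψ hψ ⁻¹ᵁ U)) =>
      ((t.1 ⟨y, hyU⟩ : tildeAt ℬ 𝒩 n y) : LocMod ℬ (M := N) y)) hs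
    refine Eq.trans (b := (0 : LocMod ℬ (M := N) y)) h1 ?_
    exact (map_zero (locModMap ψ hψ v y)).symm
  · intro t
    -- the relation between values
    have hR : ∀ x : U, ∃ (q : tildeAt 𝒜 ℳ n x.1), ∃ (y : (Proj.map ψ hψ ⁻¹ᵁ U : (Proj ℬ).Opens)) (m : M) (s : A)
        (hs : s ∉ x.1.asHomogeneousIdeal) (hs' : ψ s ∉ y.1.asHomogeneousIdeal),
        ProjectiveSpectrum.comap ψ hψ y.1 = x.1 ∧ (q : LocMod 𝒜 (M := M) x.1) = LocalizedModule.mk m ⟨s, hs⟩ ∧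
        ((t.1 y : tildeAt ℬ 𝒩 n y.1) : LocMod ℬ (M := N) y.1) = LocalizedModule.mk (v m) ⟨ψ s, hs'⟩ := by
      intro x
      obtain ⟨⟨y, hyU⟩, hyx⟩ := hex x
      obtain ⟨x, hx⟩ := x
      change ProjectiveSpectrum.comap ψ hψ y = x at hyx
      subst hyx
      obtain ⟨W, hyW, iW, i, j, b, c, hc, hij, hfrac⟩ := t.2 ⟨y, hyU⟩
      obtain ⟨m, s, hij', hms⟩ := exists_frac hψ H n b c hij
      obtain ⟨hs, hms⟩ := hms y (hc ⟨y, hyW⟩)
      have hval : ((t.1 ⟨y, hyU⟩ : tildeAt ℬ 𝒩 n y) : LocMod ℬ (M := N) y) = LocalizedModule.mk (v (m : M)) ⟨ψ (s : A), hs⟩ :=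
        (hfrac ⟨y, hyW⟩).trans hms
      refine ⟨⟨LocalizedModule.mk (m : M) ⟨(s : A), hs⟩, ?_⟩, ⟨y, hyU⟩, m, s, hs, hs, rfl, rfl, hval⟩
      rcases hij' with h | h
      · exact Submodule.subset_span ⟨i, j, m, s, hs, h, rfl⟩
      · rw [h, LocalizedModule.zero_mk]
        exact zero_mem _
    choose q hq using hR
    have huniq : ∀ (x : U) (y : (Proj.map ψ hψ ⁻¹ᵁ U : (Proj ℬ).Opens)) (m : M) (s : A)
        (hs : s ∉ x.1.asHomogeneousIdeal) (hs' : ψ s ∉ y.1.asHomogeneousIdeal),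
        ProjectiveSpectrum.comap ψ hψ y.1 = x.1 →
        ((t.1 y : tildeAt ℬ 𝒩 n y.1) : LocMod ℬ (M := N) y.1) = LocalizedModule.mk (v m) ⟨ψ s, hs'⟩ →
        (q x : LocMod 𝒜 (M := M) x.1) = LocalizedModule.mk m ⟨s, hs⟩ := by
      rintro ⟨x, hx⟩ y m s hs hs' hyx hval
      obtain ⟨y', m', s', hs1, hs2, hy', hqx, hv'⟩ := hq ⟨x, hx⟩
      have hyy : y' = y := Subtype.ext (hinj (hy'.trans hyx.symm))
      subst hyy
      change ProjectiveSpectrum.comap ψ hψ y'.1 = x at hyx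
      subst hyx
      rw [hqx]
      apply injective_locModMap hψ H y'.1
      rw [locModMap_mk, locModMap_mk]
      exact hv'.symm.trans hval
    refine ⟨⟨q, ?_⟩, ?_⟩
    · rintro ⟨x, hx⟩
      obtain ⟨⟨y, hyU⟩, hyx⟩ := hex ⟨x, hx⟩
      change ProjectiveSpectrum.comap ψ hψ y = x at hyx
      subst hyx
      obtain ⟨W, hyW, iW, i, j, b, c, hc, hij, hfrac⟩ := t.2 ⟨y, hyU⟩
      obtain ⟨m, s, hij', hms⟩ := exists_frac hψ H n b c hij
      have hmem : ∀ z : ((Proj.map ψ hψ) ''ᵁ W : (Proj 𝒜).Opens), ∃ w : W, ProjectiveSpectrum.comap ψ hψ w.1 = z.1 := by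
        rintro ⟨_, w, hw, rfl⟩
        exact ⟨⟨w, hw⟩, rfl⟩
      refine ⟨(Proj.map ψ hψ) ''ᵁ W, ⟨y, hyW, rfl⟩, homOfLE ?_, i, j, m, s, ?_, hij', ?_⟩
      · rintro _ ⟨w, hw, rfl⟩
        exact iW.le hw
      · intro z
        obtain ⟨w, hw⟩ := hmem z
        rw [← hw]
        exact (hms w.1 (hc w)).1
      · intro z
        obtain ⟨w, hw⟩ := hmem z
        obtain ⟨hs, hms⟩ := hms w.1 (hc w)
        exact huniq ⟨z.1, _⟩ ⟨w.1, iW.le w.2⟩ m s _ hs hw ((hfrac w).trans hms)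
    · refine Subtype.ext (funext fun y => Subtype.ext ?_)
      obtain ⟨y', m, s, hs1, hs2, hy', hqx, hv'⟩ := hq ⟨ProjectiveSpectrum.comap ψ hψ y.1, y.2⟩
      have hyy : y' = y := Subtype.ext (hinj hy')
      subst hyy
      refine (congrArg (locModMap ψ hψ v y'.1) hqx).trans ?_
      rw [locModMap_mk]
      exact hv'.symm

end K36.ComapLoc

end
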