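import Groth.Agent.EGA2.K36.GamTw
import Groth.Agent.EGA2.K31.GrFracs

/-!
# Sections over `D_+(h)` of `ℋom(O(m), F)` on a relative Proj extend after multiplication by a power of `h`

* `fval`: value of a function at a point of a chart; `cn`: the section `a / 1` of `O(n)` over an open of `p⁻¹ U`;
* `inv`: the section `1 / g` of `O(-deg g)` where `g` does not vanish; `ev g θ = θ (1 / g)`;
* `exists_act_eq_zero`, `exists_extend`: the two halves of the extension property;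
* `exists_kill`, `exists_ev`: the same in terms of `ev`.
-/

set_option autoImplicit false
universe u
open CategoryTheory CategoryTheory.Limits AlgebraicGeometry TopologicalSpace Opposite

noncomputable section

namespace K36.GamTw.Tw

open RelProj K43.RelTw K43.GrFrac K40.GrMul K31.GrFracs
open Groth.Agent.CohqB.HomSheaf (homSheaf mkSec comp comp_map comp_add comp_smul comp_zero comp_res)
open Groth.Agent.Fdesc.LocGen (res res_res res_refl res_smul res_ext res_glue IsGen ores ores_ores ores_refl)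

variable {S P : Scheme.{u}} {𝒮 : QCGrAlg S} {p : P ⟶ S}
  {chart : ∀ (U : S.Opens) (hU : IsAffineOpen U), (((p ⁻¹ᵁ U : P.Opens) : Scheme.{u}) ≅ Proj (𝒮.deg U hU))}
  (T : Tw 𝒮 p chart)

variable (chart) in
/-- The value of a function at a point of a chart. -/
def fval {W : P.Opens} (c : Γ(P, W)) {U : S.Opens} (hU : IsAffineOpen U)
    (y : (emb p chart U hU ⁻¹ᵁ W : (Proj (𝒮.deg U hU)).Opens)) : GrTwist.Loc (𝒮.deg U hU) y.1 :=
  oval (𝒜 := 𝒮.deg U hU) ((emb p chart U hU).app W c) y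

omit T in
theorem fval_pow {W : P.Opens} (c : Γ(P, W)) (N : ℕ) {U : S.Opens} (hU : IsAffineOpen U)
    (y : (emb p chart U hU ⁻¹ᵁ W : (Proj (𝒮.deg U hU)).Opens)) :
    fval chart (c ^ N) hU y = fval chart c hU y ^ N := by
  rw [fval, map_pow, oval_pow]
  rfl

theorem val_smul {n : ℤ} {W : P.Opens} (c : Γ(P, W)) (x : Γ(T.O n, W)) {U : S.Opens} (hU : IsAffineOpen U)
    (y : (emb p chart U hU ⁻¹ᵁ W : (Proj (𝒮.deg U hU)).Opens)) :
    T.val (c • x) hU y = fval chart c hU y * T.val x hU y := by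
  rw [val, rdU_smul, K43.GrFrac.val_smul]
  rfl

section cn

variable {U : S.Opens} (hU : IsAffineOpen U)

/-- The section `a / 1` of `O(n)` over an open of `p⁻¹ U`. -/
def cn {n : ℤ} {i : ℕ} (h : (i : ℤ) = n) (a : 𝒮.deg U hU i) {W : P.Opens} (hW : W ≤ p ⁻¹ᵁ U) : Γ(T.O n, W) :=
  res (T.O n) hW (can (T.rel n) hU h a)

theorem res_cn {n : ℤ} {i : ℕ} (h : (i : ℤ) = n) (a : 𝒮.deg U hU i) {W V : P.Opens} (hW : W ≤ p ⁻¹ᵁ U) (hV : V ≤ W) :
    res (T.O n) hV (T.cn hU h a hW) = T.cn hU h a (hV.trans hW) := by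
  rw [cn, res_res, cn]

theorem val_cn {n : ℤ} {i : ℕ} (h : (i : ℤ) = n) (a : 𝒮.deg U hU i) {W : P.Opens} (hW : W ≤ p ⁻¹ᵁ U)
    (y : (emb p chart U hU ⁻¹ᵁ W : (Proj (𝒮.deg U hU)).Opens)) :
    T.val (T.cn hU h a hW) hU y = algebraMap _ (GrTwist.Loc (𝒮.deg U hU) y.1) a.1 := by
  rw [cn, val_res]
  exact T.val_can hU h a _

theorem isGen_cn {n : ℤ} {i : ℕ} (h : (i : ℤ) = n) (a : 𝒮.deg U hU i) {W : P.Opens} (hW : W ≤ Dp chart hU a.1) :
    IsGen (T.cn hU h a (hW.trans (Dp_le hU a.1))) := isGen_can (T.rel n) hU h a hW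

omit T in
theorem notMem_of_le {a : 𝒮.presheaf.obj (op U)} {W : P.Opens} (hW : W ≤ Dp chart hU a)
    (y : (emb p chart U hU ⁻¹ᵁ W : (Proj (𝒮.deg U hU)).Opens)) :
    a ∉ (show ProjectiveSpectrum (𝒮.deg U hU) from y.1).asHomogeneousIdeal :=
  (emb_mem_Dp hU a y.1).1 (hW y.2)

omit T in
theorem isUnit_of_le {a : 𝒮.presheaf.obj (op U)} {W : P.Opens} (hW : W ≤ Dp chart hU a)
    (y : (emb p chart U hU ⁻¹ᵁ W : (Proj (𝒮.deg U hU)).Opens)) :
    IsUnit (algebraMap _ (GrTwist.Loc (𝒮.deg U hU) y.1) a) :=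
  IsLocalization.map_units (GrTwist.Loc (𝒮.deg U hU) y.1)
    (⟨a, notMem_of_le hU hW y⟩ :
      (show ProjectiveSpectrum (𝒮.deg U hU) from y.1).asHomogeneousIdeal.toIdeal.primeCompl)

/-- `h ^ N`, of degree `N d`. -/
abbrev pw {d : ℕ} (h : 𝒮.deg U hU d) (N : ℕ) : 𝒮.deg U hU (N * d) := powE h N

omit T in
theorem Dp_pow {d : ℕ} (h : 𝒮.deg U hU d) (N : ℕ) : Dp chart hU h.1 ≤ Dp chart hU (pw hU h N).1 := by
  refine (emb p chart U hU).image_mono fun y hy => ?_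
  exact K31.GrSect.pow_notMem (show h.1 ∉ (show ProjectiveSpectrum (𝒮.deg U hU) from y).asHomogeneousIdeal from hy) N

/-- The section `1 / g` of `O(-deg g)` over an open where `g` does not vanish. -/
def inv {j : ℕ} {n : ℤ} (h : (j : ℤ) + n = 0) (g : 𝒮.deg U hU j) {V : P.Opens} (hV : V ≤ Dp chart hU g.1) :
    Γ(T.O n, V) :=
  (Equiv.ofBijective _ ((T.rel n).bijective U hU V (hV.trans (Dp_le hU g.1)))).symm
    (fracSec n (⟨1, SetLike.GradedOne.one_mem⟩ : 𝒮.deg U hU 0) g (by simpa using h.symm) (emb p chart U hU ⁻¹ᵁ V)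
      (fun y hy => notMem_of_le hU hV ⟨y, hy⟩))

theorem val_inv {j : ℕ} {n : ℤ} (h : (j : ℤ) + n = 0) (g : 𝒮.deg U hU j) {V : P.Opens} (hV : V ≤ Dp chart hU g.1)
    (y : (emb p chart U hU ⁻¹ᵁ V : (Proj (𝒮.deg U hU)).Opens)) :
    T.val (T.inv hU h g hV) hU y = Localization.mk 1 ⟨g.1, notMem_of_le hU hV y⟩ := by
  have h1 : rdU (T.lam n) hU (T.inv hU h g hV) = fracSec n (⟨1, SetLike.GradedOne.one_mem⟩ : 𝒮.deg U hU 0) g
      (by simpa using h.symm) (emb p chart U hU ⁻¹ᵁ V) (fun y hy => notMem_of_le hU hV ⟨y, hy⟩) :=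
    (Equiv.ofBijective _ ((T.rel n).bijective U hU V (hV.trans (Dp_le hU g.1)))).apply_symm_apply _
  rw [val, h1]
  rfl

theorem mul_val_inv {j : ℕ} {n : ℤ} (h : (j : ℤ) + n = 0) (g : 𝒮.deg U hU j) {V : P.Opens}
    (hV : V ≤ Dp chart hU g.1) (y : (emb p chart U hU ⁻¹ᵁ V : (Proj (𝒮.deg U hU)).Opens)) :
    algebraMap _ (GrTwist.Loc (𝒮.deg U hU) y.1) g.1 * T.val (T.inv hU h g hV) hU y = 1 := by
  rw [val_inv, ← Localization.mk_one_eq_algebraMap, Localization.mk_mul, ← Localization.mk_one,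
    Localization.mk_eq_mk_iff, Localization.r_iff_exists]
  exact ⟨1, by simp⟩

theorem res_inv {j : ℕ} {n : ℤ} (h : (j : ℤ) + n = 0) (g : 𝒮.deg U hU j) {V V' : P.Opens}
    (hV : V ≤ Dp chart hU g.1) (hV' : V' ≤ V) :
    res (T.O n) hV' (T.inv hU h g hV) = T.inv hU h g (hV'.trans hV) :=
  T.ext hU (hV'.trans (hV.trans (Dp_le hU g.1))) fun y => by rw [val_res, val_inv, val_inv]

theorem isGen_inv {j : ℕ} {n : ℤ} (h : (j : ℤ) + n = 0) (g : 𝒮.deg U hU j) {V : P.Opens}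
    (hV : V ≤ Dp chart hU g.1) : IsGen (T.inv hU h g hV) := by
  have h1 : rdU (T.lam n) hU (T.inv hU h g hV) = fracSec n (⟨1, SetLike.GradedOne.one_mem⟩ : 𝒮.deg U hU 0) g
      (by simpa using h.symm) (emb p chart U hU ⁻¹ᵁ V) (fun y hy => notMem_of_le hU hV ⟨y, hy⟩) :=
    (Equiv.ofBijective _ ((T.rel n).bijective U hU V (hV.trans (Dp_le hU g.1)))).apply_symm_apply _
  rw [← isGen_rd_iff (emb p chart U hU) (T.lam n U hU) (le_opensRange chart hU (hV.trans (Dp_le hU g.1)))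
    (fun V' hV' => (T.rel n).bijective U hU V' (hV'.trans (hV.trans (Dp_le hU g.1)))), ← rdU, h1]
  exact isGen_fracSec n _ _ _ _ _ (fun x _ => K43.GrFrac.one_notMem x)

variable {F : P.Modules}

/-- The value at `1 / g` of a section of `ℋom(O(-deg g), F)`. -/
def ev {j : ℕ} {n : ℤ} (h : (j : ℤ) + n = 0) (g : 𝒮.deg U hU j) {W : P.Opens} (θ : Γ(homSheaf (T.O n) F, W))
    {V : P.Opens} (hV : V ≤ Dp chart hU g.1) (hVW : V ≤ W) : Γ(F, V) := comp θ V hVW (T.inv hU h g hV)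

theorem res_ev {j : ℕ} {n : ℤ} (h : (j : ℤ) + n = 0) (g : 𝒮.deg U hU j) {W : P.Opens}
    (θ : Γ(homSheaf (T.O n) F, W)) {V V' : P.Opens} (hV : V ≤ Dp chart hU g.1) (hVW : V ≤ W) (h' : V' ≤ V) :
    res F h' (T.ev hU h g θ hV hVW) = T.ev hU h g θ (h'.trans hV) (h'.trans hVW) := by
  rw [ev, ev, ← res_inv T hU h g hV h']
  exact (comp_map θ hVW h' _).symm

theorem ev_res {j : ℕ} {n : ℤ} (h : (j : ℤ) + n = 0) (g : 𝒮.deg U hU j) {W W' : P.Opens} (hW : W' ≤ W)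
    (θ : Γ(homSheaf (T.O n) F, W)) {V : P.Opens} (hV : V ≤ Dp chart hU g.1) (hVW : V ≤ W') :
    T.ev hU h g (res (homSheaf (T.O n) F) hW θ) hV hVW = T.ev hU h g θ hV (hVW.trans hW) := rfl

theorem ev_add {j : ℕ} {n : ℤ} (h : (j : ℤ) + n = 0) (g : 𝒮.deg U hU j) {W : P.Opens}
    (θ θ' : Γ(homSheaf (T.O n) F, W)) {V : P.Opens} (hV : V ≤ Dp chart hU g.1) (hVW : V ≤ W) :
    T.ev hU h g (θ + θ') hV hVW = T.ev hU h g θ hV hVW + T.ev hU h g θ' hV hVW := rfl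

theorem ev_sub {j : ℕ} {n : ℤ} (h : (j : ℤ) + n = 0) (g : 𝒮.deg U hU j) {W : P.Opens}
    (θ θ' : Γ(homSheaf (T.O n) F, W)) {V : P.Opens} (hV : V ≤ Dp chart hU g.1) (hVW : V ≤ W) :
    T.ev hU h g (θ - θ') hV hVW = T.ev hU h g θ hV hVW - T.ev hU h g θ' hV hVW := rfl

/-- A section which is zero at `1 / g` is zero where `g` does not vanish. -/
theorem res_eq_zero_of_ev {j : ℕ} {n : ℤ} (h : (j : ℤ) + n = 0) (g : 𝒮.deg U hU j) {W : P.Opens}
    (θ : Γ(homSheaf (T.O n) F, W)) {V : P.Opens} (hV : V ≤ Dp chart hU g.1) (hVW : V ≤ W)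
    (h0 : T.ev hU h g θ hV hVW = 0) : res (homSheaf (T.O n) F) hVW θ = 0 := by
  refine Groth.Agent.CohqB.HomSheaf.sec_ext fun V' hV' x => ?_
  obtain ⟨c, hc⟩ := ((T.isGen_inv hU h g (hV'.trans hV))).exists_eq x
  change comp θ V' (hV'.trans hVW) x = 0
  rw [hc, map_smul]
  have h1 := T.res_ev hU h g θ hV hVW hV'
  rw [h0, map_zero] at h1
  change c • T.ev hU h g θ (hV'.trans hV) (hV'.trans hVW) = 0
  rw [← h1, smul_zero]

variable (hP : IsRelProj 𝒮 p chart)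

/-- `(a θ)(1 / (a g)) = θ(1 / g)`. -/
theorem ev_act {i j k : ℕ} {n n' : ℤ} (h : (j : ℤ) + n = 0) (h' : (k : ℤ) + n' = 0) {m : ℤ} (hm : (i : ℤ) = m)
    (hk : m + n' = n) (a : 𝒮.deg U hU i) (g : 𝒮.deg U hU j) (ag : 𝒮.deg U hU k) (hag : ag.1 = a.1 * g.1)
    {W : P.Opens} (hW : W ≤ p ⁻¹ᵁ U) (θ : Γ(homSheaf (T.O n) F, W)) {V : P.Opens} (hV : V ≤ Dp chart hU g.1)
    (hV' : V ≤ Dp chart hU ag.1) (hVW : V ≤ W) :
    T.ev hU h' ag (T.act hP hk (T.cn hU hm a hW) θ) hV' hVW = T.ev hU h g θ hV hVW := by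
  rw [ev, comp_act, ev, res_cn]
  congr 1
  refine T.ext hU (hVW.trans hW) fun y => ?_
  rw [val_mul, val_cn]
  have h1 := T.mul_val_inv hU h g hV y
  have h2 := T.mul_val_inv hU h' ag hV' y
  rw [hag, map_mul] at h2
  calc algebraMap _ _ a.1 * T.val (T.inv hU h' ag hV') hU y
      = (algebraMap _ _ g.1 * T.val (T.inv hU h g hV) hU y) *
        (algebraMap _ _ a.1 * T.val (T.inv hU h' ag hV') hU y) := by rw [h1, one_mul]
    _ = T.val (T.inv hU h g hV) hU y *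
        (algebraMap _ _ a.1 * algebraMap _ _ g.1 * T.val (T.inv hU h' ag hV') hU y) := by ring
    _ = _ := by rw [h2, mul_one]

theorem act_cn_cn {i j k : ℕ} {m m' m'' l₁ l₂ l₃ : ℤ} (h1 : (i : ℤ) = l₁) (h2 : (j : ℤ) = l₂) (h3 : (k : ℤ) = l₃)
    (e1 : l₁ + m'' = m') (e2 : l₂ + m' = m) (e3 : l₃ + m'' = m) (a : 𝒮.deg U hU i) (b : 𝒮.deg U hU j)
    (c : 𝒮.deg U hU k) (hc : c.1 = a.1 * b.1) {W : P.Opens} (hW : W ≤ p ⁻¹ᵁ U) (θ : Γ(homSheaf (T.O m) F, W)) :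
    T.act hP e1 (T.cn hU h1 a hW) (T.act hP e2 (T.cn hU h2 b hW) θ) = T.act hP e3 (T.cn hU h3 c hW) θ := by
  have e4 : l₁ + l₂ = l₃ := by omega
  rw [T.act_act hP e4 e3 e2 e1]
  congr 1
  refine T.ext hU hW fun y => ?_
  rw [val_mul, val_cn, val_cn, val_cn, hc, map_mul]

end cn

end K36.GamTw.Tw

end
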