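import Groth.Agent.EGA2.K36.GamEv
import Groth.Agent.Ega1.QCohLoc

/-!
# Sections of `ℋom(O(m), F)` over `D_+(h)` extend after multiplication by a power of `h`
-/

set_option autoImplicit false
universe u
open CategoryTheory CategoryTheory.Limits AlgebraicGeometry TopologicalSpace Opposite

noncomputable section

namespace K36.GamTw.Tw

open RelProj K43.RelTw K43.GrFrac K40.GrMul K31.GrFracs Groth.Agent.Ega2.Nv
open Groth.Agent.CohqB.HomSheaf (homSheaf mkSec comp comp_map comp_add comp_smul comp_zero comp_res)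
open Groth.Agent.Fdesc.LocGen (res res_res res_refl res_smul res_ext res_glue IsGen ores ores_ores ores_refl)

variable {S P : Scheme.{u}} {𝒮 : QCGrAlg S} {p : P ⟶ S}
  {chart : ∀ (U : S.Opens) (hU : IsAffineOpen U), (((p ⁻¹ᵁ U : P.Opens) : Scheme.{u}) ≅ Proj (𝒮.deg U hU))}
  (T : Tw 𝒮 p chart) {U : S.Opens} (hU : IsAffineOpen U) {F : P.Modules} (hP : IsRelProj 𝒮 p chart)

variable (𝒮) in
/-- The elements of degree `d` have no common zero on `Proj 𝒮(U)`. -/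
def NoZero (d : ℕ) : Prop :=
  ∀ y : ProjectiveSpectrum (𝒮.deg U hU), ∃ b : 𝒮.deg U hU d, b.1 ∉ y.asHomogeneousIdeal

include T in
theorem exists_coef (f : 𝒮.deg U hU 1) {d : ℕ} (h : 𝒮.deg U hU d) {W : P.Opens} (hW : W ≤ Dp chart hU f.1)
    (hcov : NoZero 𝒮 hU d) :
    ∃ t : Γ(P, W), W ⊓ Dp chart hU h.1 = P.basicOpen t ∧
      ∀ y : (emb p chart U hU ⁻¹ᵁ W : (Proj (𝒮.deg U hU)).Opens),
        algebraMap _ (GrTwist.Loc (𝒮.deg U hU) y.1) h.1 =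
          fval chart t hU y * algebraMap _ (GrTwist.Loc (𝒮.deg U hU) y.1) f.1 ^ d := by
  have h1 : ((d * 1 : ℕ) : ℤ) = (d : ℤ) := by simp
  have hWU : W ≤ p ⁻¹ᵁ U := hW.trans (Dp_le (chart := chart) hU _)
  obtain ⟨t, ht⟩ := (T.isGen_cn hU h1 (pw hU f d) (hW.trans (Dp_pow hU f d))).exists_eq
    (T.cn hU (n := (d : ℤ)) rfl h hWU)
  refine ⟨t, ?_, fun y => ?_⟩
  · have h2 := nv_inf_of_eq_smul (can (T.rel d) hU rfl h) hWU
      (T.isGen_cn hU h1 (pw hU f d) (hW.trans (Dp_pow hU f d))) t ht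
    rwa [nv_can (T.rel d) hU rfl hcov] at h2
  · have h3 := congrArg (fun x => T.val x hU y) ht
    rw [T.val_cn, T.val_smul, T.val_cn] at h3
    rw [h3]
    congr 1
    change algebraMap _ _ (f.1 ^ d) = _
    rw [map_pow]

/-- `h ^ N = t ^ N f ^ (N d)` on sections. -/
theorem cn_pw_eq (f : 𝒮.deg U hU 1) {d : ℕ} (h : 𝒮.deg U hU d) {W : P.Opens} (hW : W ≤ p ⁻¹ᵁ U) (t : Γ(P, W))
    (ht : ∀ y : (emb p chart U hU ⁻¹ᵁ W : (Proj (𝒮.deg U hU)).Opens),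
        algebraMap _ (GrTwist.Loc (𝒮.deg U hU) y.1) h.1 =
          fval chart t hU y * algebraMap _ (GrTwist.Loc (𝒮.deg U hU) y.1) f.1 ^ d) (N : ℕ) :
    T.cn hU (n := ((N * d : ℕ) : ℤ)) rfl (pw hU h N) hW =
      t ^ N • T.cn hU (n := ((N * d : ℕ) : ℤ)) (by simp) (pw hU f (N * d)) hW := by
  refine T.ext hU hW fun y => ?_
  rw [T.val_smul, T.val_cn, T.val_cn, fval_pow]
  change algebraMap _ _ (h.1 ^ N) = _ * algebraMap _ _ (f.1 ^ (N * d))
  rw [map_pow, map_pow, ht y, mul_pow, ← pow_mul, mul_comm d N]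

theorem act_sub {i m m' : ℤ} (hk : i + m' = m) {W : P.Opens} (s : Γ(T.O i, W)) (θ θ' : Γ(homSheaf (T.O m) F, W)) :
    T.act hP hk s (θ - θ') = T.act hP hk s θ - T.act hP hk s θ' := by
  rw [eq_sub_iff_add_eq, ← act_add, sub_add_cancel]

theorem exists_act_eq_zero_of_le {m : ℤ} (hq : Coh.IsQCoh (homSheaf (T.O m) F)) (f : 𝒮.deg U hU 1) {d : ℕ}
    (h : 𝒮.deg U hU d) (hcov : NoZero 𝒮 hU d) {W : P.Opens} (hWa : IsAffineOpen W) (hW : W ≤ Dp chart hU f.1)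
    (θ : Γ(homSheaf (T.O m) F, W))
    (h0 : res (homSheaf (T.O m) F) (inf_le_left : W ⊓ Dp chart hU h.1 ≤ W) θ = 0) :
    ∃ N : ℕ, ∀ N' ≥ N, ∀ (m' : ℤ) (hk : ((N' * d : ℕ) : ℤ) + m' = m),
      T.act hP hk (T.cn hU rfl (pw hU h N') (hW.trans (Dp_le (chart := chart) hU _))) θ = 0 := by
  obtain ⟨t, ht, hv⟩ := T.exists_coef hU f h hW hcov
  obtain ⟨N, hN⟩ := (Groth.Agent.Ega1.QCohLoc.isLocAt_of_isQCoh hq hWa t).inj' ht inf_le_left θ h0
  refine ⟨N, fun N' hN' m' hk => ?_⟩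
  have h1 : t ^ N' • θ = 0 := by
    obtain ⟨k, rfl⟩ := Nat.exists_eq_add_of_le' hN'
    rw [pow_add, mul_smul, hN, smul_zero]
  rw [T.cn_pw_eq hU f h (hW.trans (Dp_le (chart := chart) hU _)) t hv N', smul_act, ← act_smul, h1, act_zero]

theorem exists_act_eq_zero {m : ℤ} (hq : Coh.IsQCoh (homSheaf (T.O m) F)) {ι : Type*} [Finite ι]
    (f : ι → 𝒮.deg U hU 1) (hf : p ⁻¹ᵁ U ≤ ⨆ i, Dp chart hU (f i).1) {d : ℕ}
    (h : 𝒮.deg U hU d) (hcov : NoZero 𝒮 hU d) (θ : Γ(homSheaf (T.O m) F, p ⁻¹ᵁ U))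
    (h0 : res (homSheaf (T.O m) F) (Dp_le (chart := chart) hU h.1) θ = 0) :
    ∃ N : ℕ, ∀ N' ≥ N, ∀ (m' : ℤ) (hk : ((N' * d : ℕ) : ℤ) + m' = m),
      T.act hP hk (T.cn hU rfl (pw hU h N') le_rfl) θ = 0 := by
  classical
  cases nonempty_fintype ι
  have h1 : ∀ i, ∃ N : ℕ, ∀ N' ≥ N, ∀ (m' : ℤ) (hk : ((N' * d : ℕ) : ℤ) + m' = m),
      T.act hP hk (T.cn hU rfl (pw hU h N') (Dp_le (chart := chart) hU (f i).1)) (res (homSheaf (T.O m) F) (Dp_le (chart := chart) hU (f i).1) θ) = 0 := by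
    intro i
    refine T.exists_act_eq_zero_of_le hU hP hq (f i) h hcov (isAffineOpen_Dp hU one_pos (f i)) le_rfl _ ?_
    rw [res_res]
    have h2 := congrArg (res (homSheaf (T.O m) F)
      (inf_le_right : Dp chart hU (f i).1 ⊓ Dp chart hU h.1 ≤ Dp chart hU h.1)) h0
    rwa [res_res, map_zero] at h2
  choose N hN using h1
  refine ⟨Finset.univ.sup N, fun N' hN' m' hk => ?_⟩
  refine res_ext _ (fun i => Dp chart hU (f i).1) (fun i => Dp_le (chart := chart) hU _) hf fun i => ?_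
  rw [res_act, res_cn, map_zero]
  exact hN i N' ((Finset.le_sup (Finset.mem_univ i)).trans hN') m' hk

theorem exists_extend (hq : ∀ m : ℤ, Coh.IsQCoh (homSheaf (T.O m) F)) {ι : Type*} [Finite ι]
    (f : ι → 𝒮.deg U hU 1) (hf : p ⁻¹ᵁ U ≤ ⨆ i, Dp chart hU (f i).1) {d : ℕ}
    (h : 𝒮.deg U hU d) (hcov : NoZero 𝒮 hU d) (hcov1 : NoZero 𝒮 hU 1) {m : ℤ}
    (θ : Γ(homSheaf (T.O m) F, Dp chart hU h.1)) :
    ∃ N : ℕ, ∀ (m' : ℤ) (hk : ((N * d : ℕ) : ℤ) + m' = m), ∃ θ' : Γ(homSheaf (T.O m') F, p ⁻¹ᵁ U),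
      res _ (Dp_le (chart := chart) hU h.1) θ' = T.act hP hk (T.cn hU rfl (pw hU h N) (Dp_le (chart := chart) hU h.1)) θ := by
  classical
  cases nonempty_fintype ι
  have h1 : ∀ i, ∃ (t : Γ(P, Dp chart hU (f i).1)) (n : ℕ) (σ : Γ(homSheaf (T.O m) F, Dp chart hU (f i).1)),
      (∀ y : (emb p chart U hU ⁻¹ᵁ Dp chart hU (f i).1 : (Proj (𝒮.deg U hU)).Opens),
        algebraMap _ (GrTwist.Loc (𝒮.deg U hU) y.1) h.1 =
          fval chart t hU y * algebraMap _ (GrTwist.Loc (𝒮.deg U hU) y.1) (f i).1 ^ d) ∧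
      res _ (inf_le_left : Dp chart hU (f i).1 ⊓ Dp chart hU h.1 ≤ _) σ =
        ores (inf_le_left : Dp chart hU (f i).1 ⊓ Dp chart hU h.1 ≤ _) t ^ n • res _ (inf_le_right : Dp chart hU (f i).1 ⊓ Dp chart hU h.1 ≤ _) θ := by
    intro i
    obtain ⟨t, ht, hv⟩ := T.exists_coef hU (f i) h le_rfl hcov
    obtain ⟨n, σ, hσ⟩ := (Groth.Agent.Ega1.QCohLoc.isLocAt_of_isQCoh (hq m)
      (isAffineOpen_Dp hU one_pos (f i)) t).surj' ht inf_le_left (res _ (inf_le_right : Dp chart hU (f i).1 ⊓ Dp chart hU h.1 ≤ _) θ)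
    exact ⟨t, n, σ, hv, hσ⟩
  choose t n σ hv hσ using h1
  set M := Finset.univ.sup n with hM
  have hnM : ∀ i, n i ≤ M := fun i => Finset.le_sup (Finset.mem_univ i)
  -- `τ i` extends `h ^ M θ` to `D_+(f i)`
  have h2 : ∀ i, ∃ τ : Γ(homSheaf (T.O (m - ((M * d : ℕ) : ℤ))) F, Dp chart hU (f i).1),
      res _ (inf_le_left : Dp chart hU (f i).1 ⊓ Dp chart hU h.1 ≤ _) τ =
        T.act hP (by omega) (T.cn hU (n := ((M * d : ℕ) : ℤ)) rfl (pw hU h M) (inf_le_right.trans (Dp_le (chart := chart) hU h.1)))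
          (res _ (inf_le_right : Dp chart hU (f i).1 ⊓ Dp chart hU h.1 ≤ _) θ) := by
    intro i
    refine ⟨T.act hP (by omega) (T.cn hU (n := ((M * d : ℕ) : ℤ)) (by simp) (pw hU (f i) (M * d)) (Dp_le (chart := chart) hU (f i).1))
      (t i ^ (M - n i) • σ i), ?_⟩
    rw [res_act, res_cn, res_smul, hσ, smul_smul, map_pow, ← pow_add, Nat.sub_add_cancel (hnM i), act_smul, ← smul_act]
    congr 1
    refine Eq.symm (T.cn_pw_eq hU (f i) h _ (ores inf_le_left (t i)) (fun y => ?_) M)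
    have h3 := hv i ⟨y.1, (emb p chart U hU).preimage_mono inf_le_left y.2⟩
    rw [h3]
    congr 1
    have h4 := T.val_res (n := 0) (inf_le_left : Dp chart hU (f i).1 ⊓ Dp chart hU h.1 ≤ Dp chart hU (f i).1)
      (t i • T.cn hU (i := 0) rfl ⟨1, SetLike.GradedOne.one_mem⟩ (Dp_le (chart := chart) hU (f i).1)) hU y
    rw [res_smul, T.val_smul, T.val_smul, res_cn, T.val_cn, T.val_cn, map_one, mul_one, mul_one] at h4
    exact h4.symm
  choose τ hτ using h2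
  -- agreement on overlaps after multiplication
  have haff : ∀ i j, IsAffineOpen (Dp chart hU (f i).1 ⊓ Dp chart hU (f j).1) := by
    intro i j
    obtain ⟨s, hs, -⟩ := T.exists_coef hU (f i) (f j) (W := Dp chart hU (f i).1) le_rfl hcov1
    rw [hs]
    exact (isAffineOpen_Dp hU one_pos (f i)).basicOpen s
  have h3 : ∀ q : ι × ι, ∃ N : ℕ, ∀ N' ≥ N, ∀ (m' : ℤ) (hk : ((N' * d : ℕ) : ℤ) + m' = m - ((M * d : ℕ) : ℤ)),
      T.act hP hk (T.cn hU rfl (pw hU h N')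
        ((inf_le_left : Dp chart hU (f q.1).1 ⊓ Dp chart hU (f q.2).1 ≤ _).trans (Dp_le (chart := chart) hU _)))
        (res _ (inf_le_left : Dp chart hU (f q.1).1 ⊓ Dp chart hU (f q.2).1 ≤ _) (τ q.1) -
          res _ (inf_le_right : Dp chart hU (f q.1).1 ⊓ Dp chart hU (f q.2).1 ≤ _) (τ q.2)) = 0 := by
    rintro ⟨i, j⟩
    refine T.exists_act_eq_zero_of_le hU hP (hq _) (f i) h hcov (haff i j) inf_le_left _ ?_
    dsimp only
    have e1 : Dp chart hU (f i).1 ⊓ Dp chart hU (f j).1 ⊓ Dp chart hU h.1 ≤ Dp chart hU (f i).1 ⊓ Dp chart hU h.1 := inf_le_inf_right _ inf_le_left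
    have e2 : Dp chart hU (f i).1 ⊓ Dp chart hU (f j).1 ⊓ Dp chart hU h.1 ≤ Dp chart hU (f j).1 ⊓ Dp chart hU h.1 := inf_le_inf_right _ inf_le_right
    have h4 := congrArg (res _ e1) (hτ i)
    have h5 := congrArg (res _ e2) (hτ j)
    rw [res_res, res_act, res_cn, res_res] at h4 h5
    rw [map_sub, res_res, res_res, h4, h5, sub_self]
  choose K hK using h3
  set K₀ := Finset.univ.sup K with hK₀
  refine ⟨K₀ + M, fun m' hk => ?_⟩
  have hk2 : ((K₀ * d : ℕ) : ℤ) + m' = m - ((M * d : ℕ) : ℤ) := by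
    rw [← hk]; push_cast; ring
  obtain ⟨θ', hθ'⟩ := res_glue (homSheaf (T.O m') F) (V := p ⁻¹ᵁ U) (fun i => Dp chart hU (f i).1)
    (fun i => Dp_le (chart := chart) hU _) hf
    (fun i => T.act hP hk2 (T.cn hU rfl (pw hU h K₀) (Dp_le (chart := chart) hU (f i).1)) (τ i)) (fun i j => by
      have h4 := hK (i, j) K₀ (Finset.le_sup (Finset.mem_univ (i, j))) m' hk2
      rw [act_sub, sub_eq_zero] at h4
      rw [res_act, res_act, res_cn, res_cn]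
      exact h4)
  refine ⟨θ', ?_⟩
  have hcovD : Dp chart hU h.1 ≤ ⨆ i, Dp chart hU (f i).1 ⊓ Dp chart hU h.1 := by
    rw [← iSup_inf_eq]
    exact le_inf ((Dp_le (chart := chart) hU h.1).trans hf) le_rfl
  refine res_ext _ (fun i => Dp chart hU (f i).1 ⊓ Dp chart hU h.1) (fun i => inf_le_right) hcovD fun i => ?_
  have h6 := congrArg (res (homSheaf (T.O m') F) (inf_le_left : Dp chart hU (f i).1 ⊓ Dp chart hU h.1 ≤ _)) (hθ' i)
  rw [res_res, res_act, res_cn, hτ i] at h6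
  rw [res_res, h6, res_act, res_cn]
  refine T.act_cn_cn hU hP rfl rfl rfl hk2 _ hk _ _ _ ?_ _ _
  exact pow_add h.1 K₀ M

end K36.GamTw.Tw

end
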