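import Groth.Agent.EGA2.K36.GamExt

/-!
# Sections of `F` near a point of a relative Proj are the `θ (1 / g)`, `θ` over all of `p⁻¹ U`
-/

set_option autoImplicit false
universe u
open CategoryTheory CategoryTheory.Limits AlgebraicGeometry TopologicalSpace Opposite

noncomputable section

namespace K36.GamTw

open Groth.Agent.CohqB.HomSheaf (homSheaf mkSec comp)
open Groth.Agent.Fdesc.LocGen (res res_res res_smul IsGen ores)

/-- A morphism from a module with a generator over `V` may be given by its value at the generator. -/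
theorem exists_hom_of_isGen {X : Scheme.{u}} {M N : X.Modules} {V : X.Opens} {e : Γ(M, V)} (he : IsGen e)
    (s : Γ(N, V)) : ∃ θ : Γ(homSheaf M N, V), ∀ (V' : X.Opens) (h : V' ≤ V), comp θ V' h (res M h e) = res N h s := by
  let φ : ∀ (V' : X.Opens) (h : V' ≤ V), Γ(X, V') ≃ₗ[Γ(X, V')] Γ(M, V') := fun V' h =>
    LinearEquiv.ofBijective (LinearMap.toSpanSingleton _ _ (res M h e)) (he V' h)
  have hφ : ∀ (V' : X.Opens) (h : V' ≤ V) (c : Γ(X, V')), φ V' h c = c • res M h e := fun V' h c => rfl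
  have hφ' : ∀ (V' : X.Opens) (h : V' ≤ V) (c : Γ(X, V')), (φ V' h).symm (c • res M h e) = c := fun V' h c => by
    rw [← hφ, LinearEquiv.symm_apply_apply]
  refine ⟨mkSec (fun V' h => (LinearMap.toSpanSingleton _ _ (res N h s)).comp (φ V' h).symm.toLinearMap) ?_, ?_⟩
  · intro V' W hV h m
    obtain ⟨c, rfl⟩ := (φ V' hV).surjective m
    change (φ W (h.trans hV)).symm (res M h (φ V' hV c)) • res N (h.trans hV) s =
      res N h ((φ V' hV).symm (φ V' hV c) • res N hV s)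
    rw [LinearEquiv.symm_apply_apply, hφ, res_smul, res_smul, res_res, res_res, hφ']
  · intro V' h
    change (φ V' h).symm (res M h e) • res N h s = res N h s
    have h1 := hφ' V' h 1
    rw [one_smul] at h1
    rw [h1, one_smul]

end K36.GamTw

namespace K36.GamTw.Tw

open RelProj K43.RelTw K43.GrFrac K40.GrMul K31.GrFracs Groth.Agent.Ega2.Nv
open Groth.Agent.CohqB.HomSheaf (homSheaf mkSec comp comp_map comp_add comp_smul comp_zero comp_res)
open Groth.Agent.Fdesc.LocGen (res res_res res_refl res_smul res_ext res_glue IsGen ores ores_ores ores_refl)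

variable {S P : Scheme.{u}} {𝒮 : QCGrAlg S} {p : P ⟶ S}
  {chart : ∀ (U : S.Opens) (hU : IsAffineOpen U), (((p ⁻¹ᵁ U : P.Opens) : Scheme.{u}) ≅ Proj (𝒮.deg U hU))}
  (T : Tw 𝒮 p chart) {U : S.Opens} (hU : IsAffineOpen U) {F : P.Modules} (hP : IsRelProj 𝒮 p chart)

theorem NoZero.all {S : Scheme.{u}} {𝒮 : QCGrAlg S} {U : S.Opens} {hU : IsAffineOpen U} (h : NoZero 𝒮 hU 1) (d : ℕ) :
    NoZero 𝒮 hU d := fun y => by
  obtain ⟨b, hb⟩ := h y
  exact ⟨⟨b.1 ^ d, by have h1 := pow_mem' b.2 d; rwa [mul_one] at h1⟩, K31.GrSect.pow_notMem hb d⟩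

variable (chart) in
theorem exists_Dp_le (y : Proj (𝒮.deg U hU)) {W : P.Opens} (hy : emb p chart U hU y ∈ W) :
    ∃ (d : ℕ) (b : 𝒮.deg U hU d), 0 < d ∧
      b.1 ∉ (show ProjectiveSpectrum (𝒮.deg U hU) from y).asHomogeneousIdeal ∧ Dp chart hU b.1 ≤ W := by
  obtain ⟨d, b, hd, hb, hby, hle⟩ := K31.GrSect.exists_basicOpen_le (𝒜 := 𝒮.deg U hU) y
    (V := emb p chart U hU ⁻¹ᵁ W) hy
  refine ⟨d, ⟨b, hb⟩, hd, hby, ?_⟩
  rintro _ ⟨z, hz, rfl⟩
  exact hle z hz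

variable {ι : Type*} [Finite ι] (f : ι → 𝒮.deg U hU 1) (hf : p ⁻¹ᵁ U ≤ ⨆ i, Dp chart hU (f i).1)
  (hcov1 : NoZero 𝒮 hU 1)

include hf hcov1 in
/-- If `θ (1 / g) = 0` near `y` then `a θ = 0` for some homogeneous `a` not vanishing at `y`. -/
theorem exists_kill {m : ℤ} (hq : Coh.IsQCoh (homSheaf (T.O m) F)) {j : ℕ} (h : (j : ℤ) + m = 0)
    (g : 𝒮.deg U hU j) (θ : Γ(homSheaf (T.O m) F, p ⁻¹ᵁ U)) {V : P.Opens} (hV : V ≤ Dp chart hU g.1)
    (y : Proj (𝒮.deg U hU)) (hy : emb p chart U hU y ∈ V)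
    (h0 : T.ev hU h g θ hV (hV.trans (Dp_le hU g.1)) = 0) :
    ∃ (k : ℕ) (a : 𝒮.deg U hU k), a.1 ∉ (show ProjectiveSpectrum (𝒮.deg U hU) from y).asHomogeneousIdeal ∧
      ∀ (m' : ℤ) (hk : (k : ℤ) + m' = m), T.act hP hk (T.cn hU rfl a le_rfl) θ = 0 := by
  obtain ⟨d, b, hd, hby, hle⟩ := exists_Dp_le chart hU y hy
  have h1 := T.res_eq_zero_of_ev hU h g θ hV (hV.trans (Dp_le hU g.1)) h0
  have h2 : res (homSheaf (T.O m) F) (Dp_le (chart := chart) hU b.1) θ = 0 := by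
    have := congrArg (res _ hle) h1
    rwa [res_res, map_zero] at this
  obtain ⟨N, hN⟩ := T.exists_act_eq_zero hU hP hq f hf b (hcov1.all d) θ h2
  exact ⟨N * d, pw hU b N, K31.GrSect.pow_notMem hby N, hN N le_rfl⟩

include hf hcov1 hP in
/-- Every section of `F` near `y` is of the form `θ (1 / g)`. -/
theorem exists_ev (hq : ∀ m : ℤ, Coh.IsQCoh (homSheaf (T.O m) F)) {W : P.Opens} (s : Γ(F, W))
    (y : Proj (𝒮.deg U hU)) (hy : emb p chart U hU y ∈ W) :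
    ∃ (j : ℕ) (g : 𝒮.deg U hU j) (V : P.Opens) (hV : V ≤ Dp chart hU g.1) (hVW : V ≤ W), emb p chart U hU y ∈ V ∧
      ∀ (m : ℤ) (h : (j : ℤ) + m = 0), ∃ θ : Γ(homSheaf (T.O m) F, p ⁻¹ᵁ U),
        T.ev hU h g θ hV (hV.trans (Dp_le hU g.1)) = res F hVW s := by
  obtain ⟨d, b, hd, hby, hle⟩ := exists_Dp_le chart hU y hy
  have hone : IsGen (T.cn hU (n := 0) (i := 0) rfl ⟨1, SetLike.GradedOne.one_mem⟩ (Dp_le (chart := chart) hU b.1)) := by
    refine T.isGen_cn hU rfl _ (W := Dp chart hU b.1) ?_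
    exact (emb p chart U hU).image_mono fun z _ => K43.GrFrac.one_notMem (𝒜 := 𝒮.deg U hU) z
  obtain ⟨θ₀, hθ₀⟩ := exists_hom_of_isGen hone (res F hle s)
  obtain ⟨N, hN⟩ := T.exists_extend hU hP hq f hf b (hcov1.all d) hcov1 θ₀
  refine ⟨N * d, pw hU b N, Dp chart hU b.1, Dp_pow hU b N, hle, (emb_mem_Dp hU b.1 y).2 hby, fun m h => ?_⟩
  obtain ⟨θ', hθ'⟩ := hN m h
  refine ⟨θ', ?_⟩
  rw [← T.ev_res hU h (pw hU b N) (Dp_le hU b.1) θ' (Dp_pow hU b N) le_rfl, hθ', ev, comp_act, res_refl]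
  have h3 : T.mul hP h (Dp chart hU b.1) (T.cn hU rfl (pw hU b N) (Dp_le hU b.1)) (T.inv hU h (pw hU b N) (Dp_pow hU b N)) =
      T.cn hU (n := 0) (i := 0) rfl ⟨1, SetLike.GradedOne.one_mem⟩ (Dp_le (chart := chart) hU b.1) := by
    refine T.ext hU (Dp_le hU b.1) fun z => ?_
    rw [val_mul, val_cn, mul_val_inv, val_cn, map_one]
  rw [h3]
  have h4 := hθ₀ _ le_rfl
  rw [res_refl, res_refl] at h4
  exact h4

end K36.GamTw.Tw

end
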