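import Groth.Agent.EGA2.K43.RelTw
import Groth.Agent.EGA2.K40.RelMul
import Groth.Agent.EGA2.K36.TildeEx
import Groth.Agent.CohqB.HomSheaf

/-!
# The twisting sheaves of a relative Proj act on the modules `ℋom(O(m), F)`

* `Tw 𝒮 p chart`: a choice of `O_P(n)` for all `n : ℤ`; `exists_tw`;
* `Tw.mul`: the multiplication `O(m) × O(n) → O(m + n)` on sections, `val_mul`, `mul_assoc`, `mul_comm`, `res_mul`;
* `Tw.act`: a section of `O(i)` acts from `ℋom(O(m), F)` to `ℋom(O(m - i), F)`.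
-/

set_option autoImplicit false
universe u
open CategoryTheory CategoryTheory.Limits AlgebraicGeometry TopologicalSpace Opposite

noncomputable section

namespace K36.GamTw

open RelProj K43.RelTw K43.GrFrac K40.GrMul
open Groth.Agent.CohqB.HomSheaf (homSheaf mkSec comp comp_map comp_add comp_smul comp_zero comp_res)
open Groth.Agent.Fdesc.LocGen (res res_res res_refl res_smul res_ext res_glue IsGen ores ores_ores ores_refl)

variable {S P : Scheme.{u}} (𝒮 : QCGrAlg S) (p : P ⟶ S)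
  (chart : ∀ (U : S.Opens) (hU : IsAffineOpen U), (((p ⁻¹ᵁ U : P.Opens) : Scheme.{u}) ≅ Proj (𝒮.deg U hU)))

/-- A choice of all the twisting sheaves of a relative Proj. -/
structure Tw where
  /-- the module `O_P(n)` -/
  O : ℤ → P.Modules
  /-- its readings in the charts -/
  lam : ∀ (n : ℤ) (U : S.Opens) (hU : IsAffineOpen U),
    O n ⟶ (Scheme.Modules.pushforward (emb p chart U hU)).obj (GrTwist.twist (𝒮.deg U hU) n)
  /-- it is `O_P(n)` -/
  rel : ∀ n : ℤ, IsRelTwist 𝒮 p chart n (O n) (lam n)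

variable {𝒮 p chart}

theorem exists_tw (hP : IsRelProj 𝒮 p chart) : Nonempty (Tw 𝒮 p chart) := by
  choose O lam h using fun n : ℤ => K36.TildeEx.exists_isRelTwist hP n
  exact ⟨⟨O, lam, h⟩⟩

namespace Tw

variable (T : Tw 𝒮 p chart)

/-- The value of a section of `O(n)` at a point of a chart. -/
def val {n : ℤ} {W : P.Opens} (x : Γ(T.O n, W)) {U : S.Opens} (hU : IsAffineOpen U)
    (y : (emb p chart U hU ⁻¹ᵁ W : (Proj (𝒮.deg U hU)).Opens)) : GrTwist.Loc (𝒮.deg U hU) y.1 :=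
  GrTwist.val (rdU (T.lam n) hU x) y

theorem val_res {n : ℤ} {W V : P.Opens} (h : V ≤ W) (x : Γ(T.O n, W)) {U : S.Opens} (hU : IsAffineOpen U)
    (y : (emb p chart U hU ⁻¹ᵁ V : (Proj (𝒮.deg U hU)).Opens)) :
    T.val (res (T.O n) h x) hU y = T.val x hU ⟨y.1, (emb p chart U hU).preimage_mono h y.2⟩ := by
  rw [val, rdU, rd_res]
  rfl

theorem val_add {n : ℤ} {W : P.Opens} (x x' : Γ(T.O n, W)) {U : S.Opens} (hU : IsAffineOpen U)
    (y : (emb p chart U hU ⁻¹ᵁ W : (Proj (𝒮.deg U hU)).Opens)) :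
    T.val (x + x') hU y = T.val x hU y + T.val x' hU y := by
  rw [val, rdU, rd_add]
  rfl

/-- Sections over an open of `p⁻¹ U` are determined by their values in the chart over `U`. -/
theorem ext {n : ℤ} {W : P.Opens} {U : S.Opens} (hU : IsAffineOpen U) (hW : W ≤ p ⁻¹ᵁ U) {x x' : Γ(T.O n, W)}
    (h : ∀ y, T.val x hU y = T.val x' hU y) : x = x' :=
  rdU_injective (T.rel n) hU hW (K43.GrFrac.sec_ext h)

/-- Sections are determined by their values in all charts. -/
theorem ext_all {n : ℤ} {W : P.Opens} {x x' : Γ(T.O n, W)}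
    (h : ∀ (U : S.Opens) (hU : IsAffineOpen U) y, T.val x hU y = T.val x' hU y) : x = x' :=
  K40.RelSec.sec_ext p (T.lam n) (T.rel n).bijective fun U hU => K43.GrFrac.sec_ext (h U hU)

theorem val_can {n : ℤ} {U : S.Opens} (hU : IsAffineOpen U) {i : ℕ} (h : (i : ℤ) = n) (a : 𝒮.deg U hU i)
    (y : (emb p chart U hU ⁻¹ᵁ (p ⁻¹ᵁ U) : (Proj (𝒮.deg U hU)).Opens)) :
    T.val (can (T.rel n) hU h a) hU y = algebraMap _ (GrTwist.Loc (𝒮.deg U hU) y.1) a.1 := by
  rw [val, rdU_can]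
  exact val_globSec h a _ y

section mul

variable (hP : IsRelProj 𝒮 p chart)

/-- The multiplication `O(m) × O(n) → O(k)`, `m + n = k`. -/
def mul {m n k : ℤ} (hk : m + n = k) (W : P.Opens) :
    Γ(T.O m, W) →ₗ[Γ(P, W)] Γ(T.O n, W) →ₗ[Γ(P, W)] Γ(T.O k, W) :=
  (K40.RelMul.exists_mul hP hk (T.rel m) (T.rel n) (T.rel k)).choose W

variable {m n k : ℤ} (hk : m + n = k)

theorem res_mul {W V : P.Opens} (h : V ≤ W) (x : Γ(T.O m, W)) (x' : Γ(T.O n, W)) :
    res (T.O k) h (T.mul hP hk W x x') = T.mul hP hk V (res (T.O m) h x) (res (T.O n) h x') :=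
  (K40.RelMul.exists_mul hP hk (T.rel m) (T.rel n) (T.rel k)).choose_spec.1 V W (homOfLE h) x x'

theorem val_mul {W : P.Opens} (x : Γ(T.O m, W)) (x' : Γ(T.O n, W)) {U : S.Opens} (hU : IsAffineOpen U)
    (y : (emb p chart U hU ⁻¹ᵁ W : (Proj (𝒮.deg U hU)).Opens)) :
    T.val (T.mul hP hk W x x') hU y = T.val x hU y * T.val x' hU y := by
  have h := (K40.RelMul.exists_mul hP hk (T.rel m) (T.rel n) (T.rel k)).choose_spec.2 W x x' U hU
  exact (congrArg (fun t : Γ(GrTwist.twist (𝒮.deg U hU) k, emb p chart U hU ⁻¹ᵁ W) => GrTwist.val t y) h).trans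
    (val_mulΓ hk _ _ _ _)

end mul

variable (hP : IsRelProj 𝒮 p chart)

theorem mul_left_comm {i j l m jm im k : ℤ} {W : P.Opens} (x : Γ(T.O i, W)) (x' : Γ(T.O j, W)) (z : Γ(T.O m, W))
    (h1 : i + m = im) (h2 : j + im = k) (h3 : j + m = jm) (h4 : i + jm = k) (_ : i + j = l) :
    T.mul hP h2 W x' (T.mul hP h1 W x z) = T.mul hP h4 W x (T.mul hP h3 W x' z) :=
  T.ext_all fun U hU y => by rw [val_mul, val_mul, val_mul, val_mul, _root_.mul_left_comm]

theorem mul_mul {i j l m jm k : ℤ} {W : P.Opens} (x : Γ(T.O i, W)) (x' : Γ(T.O j, W)) (z : Γ(T.O m, W))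
    (h1 : i + j = l) (h2 : l + m = k) (h3 : j + m = jm) (h4 : i + jm = k) :
    T.mul hP h2 W (T.mul hP h1 W x x') z = T.mul hP h4 W x (T.mul hP h3 W x' z) :=
  T.ext_all fun U hU y => by rw [val_mul, val_mul, val_mul, val_mul, mul_assoc]

variable {F : P.Modules}

/-- A section `s` of `O(i)` acts from `ℋom(O(m), F)` to `ℋom(O(m'), F)`, `i + m' = m`. -/
def act {i m m' : ℤ} (hk : i + m' = m) {W : P.Opens} (s : Γ(T.O i, W)) (θ : Γ(homSheaf (T.O m) F, W)) :
    Γ(homSheaf (T.O m') F, W) :=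
  mkSec (fun V hV => (comp θ V hV).comp (T.mul hP hk V (res (T.O i) hV s))) (fun V V' hV h x => by
    change comp θ V' (h.trans hV) (T.mul hP hk V' (res (T.O i) (h.trans hV) s) (res (T.O m') h x)) =
      F.presheaf.map (homOfLE h).op (comp θ V hV (T.mul hP hk V (res (T.O i) hV s) x))
    rw [← comp_map θ hV h]
    congr 1
    change _ = res (T.O m) h (T.mul hP hk V (res (T.O i) hV s) x)
    rw [res_mul, res_res])

theorem comp_act {i m m' : ℤ} (hk : i + m' = m) {W : P.Opens} (s : Γ(T.O i, W)) (θ : Γ(homSheaf (T.O m) F, W))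
    {V : P.Opens} (hV : V ≤ W) (x : Γ(T.O m', V)) :
    comp (T.act hP hk s θ) V hV x = comp θ V hV (T.mul hP hk V (res (T.O i) hV s) x) := rfl

theorem act_add {i m m' : ℤ} (hk : i + m' = m) {W : P.Opens} (s : Γ(T.O i, W)) (θ θ' : Γ(homSheaf (T.O m) F, W)) :
    T.act hP hk s (θ + θ') = T.act hP hk s θ + T.act hP hk s θ' :=
  Groth.Agent.CohqB.HomSheaf.sec_ext fun _ _ _ => rfl

theorem act_zero {i m m' : ℤ} (hk : i + m' = m) {W : P.Opens} (s : Γ(T.O i, W)) :
    T.act hP hk s (0 : Γ(homSheaf (T.O m) F, W)) = 0 :=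
  Groth.Agent.CohqB.HomSheaf.sec_ext fun _ _ _ => rfl

theorem add_act {i m m' : ℤ} (hk : i + m' = m) {W : P.Opens} (s s' : Γ(T.O i, W)) (θ : Γ(homSheaf (T.O m) F, W)) :
    T.act hP hk (s + s') θ = T.act hP hk s θ + T.act hP hk s' θ :=
  Groth.Agent.CohqB.HomSheaf.sec_ext fun V hV x => by
    rw [comp_act, comp_add, LinearMap.add_apply, comp_act, comp_act, map_add, map_add, LinearMap.add_apply, map_add]

theorem zero_act {i m m' : ℤ} (hk : i + m' = m) {W : P.Opens} (θ : Γ(homSheaf (T.O m) F, W)) :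
    T.act hP hk (0 : Γ(T.O i, W)) θ = 0 := by
  have h := T.add_act hP hk 0 0 θ
  rwa [add_zero, left_eq_add] at h

theorem smul_act {i m m' : ℤ} (hk : i + m' = m) {W : P.Opens} (c : Γ(P, W)) (s : Γ(T.O i, W))
    (θ : Γ(homSheaf (T.O m) F, W)) : T.act hP hk (c • s) θ = c • T.act hP hk s θ :=
  Groth.Agent.CohqB.HomSheaf.sec_ext fun V hV x => by
    rw [comp_act, comp_smul, LinearMap.smul_apply, comp_act, res_smul, map_smul, LinearMap.smul_apply, map_smul]
    rfl

theorem act_smul {i m m' : ℤ} (hk : i + m' = m) {W : P.Opens} (c : Γ(P, W)) (s : Γ(T.O i, W))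
    (θ : Γ(homSheaf (T.O m) F, W)) : T.act hP hk s (c • θ) = c • T.act hP hk s θ :=
  Groth.Agent.CohqB.HomSheaf.sec_ext fun V hV x => by
    rw [comp_act, comp_smul, LinearMap.smul_apply, comp_smul, LinearMap.smul_apply, comp_act]

theorem act_act {i j l m m' m'' : ℤ} (h1 : i + j = l) (h2 : l + m'' = m) (h3 : j + m' = m) (h4 : i + m'' = m')
    {W : P.Opens} (s : Γ(T.O i, W)) (t : Γ(T.O j, W)) (θ : Γ(homSheaf (T.O m) F, W)) :
    T.act hP h4 s (T.act hP h3 t θ) = T.act hP h2 (T.mul hP h1 W s t) θ :=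
  Groth.Agent.CohqB.HomSheaf.sec_ext fun V hV x => by
    rw [comp_act, comp_act, comp_act, res_mul]
    congr 1
    refine T.ext_all fun U hU y => ?_
    rw [val_mul, val_mul, val_mul, val_mul, ← mul_assoc, mul_comm (T.val (res (T.O j) hV t) hU y)]

theorem res_act {i m m' : ℤ} (hk : i + m' = m) {W V : P.Opens} (h : V ≤ W) (s : Γ(T.O i, W))
    (θ : Γ(homSheaf (T.O m) F, W)) :
    res (homSheaf (T.O m') F) h (T.act hP hk s θ) =
      T.act hP hk (res (T.O i) h s) (res (homSheaf (T.O m) F) h θ) :=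
  Groth.Agent.CohqB.HomSheaf.sec_ext fun V' hV x => by
    change comp (T.act hP hk s θ) V' (hV.trans h) x = _
    rw [comp_act, comp_act, res_res]
    rfl

end Tw

end K36.GamTw

end
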