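import Mathlib.RingTheory.GradedAlgebra.Basic
import Mathlib.RingTheory.GradedAlgebra.FiniteType
import Mathlib.Algebra.Polynomial.AlgebraMap
import Mathlib.RingTheory.FiniteType
import Mathlib.RingTheory.Noetherian.Basic
import Mathlib.Algebra.Algebra.Operations
import Mathlib.Algebra.DirectSum.Internal

/-!
The graded ring `S♮` with `S♮_n = S_{≥ n}`: basic facts on tails, products of tails.
-/

set_option autoImplicit false
universe u

namespace K36.Natural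

variable {R A : Type u} [CommRing R] [CommRing A] [Algebra R A]
variable (𝒜 : ℕ → Submodule R A)

/-- The tail `S_{≥ n}`. -/
def tail (n : ℕ) : Submodule R A := ⨆ (m : ℕ) (_ : n ≤ m), 𝒜 m

theorem le_tail {n m : ℕ} (h : n ≤ m) : 𝒜 m ≤ tail 𝒜 n :=
  le_iSup₂_of_le m h le_rfl

theorem tail_le_iff {n : ℕ} {N : Submodule R A} : tail 𝒜 n ≤ N ↔ ∀ m, n ≤ m → 𝒜 m ≤ N := by
  simp only [tail, iSup_le_iff]

theorem tail_anti {n m : ℕ} (h : n ≤ m) : tail 𝒜 m ≤ tail 𝒜 n :=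
  (tail_le_iff 𝒜).mpr fun _ hk => le_tail 𝒜 (h.trans hk)

variable [GradedAlgebra 𝒜]

theorem coe_decompose_mem_of_mem_tail {n : ℕ} {a : A} (ha : a ∈ tail 𝒜 n) {k : ℕ} (hk : k < n) :
    (DirectSum.decompose 𝒜 a k : A) = 0 := by
  have : tail 𝒜 n ≤ LinearMap.ker (GradedAlgebra.proj 𝒜 k) := by
    rw [tail_le_iff]
    intro m hm x hx
    rw [LinearMap.mem_ker, GradedAlgebra.proj_apply]
    exact DirectSum.decompose_of_mem_ne 𝒜 hx (by omega)
  exact this ha

theorem mem_tail_iff {n : ℕ} {a : A} :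
    a ∈ tail 𝒜 n ↔ ∀ k < n, (DirectSum.decompose 𝒜 a k : A) = 0 := by
  classical
  refine ⟨fun h k hk => coe_decompose_mem_of_mem_tail 𝒜 h hk, fun h => ?_⟩
  rw [← DirectSum.sum_support_decompose 𝒜 a]
  refine Submodule.sum_mem _ fun i hi => ?_
  by_cases hin : n ≤ i
  · exact le_tail 𝒜 hin (SetLike.coe_mem _)
  · rw [h i (by omega)]; exact zero_mem _

theorem tail_zero : tail 𝒜 0 = ⊤ := by
  rw [eq_top_iff]
  intro a _
  rw [mem_tail_iff]
  intro k hk
  omega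

omit [GradedAlgebra 𝒜] in
theorem coe_decompose_mul [GradedAlgebra 𝒜] (a b : A) (n : ℕ) :
    (DirectSum.decompose 𝒜 (a * b) n : A) =
      ∑ ij ∈ Finset.antidiagonal n, (DirectSum.decompose 𝒜 a ij.1 : A) * DirectSum.decompose 𝒜 b ij.2 := by
  rw [DirectSum.decompose_mul]
  exact DirectSum.coe_mul_apply_eq_sum_antidiagonal 𝒜 _ _ n

/-- the component of degree `i + j` of a product of an element of `S_{≥ i}` and an element of `S_{≥ j}` -/
theorem decompose_mul_of_mem_tail {i j : ℕ} {a b : A} (ha : a ∈ tail 𝒜 i) (hb : b ∈ tail 𝒜 j) :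
    (DirectSum.decompose 𝒜 (a * b) (i + j) : A) =
      (DirectSum.decompose 𝒜 a i : A) * DirectSum.decompose 𝒜 b j := by
  classical
  rw [coe_decompose_mul, Finset.sum_eq_single (i, j)]
  · rintro ⟨k, l⟩ hkl hne
    rw [Finset.mem_antidiagonal] at hkl
    dsimp only at hkl ⊢
    rcases lt_or_ge k i with h | h
    · rw [coe_decompose_mem_of_mem_tail 𝒜 ha h, zero_mul]
    · rcases lt_or_ge l j with h' | h'
      · rw [coe_decompose_mem_of_mem_tail 𝒜 hb h', mul_zero]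
      · exact absurd (Prod.ext (show k = i by omega) (show l = j by omega)) hne
  · intro h
    exact absurd (Finset.mem_antidiagonal.mpr (rfl : i + j = i + j)) h

theorem mul_mem_tail {i j : ℕ} {a b : A} (ha : a ∈ tail 𝒜 i) (hb : b ∈ tail 𝒜 j) :
    a * b ∈ tail 𝒜 (i + j) := by
  rw [mem_tail_iff]
  intro k hk
  rw [coe_decompose_mul]
  refine Finset.sum_eq_zero ?_
  rintro ⟨m, l⟩ hml
  rw [Finset.mem_antidiagonal] at hml
  dsimp only at hml ⊢
  rcases lt_or_ge m i with h | h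
  · rw [coe_decompose_mem_of_mem_tail 𝒜 ha h, zero_mul]
  · rw [coe_decompose_mem_of_mem_tail 𝒜 hb (show l < j by omega), mul_zero]

theorem tail_mul_tail_le (i j : ℕ) : tail 𝒜 i * tail 𝒜 j ≤ tail 𝒜 (i + j) :=
  Submodule.mul_le.mpr fun _ ha _ hb => mul_mem_tail 𝒜 ha hb

theorem one_le_tail_zero : (1 : Submodule R A) ≤ tail 𝒜 0 := by
  rw [tail_zero]; exact le_top

theorem tail_pow_le (i k : ℕ) : tail 𝒜 i ^ k ≤ tail 𝒜 (k * i) := by
  induction k with
  | zero => rw [pow_zero, Nat.zero_mul]; exact one_le_tail_zero 𝒜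
  | succ k ih =>
    rw [pow_succ, Nat.succ_mul]
    exact (mul_le_mul' ih le_rfl).trans (tail_mul_tail_le 𝒜 _ _)

theorem mul_le_graded (i j : ℕ) : 𝒜 i * 𝒜 j ≤ 𝒜 (i + j) :=
  Submodule.mul_le.mpr fun _ ha _ hb => SetLike.mul_mem_graded ha hb

theorem pow_le_graded (i : ℕ) (k : ℕ) : 𝒜 i ^ k ≤ 𝒜 (k * i) := by
  induction k with
  | zero =>
    rw [pow_zero, Nat.zero_mul]
    rw [Submodule.one_le]
    exact SetLike.one_mem_graded 𝒜
  | succ k ih =>
    rw [pow_succ, Nat.succ_mul]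
    exact (mul_le_mul' ih le_rfl).trans (mul_le_graded 𝒜 _ _)

/-- the projection to degree `n` maps `S_{≥ n}` onto `S_n` -/
theorem map_proj_tail (n : ℕ) : (tail 𝒜 n).map (GradedAlgebra.proj 𝒜 n) = 𝒜 n := by
  apply le_antisymm
  · rw [Submodule.map_le_iff_le_comap]
    intro a _
    rw [Submodule.mem_comap, GradedAlgebra.proj_apply]
    exact SetLike.coe_mem _
  · intro a ha
    exact ⟨a, le_tail 𝒜 le_rfl ha, by
      rw [GradedAlgebra.proj_apply]; exact DirectSum.decompose_of_mem_same 𝒜 ha⟩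

theorem map_proj_tail_mul (i j : ℕ) :
    (tail 𝒜 i * tail 𝒜 j).map (GradedAlgebra.proj 𝒜 (i + j)) = 𝒜 i * 𝒜 j := by
  apply le_antisymm
  · rw [Submodule.map_le_iff_le_comap, Submodule.mul_le]
    intro a ha b hb
    rw [Submodule.mem_comap, GradedAlgebra.proj_apply, decompose_mul_of_mem_tail 𝒜 ha hb]
    exact Submodule.mul_mem_mul (SetLike.coe_mem _) (SetLike.coe_mem _)
  · rw [Submodule.mul_le]
    intro a ha b hb
    refine ⟨a * b, Submodule.mul_mem_mul (le_tail 𝒜 le_rfl ha) (le_tail 𝒜 le_rfl hb), ?_⟩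
    rw [GradedAlgebra.proj_apply]
    exact DirectSum.decompose_of_mem_same 𝒜 (SetLike.mul_mem_graded ha hb)

theorem map_proj_tail_pow (i : ℕ) (k : ℕ) (hk : k ≠ 0) :
    (tail 𝒜 i ^ k).map (GradedAlgebra.proj 𝒜 (k * i)) = 𝒜 i ^ k := by
  obtain ⟨k, rfl⟩ := Nat.exists_eq_succ_of_ne_zero hk
  clear hk
  apply le_antisymm
  · induction k with
    | zero => simp only [Nat.succ_eq_add_one, zero_add, pow_one, one_mul]; exact (map_proj_tail 𝒜 i).le
    | succ k ih =>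
      rw [pow_succ _ (k + 1), pow_succ (𝒜 i) (k + 1), Submodule.map_le_iff_le_comap, Submodule.mul_le]
      intro a ha b hb
      have hk' : (k + 1).succ * i = (k + 1) * i + i := Nat.succ_mul _ _
      rw [hk', Submodule.mem_comap, GradedAlgebra.proj_apply,
        decompose_mul_of_mem_tail 𝒜 (tail_pow_le 𝒜 _ _ ha) hb]
      refine Submodule.mul_mem_mul ?_ (SetLike.coe_mem _)
      exact ih ⟨a, ha, by rw [GradedAlgebra.proj_apply]⟩
  · intro a ha
    refine ⟨a, pow_le_pow_left' (le_tail 𝒜 le_rfl) _ ha, ?_⟩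
    rw [GradedAlgebra.proj_apply]
    exact DirectSum.decompose_of_mem_same 𝒜 (pow_le_graded 𝒜 _ _ ha)

/-- `S_{≥ n+1} = S_{≥ 1} S_{≥ n}` for `n ≥ n₀` iff `S_{n+1} = S_1 S_n` for `n ≥ n₀` -/
theorem tail_succ_iff (n₀ : ℕ) :
    (∀ n, n₀ ≤ n → tail 𝒜 (n + 1) = tail 𝒜 1 * tail 𝒜 n) ↔ (∀ n, n₀ ≤ n → 𝒜 (n + 1) = 𝒜 1 * 𝒜 n) := by
  constructor
  · intro h n hn
    have := congrArg (Submodule.map (GradedAlgebra.proj 𝒜 (n + 1))) (h n hn)
    rw [map_proj_tail, add_comm n 1, map_proj_tail_mul] at this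
    rw [add_comm n 1, this]
  · intro h n hn
    apply le_antisymm
    · rw [tail_le_iff]
      intro m hm
      obtain ⟨m, rfl⟩ : ∃ k, m = k + 1 := ⟨m - 1, by omega⟩
      rw [h m (by omega)]
      exact mul_le_mul' (le_tail 𝒜 le_rfl) (le_tail 𝒜 (by omega))
    · rw [add_comm]; exact tail_mul_tail_le 𝒜 _ _

/-- `S_{≥ n} = (S_{≥ 1})^n` for `n ≥ n₀` iff `S_n = (S_1)^n` for `n ≥ n₀` (`n₀ ≥ 1`) -/
theorem tail_pow_iff (n₀ : ℕ) (hn₀ : 1 ≤ n₀) :
    (∀ n, n₀ ≤ n → tail 𝒜 n = tail 𝒜 1 ^ n) ↔ (∀ n, n₀ ≤ n → 𝒜 n = 𝒜 1 ^ n) := by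
  constructor
  · intro h n hn
    have := congrArg (Submodule.map (GradedAlgebra.proj 𝒜 n)) (h n hn)
    have h2 := map_proj_tail_pow 𝒜 1 n (by omega)
    rw [mul_one] at h2
    rwa [map_proj_tail, h2] at this
  · intro h n hn
    apply le_antisymm
    · rw [tail_le_iff]
      intro m hm
      rw [h m (by omega)]
      obtain ⟨k, rfl⟩ : ∃ k, n = k + 1 := ⟨n - 1, by omega⟩
      obtain ⟨l, rfl⟩ : ∃ l, m = k + (l + 1) := ⟨m - k - 1, by omega⟩
      rw [pow_add, pow_succ (tail 𝒜 1)]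
      refine mul_le_mul' (pow_le_pow_left' (le_tail 𝒜 le_rfl) _) ?_
      have := pow_le_graded 𝒜 1 (l + 1)
      rw [mul_one] at this
      exact this.trans (le_tail 𝒜 (by omega))
    · have := tail_pow_le 𝒜 1 n
      rwa [mul_one] at this

end K36.Natural
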