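import Groth.Agent.EGA2.K36.Natural

/-!
The graded ring `S♮` presented by an injective homomorphism into `S[X]`: translation to tails, finiteness.
-/

set_option autoImplicit false
universe u

namespace K36.Natural

open Polynomial

variable {R A : Type u} [CommRing R] [CommRing A] [Algebra R A]

variable (R A) in
/-- `a ↦ a X^n` over the base ring. -/
noncomputable abbrev mono (n : ℕ) : A →ₗ[R] Polynomial A := (Polynomial.monomial n : A →ₗ[A] Polynomial A).restrictScalars R

theorem mono_injective (n : ℕ) : Function.Injective (mono R A n) :=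
  Polynomial.monomial_injective n

theorem map_mono_mul (i j : ℕ) (M N : Submodule R A) :
    M.map (mono R A i) * N.map (mono R A j) = (M * N).map (mono R A (i + j)) := by
  apply le_antisymm
  · rw [Submodule.mul_le]
    rintro _ ⟨a, ha, rfl⟩ _ ⟨b, hb, rfl⟩
    exact ⟨a * b, Submodule.mul_mem_mul ha hb, by simp [Polynomial.monomial_mul_monomial]⟩
  · rw [Submodule.map_le_iff_le_comap, Submodule.mul_le]
    intro a ha b hb
    have : mono R A (i + j) (a * b) = mono R A i a * mono R A j b := by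
      simp [Polynomial.monomial_mul_monomial]
    rw [Submodule.mem_comap, this]
    exact Submodule.mul_mem_mul ⟨a, ha, rfl⟩ ⟨b, hb, rfl⟩

theorem map_mono_pow (i : ℕ) (M : Submodule R A) (k : ℕ) (hk : k ≠ 0) :
    M.map (mono R A i) ^ k = (M ^ k).map (mono R A (k * i)) := by
  obtain ⟨k, rfl⟩ := Nat.exists_eq_succ_of_ne_zero hk
  clear hk
  induction k with
  | zero => simp only [Nat.succ_eq_add_one, zero_add, pow_one, one_mul]
  | succ k ih =>
    rw [pow_succ _ (k + 1), ih, map_mono_mul, pow_succ M (k + 1), Nat.succ_mul (k + 1) i]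

variable (𝒜 : ℕ → Submodule R A) [GradedAlgebra 𝒜]
variable {B : Type u} [CommRing B] [Algebra R B] (ℬ : ℕ → Submodule R B) [GradedAlgebra ℬ]
variable (φ : B →ₐ[R] Polynomial A) (hφ : Function.Injective φ)
variable (hdeg : ∀ n : ℕ, Submodule.map φ.toLinearMap (ℬ n) = Submodule.map (mono R A n) (tail 𝒜 n))

include hφ hdeg

omit [GradedAlgebra 𝒜] [GradedAlgebra ℬ] in
theorem succ_iff (n : ℕ) : ℬ (n + 1) = ℬ 1 * ℬ n ↔ tail 𝒜 (n + 1) = tail 𝒜 1 * tail 𝒜 n := by
  rw [← (Submodule.map_injective_of_injective (f := φ.toLinearMap) hφ).eq_iff,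
    Submodule.map_mul, hdeg, hdeg, hdeg, map_mono_mul, add_comm 1 n,
    (Submodule.map_injective_of_injective (mono_injective (R := R) (A := A) (n + 1))).eq_iff]

omit [GradedAlgebra 𝒜] [GradedAlgebra ℬ] in
theorem pow_iff (n : ℕ) (hn : n ≠ 0) : ℬ n = ℬ 1 ^ n ↔ tail 𝒜 n = tail 𝒜 1 ^ n := by
  rw [← (Submodule.map_injective_of_injective (f := φ.toLinearMap) hφ).eq_iff,
    Submodule.map_pow, hdeg, hdeg, map_mono_pow _ _ _ hn, mul_one,
    (Submodule.map_injective_of_injective (mono_injective (R := R) (A := A) n)).eq_iff]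

omit [GradedAlgebra 𝒜] [GradedAlgebra ℬ] hφ in
theorem exists_of_mem {n : ℕ} {b : B} (hb : b ∈ ℬ n) : ∃ a ∈ tail 𝒜 n, monomial n a = φ b := by
  have : φ b ∈ Submodule.map (mono R A n) (tail 𝒜 n) := by
    rw [← hdeg]; exact ⟨b, hb, rfl⟩
  obtain ⟨a, ha, h⟩ := this
  exact ⟨a, ha, h⟩

omit [GradedAlgebra 𝒜] [GradedAlgebra ℬ] hφ in
theorem exists_of_mem_tail {n : ℕ} {a : A} (ha : a ∈ tail 𝒜 n) : ∃ b ∈ ℬ n, φ b = monomial n a := by
  have : monomial n a ∈ Submodule.map φ.toLinearMap (ℬ n) := by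
    rw [hdeg]; exact ⟨a, ha, rfl⟩
  obtain ⟨b, hb, h⟩ := this
  exact ⟨b, hb, h⟩

end K36.Natural
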