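import Groth.Agent.EGA2.K36.Natural2
import Groth.Agent.S2357

/-!
The graded ring `S♮`: the projection `S♮ → S`, finite type and Noetherian criteria.
-/

set_option autoImplicit false
universe u

namespace K36.Natural

open Polynomial

variable {R A : Type u} [CommRing R] [CommRing A] [Algebra R A]
variable (𝒜 : ℕ → Submodule R A) [GradedAlgebra 𝒜]
variable {B : Type u} [CommRing B] [Algebra R B] (ℬ : ℕ → Submodule R B) [GradedAlgebra ℬ]
variable (φ : B →ₐ[R] Polynomial A) (hφ : Function.Injective φ)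
variable (hdeg : ∀ n : ℕ, Submodule.map φ.toLinearMap (ℬ n) = Submodule.map (mono R A n) (tail 𝒜 n))

/-- `S♮_n = S_{≥ n} → S_n`. -/
noncomputable def projN (n : ℕ) : ℬ n →+ A :=
  ((GradedAlgebra.proj 𝒜 n).toAddMonoidHom.comp
    ((Polynomial.lcoeff A n).toAddMonoidHom.comp (φ : B →+* Polynomial A).toAddMonoidHom)).comp (ℬ n).subtype.toAddMonoidHom

omit [GradedAlgebra ℬ] in
theorem projN_apply (n : ℕ) (b : ℬ n) :
    projN 𝒜 ℬ φ n b = (DirectSum.decompose 𝒜 ((φ (b : B)).coeff n) n : A) := rfl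

include hdeg in
theorem projN_mul {i j : ℕ} (b : ℬ i) (b' : ℬ j) :
    projN 𝒜 ℬ φ (i + j) ⟨(b : B) * b', SetLike.mul_mem_graded b.2 b'.2⟩ = projN 𝒜 ℬ φ i b * projN 𝒜 ℬ φ j b' := by
  obtain ⟨a, ha, h⟩ := exists_of_mem 𝒜 ℬ φ hdeg b.2
  obtain ⟨a', ha', h'⟩ := exists_of_mem 𝒜 ℬ φ hdeg b'.2
  rw [projN_apply, projN_apply, projN_apply]
  dsimp only
  rw [map_mul, ← h, ← h', Polynomial.monomial_mul_monomial, Polynomial.coeff_monomial_same,
    Polynomial.coeff_monomial_same, Polynomial.coeff_monomial_same]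
  exact decompose_mul_of_mem_tail 𝒜 ha ha'

theorem projN_one : projN 𝒜 ℬ φ 0 (GradedMonoid.GOne.one (A := fun i => ℬ i)) = 1 := by
  rw [projN_apply]
  have : ((GradedMonoid.GOne.one (A := fun i => ℬ i) : ℬ 0) : B) = 1 := rfl
  rw [this, map_one, Polynomial.coeff_one_zero]
  exact DirectSum.decompose_of_mem_same 𝒜 (SetLike.one_mem_graded 𝒜)

include hdeg in
theorem projN_gmul {i j : ℕ} (b : ℬ i) (b' : ℬ j) :
    projN 𝒜 ℬ φ (i + j) (GradedMonoid.GMul.mul (A := fun i => ℬ i) b b') = projN 𝒜 ℬ φ i b * projN 𝒜 ℬ φ j b' :=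
  projN_mul 𝒜 ℬ φ hdeg b b'

/-- The ring homomorphism `S♮ → S` which in degree `n` is the projection `S_{≥ n} → S_n`. -/
noncomputable def theta : B →+* A :=
  (DirectSum.toSemiring (projN 𝒜 ℬ φ) (projN_one 𝒜 ℬ φ) (projN_gmul 𝒜 ℬ φ hdeg)).comp
    (DirectSum.decomposeRingEquiv ℬ).toRingHom

theorem theta_of_mem {n : ℕ} {b : B} (hb : b ∈ ℬ n) :
    theta 𝒜 ℬ φ hdeg b = (DirectSum.decompose 𝒜 ((φ b).coeff n) n : A) := by
  have h1 : DirectSum.decomposeRingEquiv ℬ b = DirectSum.of (fun n => ℬ n) n ⟨b, hb⟩ :=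
    DirectSum.decompose_of_mem ℬ hb
  have : theta 𝒜 ℬ φ hdeg b = DirectSum.toSemiring (projN 𝒜 ℬ φ) (projN_one 𝒜 ℬ φ)
    (projN_gmul 𝒜 ℬ φ hdeg) (DirectSum.decomposeRingEquiv ℬ b) := rfl
  rw [this, h1, DirectSum.toSemiring_of]
  rfl

theorem theta_surjective : Function.Surjective (theta 𝒜 ℬ φ hdeg) := by
  classical
  intro a
  have key : ∀ n (x : A), x ∈ 𝒜 n → x ∈ (theta 𝒜 ℬ φ hdeg).range := by
    intro n x hx
    obtain ⟨b, hb, h⟩ := exists_of_mem_tail 𝒜 ℬ φ hdeg (le_tail 𝒜 le_rfl hx)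
    refine ⟨b, ?_⟩
    rw [theta_of_mem 𝒜 ℬ φ hdeg hb, h, Polynomial.coeff_monomial_same]
    exact DirectSum.decompose_of_mem_same 𝒜 hx
  change a ∈ (theta 𝒜 ℬ φ hdeg).range
  rw [← DirectSum.sum_support_decompose 𝒜 a]
  exact sum_mem fun i _ => key i _ (SetLike.coe_mem _)

theorem theta_zero_mem {b : B} (hb : b ∈ ℬ 0) : theta 𝒜 ℬ φ hdeg b ∈ 𝒜 0 := by
  rw [theta_of_mem 𝒜 ℬ φ hdeg hb]
  exact SetLike.coe_mem _

include hφ hdeg in
/-- `S♮_0 ≅ S`. -/
theorem bijective_zero :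
    Function.Bijective ((Polynomial.constantCoeff.comp (φ : B →+* Polynomial A)).comp (algebraMap (ℬ 0) B)) := by
  constructor
  · rw [injective_iff_map_eq_zero]
    intro b hb
    obtain ⟨a, ha, h⟩ := exists_of_mem 𝒜 ℬ φ hdeg b.2
    have h2 : (φ (b : B)).coeff 0 = 0 := hb
    rw [← h, Polynomial.coeff_monomial_same] at h2
    subst h2
    rw [Polynomial.monomial_zero_right] at h
    exact Subtype.ext (hφ (h.symm.trans (map_zero φ).symm))
  · intro a
    obtain ⟨b, hb, h⟩ := exists_of_mem_tail 𝒜 ℬ φ hdeg (show a ∈ tail 𝒜 0 by rw [tail_zero]; exact Submodule.mem_top)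
    refine ⟨⟨b, hb⟩, ?_⟩
    change (φ b).coeff 0 = a
    rw [h, Polynomial.coeff_monomial_same]

include hdeg in
/-- `S♮` of finite type over `S♮_0` implies `S` of finite type over `S_0`. -/
theorem finiteType_of_natural (h : Algebra.FiniteType (ℬ 0) B) : Algebra.FiniteType (𝒜 0) A := by
  classical
  obtain ⟨s, hs⟩ := h.out
  refine ⟨s.image (theta 𝒜 ℬ φ hdeg), ?_⟩
  rw [eq_top_iff]
  rintro a -
  obtain ⟨b, rfl⟩ := theta_surjective 𝒜 ℬ φ hdeg a
  have hb : b ∈ Algebra.adjoin (ℬ 0) (s : Set B) := by rw [hs]; exact Algebra.mem_top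
  induction hb using Algebra.adjoin_induction with
  | mem x hx => exact Algebra.subset_adjoin (by rw [Finset.coe_image]; exact ⟨x, hx, rfl⟩)
  | algebraMap r =>
    exact Subalgebra.algebraMap_mem (Algebra.adjoin (𝒜 0) _) ⟨_, theta_zero_mem 𝒜 ℬ φ hdeg r.2⟩
  | add x y _ _ hx hy => rw [map_add]; exact add_mem hx hy
  | mul x y _ _ hx hy => rw [map_mul]; exact mul_mem hx hy

include hφ hdeg in
/-- `S` of finite type over `S_0` implies `S♮` of finite type over `S♮_0`. -/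
theorem natural_finiteType (h : Algebra.FiniteType (𝒜 0) A) : Algebra.FiniteType (ℬ 0) B := by
  classical
  obtain ⟨s, hs, hdegs⟩ := GradedAlgebra.exists_finset_adjoin_eq_top_and_homogeneous_ne_zero 𝒜
  choose! d hd0 hd using hdegs
  have hex : ∀ x ∈ s, ∀ j, j ≤ d x → ∃ b ∈ ℬ j, φ b = monomial j x := fun x hx j hj =>
    exists_of_mem_tail 𝒜 ℬ φ hdeg (le_tail 𝒜 hj (hd x hx))
  choose! c hc hc' using hex
  let T : Set B := ⋃ x ∈ s, ⋃ j ∈ Finset.range (d x + 1), {c x j}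
  have hT : T.Finite := Set.Finite.biUnion s.finite_toSet fun x _ =>
    Set.Finite.biUnion (Finset.finite_toSet _) fun j _ => Set.finite_singleton _
  refine ⟨Subalgebra.fg_def.mpr ⟨T, hT, ?_⟩⟩
  let C : Subring (Polynomial A) := (Algebra.adjoin (ℬ 0) T).toSubring.map (φ : B →+* Polynomial A)
  have hC : ∀ b : B, φ b ∈ C → b ∈ Algebra.adjoin (ℬ 0) T := by
    rintro b ⟨b', hb', h⟩
    have : b' = b := hφ h
    rw [← this]; exact hb'
  have key : ∀ a ∈ Algebra.adjoin (𝒜 0) (s : Set A), ∀ m n, n ≤ m →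
      monomial n (DirectSum.decompose 𝒜 a m : A) ∈ C := by
    intro a ha
    induction ha using Algebra.adjoin_induction with
    | mem x hx =>
      intro m n hnm
      by_cases hm : m = d x
      · subst hm
        rw [DirectSum.decompose_of_mem_same 𝒜 (hd x hx)]
        refine ⟨c x n, Algebra.subset_adjoin ?_, hc' x hx n hnm⟩
        exact Set.mem_biUnion hx (Set.mem_biUnion (Finset.mem_coe.mpr (Finset.mem_range.mpr (by omega)))
          (Set.mem_singleton _))
      · rw [DirectSum.decompose_of_mem_ne 𝒜 (hd x hx) (Ne.symm hm), Polynomial.monomial_zero_right]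
        exact zero_mem _
    | algebraMap r =>
      intro m n hnm
      by_cases hm : m = 0
      · subst hm
        obtain rfl : n = 0 := by omega
        have hr : (algebraMap (𝒜 0) A r) ∈ 𝒜 0 := r.2
        rw [DirectSum.decompose_of_mem_same 𝒜 hr]
        obtain ⟨b, hb, h⟩ := exists_of_mem_tail 𝒜 ℬ φ hdeg (le_tail 𝒜 le_rfl hr)
        exact ⟨b, Subalgebra.algebraMap_mem (Algebra.adjoin (ℬ 0) T) ⟨b, hb⟩, h⟩
      · have hr : (algebraMap (𝒜 0) A r) ∈ 𝒜 0 := r.2
        rw [DirectSum.decompose_of_mem_ne 𝒜 hr (Ne.symm hm), Polynomial.monomial_zero_right]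
        exact zero_mem _
    | add x y _ _ hx hy =>
      intro m n hnm
      rw [DirectSum.decompose_add, DirectSum.add_apply, Submodule.coe_add, map_add]
      exact add_mem (hx m n hnm) (hy m n hnm)
    | mul x y _ _ hx hy =>
      intro m n hnm
      rw [coe_decompose_mul, map_sum]
      refine sum_mem fun ij hij => ?_
      rw [Finset.mem_antidiagonal] at hij
      have h1 : n = min n ij.1 + (n - min n ij.1) := by omega
      rw [h1, ← Polynomial.monomial_mul_monomial]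
      exact mul_mem (hx _ _ (by omega)) (hy _ _ (by omega))
  rw [eq_top_iff]
  intro b _
  rw [← DirectSum.sum_support_decompose ℬ b]
  refine sum_mem fun n _ => hC _ ?_
  obtain ⟨a, ha, h⟩ := exists_of_mem 𝒜 ℬ φ hdeg (SetLike.coe_mem (DirectSum.decompose ℬ b n))
  rw [← h, ← DirectSum.sum_support_decompose 𝒜 a, map_sum]
  refine sum_mem fun m _ => ?_
  by_cases hnm : n ≤ m
  · exact key a (by rw [hs]; exact Algebra.mem_top) m n hnm
  · rw [coe_decompose_mem_of_mem_tail 𝒜 ha (by omega), Polynomial.monomial_zero_right]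
    exact zero_mem _

include hφ hdeg in
theorem finiteType_iff : Algebra.FiniteType (ℬ 0) B ↔ Algebra.FiniteType (𝒜 0) A :=
  ⟨finiteType_of_natural 𝒜 ℬ φ hdeg, natural_finiteType 𝒜 ℬ φ hφ hdeg⟩

include hφ hdeg in
theorem isNoetherianRing_iff : IsNoetherianRing B ↔ IsNoetherianRing A := by
  constructor
  · intro h
    exact isNoetherianRing_of_surjective B A (theta 𝒜 ℬ φ hdeg) (theta_surjective 𝒜 ℬ φ hdeg)
  · intro h
    have h1 := natural_finiteType 𝒜 ℬ φ hφ hdeg (Groth.Agent.S2357.finiteType_zero 𝒜)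
    have h2 : IsNoetherianRing (ℬ 0) :=
      isNoetherianRing_of_ringEquiv A (RingEquiv.ofBijective _ (bijective_zero 𝒜 ℬ φ hφ hdeg)).symm
    exact Algebra.FiniteType.isNoetherianRing (ℬ 0) B

end K36.Natural
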