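import Groth.Agent.EGA2.K36.RelProjMap
import Groth.Agent.Ega2.H294.ProjRed
import Groth.Agent.Ega2.H270.ProjCover

/-!
# Opens of a relative Proj given in the charts; reducedness
-/

set_option autoImplicit false
universe u

open CategoryTheory CategoryTheory.Limits AlgebraicGeometry Opposite TopologicalSpace
open scoped HomogeneousIdeal

namespace K36.RelProjOpen

open RelProj K36.RelProjMap

variable {Y P : Scheme.{u}} {𝒮 : QCGrAlg Y} {p : P ⟶ Y}
  {chart : ∀ (U : Y.Opens) (hU : IsAffineOpen U), (((p ⁻¹ᵁ U : P.Opens) : Scheme.{u}) ≅ Proj (𝒮.deg U hU))}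

/-- A relative Proj is reduced if the `Proj 𝒮(U)` are. -/
theorem isReduced_of_charts (chart : ∀ (U : Y.Opens) (hU : IsAffineOpen U),
      (((p ⁻¹ᵁ U : P.Opens) : Scheme.{u}) ≅ Proj (𝒮.deg U hU)))
    (h : ∀ (U : Y.Opens) (hU : IsAffineOpen U), IsReduced (Proj (𝒮.deg U hU))) : IsReduced P := by
  let 𝒰 := P.openCoverOfIsOpenCover (fun U : Y.affineOpens => p ⁻¹ᵁ U.1) (.mk (iSup_preimage_affine p))
  have : ∀ i, IsReduced (𝒰.X i) := fun i => by
    let U : Y.affineOpens := i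
    have := h U.1 U.2
    exact isReduced_of_isOpenImmersion (chart U.1 U.2).hom
  exact IsReduced.of_openCover _ 𝒰

/-- Every point of `P` over `U` is in the chart over `U`. -/
theorem exists_emb (chart : ∀ (U : Y.Opens) (hU : IsAffineOpen U),
      (((p ⁻¹ᵁ U : P.Opens) : Scheme.{u}) ≅ Proj (𝒮.deg U hU))) (U : Y.Opens) (hU : IsAffineOpen U) (x : P)
    (hx : p x ∈ U) : ∃ y : Proj (𝒮.deg U hU), emb p chart U hU y = x := by
  have h : x ∈ (emb p chart U hU).opensRange := by rw [opensRange_emb]; exact hx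
  exact h

/-- image of an open of `Proj 𝒮(U)` in `P` -/
theorem ι_image_chart_preimage (U : Y.Opens) (hU : IsAffineOpen U) (V : (Proj (𝒮.deg U hU)).Opens) :
    (p ⁻¹ᵁ U).ι ''ᵁ ((chart U hU).hom ⁻¹ᵁ V) = emb p chart U hU ''ᵁ V := by
  ext x
  constructor
  · rintro ⟨y, hy, rfl⟩
    refine ⟨(chart U hU).hom y, hy, ?_⟩
    change emb p chart U hU ((chart U hU).hom y) = (p ⁻¹ᵁ U).ι y
    rw [← Scheme.Hom.comp_apply, chart_emb]
  · rintro ⟨y, hy, rfl⟩
    refine ⟨(chart U hU).inv y, ?_, rfl⟩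
    change (chart U hU).hom ((chart U hU).inv y) ∈ V
    rw [← Scheme.Hom.comp_apply, Iso.inv_hom_id]
    exact hy

/-- Charts over `U` and over a basic open `D(r)` of `U`: corresponding opens. -/
theorem preimage_map_eq (hP : IsRelProj 𝒮 p chart) (U : Y.Opens) (hU : IsAffineOpen U) (r : Γ(Y, U))
    (X : P.Opens) :
    Proj.map (𝒮.res hU (hU.basicOpen r) (Y.basicOpen_le r)) (𝒮.irrelevant_le_map U hU r) ⁻¹ᵁ
        (emb p chart U hU ⁻¹ᵁ X) =
      emb p chart (Y.basicOpen r) (hU.basicOpen r) ⁻¹ᵁ X := by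
  rw [← Scheme.Hom.comp_preimage, map_res_emb hP]

/-- The preimage of a standard open under the comparison of charts. -/
theorem map_res_preimage_basicOpen (U : Y.Opens) (hU : IsAffineOpen U) (r : Γ(Y, U))
    (a : 𝒮.presheaf.obj (op U)) :
    Proj.map (𝒮.res hU (hU.basicOpen r) (Y.basicOpen_le r)) (𝒮.irrelevant_le_map U hU r) ⁻¹ᵁ
        (Proj.basicOpen (𝒮.deg U hU) a) =
      Proj.basicOpen (𝒮.deg (Y.basicOpen r) (hU.basicOpen r))
        ((𝒮.presheaf.map (homOfLE (Y.basicOpen_le r)).op).hom a) :=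
  Proj.map_preimage_basicOpen _ _ a

/-- the open of `P` associated with opens of the charts -/
noncomputable def openOf (chart : ∀ (U : Y.Opens) (hU : IsAffineOpen U),
      (((p ⁻¹ᵁ U : P.Opens) : Scheme.{u}) ≅ Proj (𝒮.deg U hU)))
    (V : ∀ (U : Y.Opens) (hU : IsAffineOpen U), (Proj (𝒮.deg U hU)).Opens) : P.Opens :=
  ⨆ U : Y.affineOpens, emb p chart U.1 U.2 ''ᵁ V U.1 U.2

/-- Opens of the charts compatible with restriction to basic opens are cut out by one open of `P`. -/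
theorem openOf_inf (hP : IsRelProj 𝒮 p chart)
    (V : ∀ (U : Y.Opens) (hU : IsAffineOpen U), (Proj (𝒮.deg U hU)).Opens)
    (hV : ∀ (U : Y.Opens) (hU : IsAffineOpen U) (r : Γ(Y, U)),
      Proj.map (𝒮.res hU (hU.basicOpen r) (Y.basicOpen_le r)) (𝒮.irrelevant_le_map U hU r) ⁻¹ᵁ V U hU =
        V (Y.basicOpen r) (hU.basicOpen r))
    (U : Y.Opens) (hU : IsAffineOpen U) :
    openOf chart V ⊓ p ⁻¹ᵁ U = emb p chart U hU ''ᵁ V U hU := by
  apply le_antisymm
  · rintro x ⟨hx, hxU⟩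
    obtain ⟨W, y, hy, rfl⟩ := Opens.mem_iSup.mp hx
    change p (emb p chart W.1 W.2 y) ∈ U at hxU
    have hyW : p (emb p chart W.1 W.2 y) ∈ W.1 := by
      have : emb p chart W.1 W.2 y ∈ (emb p chart W.1 W.2).opensRange := ⟨y, rfl⟩
      rw [opensRange_emb] at this
      exact this
    obtain ⟨f, g, e, hf⟩ := exists_basicOpen_le_affine_inter W.2 hU _ ⟨hyW, hxU⟩
    obtain ⟨z, hz⟩ := exists_emb chart (Y.basicOpen f) (W.2.basicOpen f) _ hf
    have hz1 : Proj.map (𝒮.res W.2 (W.2.basicOpen f) (Y.basicOpen_le f)) (𝒮.irrelevant_le_map W.1 W.2 f) z = y := by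
      apply (emb p chart W.1 W.2).isOpenEmbedding.injective
      rw [← Scheme.Hom.comp_apply, map_res_emb hP, hz]
    have hz2 : z ∈ V (Y.basicOpen f) (W.2.basicOpen f) := by
      rw [← hV]
      change Proj.map _ _ z ∈ V W.1 W.2
      rw [hz1]
      exact hy
    have aux : ∀ (D : Y.Opens) (hD : IsAffineOpen D) (e : D = Y.basicOpen g) (z : Proj (𝒮.deg D hD))
        (hz : z ∈ V D hD), emb p chart D hD z ∈ emb p chart U hU ''ᵁ V U hU := by
      rintro D hD rfl z hz
      have hD' : hD = hU.basicOpen g := rfl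
      refine ⟨Proj.map (𝒮.res hU (hU.basicOpen g) (Y.basicOpen_le g)) (𝒮.irrelevant_le_map U hU g) z, ?_, ?_⟩
      · have := hV U hU g
        have h2 : z ∈ V (Y.basicOpen g) (hU.basicOpen g) := hz
        rw [← this] at h2
        exact h2
      · change emb p chart U hU (Proj.map (𝒮.res hU (hU.basicOpen g) (Y.basicOpen_le g))
          (𝒮.irrelevant_le_map U hU g) z) = _
        rw [← Scheme.Hom.comp_apply, map_res_emb hP]
    change emb p chart W.1 W.2 y ∈ _
    rw [← hz]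
    exact aux _ _ e z hz2
  · rintro _ ⟨y, hy, rfl⟩
    refine ⟨Opens.mem_iSup.mpr ⟨⟨U, hU⟩, y, hy, rfl⟩, ?_⟩
    have : emb p chart U hU y ∈ (emb p chart U hU).opensRange := ⟨y, rfl⟩
    rw [opensRange_emb] at this
    exact this

end K36.RelProjOpen
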