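import Groth.Agent.Divis.RegStalk
import Groth.Agent.S9724
import Groth.Agent.Ega4late.H532.Spread
import Groth.Agent.FibDim.K582.Basic
import Mathlib.RingTheory.DiscreteValuationRing.TFAE
/-!
# The fibre at a section with invertible ideal is a discrete valuation ring
-/

set_option autoImplicit false
universe u
open CategoryTheory CategoryTheory.Limits AlgebraicGeometry Opposite TopologicalSpace IsLocalRing

namespace K36.SecFib

/-- A noetherian local ring whose maximal ideal is generated by a nonzerodivisor is a discrete valuation ring. -/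
theorem dvr_of_span {C : Type u} [CommRing C] [IsLocalRing C] [IsNoetherianRing C] {g : C} (hg : g ∈ nonZeroDivisors C)
    (hm : maximalIdeal C = Ideal.span {g}) : ∃ _ : IsDomain C, IsDiscreteValuationRing C := by
  have hex : ∀ a : C, a ≠ 0 → ∃ (n : ℕ) (u : C), IsUnit u ∧ a = g ^ n * u := by
    intro a ha
    have h1 : ∃ n, a ∉ maximalIdeal C ^ n := by
      by_contra hcon
      push Not at hcon
      apply ha
      have h2 : a ∈ ⨅ i : ℕ, maximalIdeal C ^ i := (Submodule.mem_iInf _).mpr hcon
      rw [Ideal.iInf_pow_eq_bot_of_isLocalRing _ (maximalIdeal.isMaximal C).ne_top] at h2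
      exact h2
    classical
    let n := Nat.find h1
    have hn : a ∉ maximalIdeal C ^ n := Nat.find_spec h1
    have hn0 : n ≠ 0 := by
      intro h0
      rw [h0, pow_zero, Ideal.one_eq_top] at hn
      exact hn trivial
    obtain ⟨k, hk⟩ := Nat.exists_eq_succ_of_ne_zero hn0
    have h3 : a ∈ maximalIdeal C ^ k := by
      have := Nat.find_min h1 (m := k) (by omega)
      push Not at this
      exact this
    rw [hm, Ideal.span_singleton_pow, Ideal.mem_span_singleton'] at h3
    obtain ⟨u, hu⟩ := h3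
    refine ⟨k, u, ?_, by rw [← hu, mul_comm]⟩
    by_contra hunit
    apply hn
    have h4 : u ∈ maximalIdeal C := (mem_maximalIdeal u).mpr hunit
    have h5 : g ∈ maximalIdeal C := by rw [hm]; exact Ideal.mem_span_singleton_self g
    rw [hk, ← hu, Nat.succ_eq_add_one, pow_succ', mul_comm]
    rw [mul_comm]
    exact Ideal.mul_mem_mul h4 (Ideal.pow_mem_pow h5 k)
  have hdom : IsDomain C := by
    have : NoZeroDivisors C := by
      refine ⟨fun {a b} hab => ?_⟩
      by_contra hcon
      push Not at hcon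
      obtain ⟨n, u, hu, rfl⟩ := hex a hcon.1
      obtain ⟨m, v, hv, rfl⟩ := hex b hcon.2
      have h1 : g ^ (n + m) * (u * v) = 0 := by rw [← hab]; ring
      have h2 := (mem_nonZeroDivisors_iff.mp (pow_mem hg (n + m))).1 _ h1
      have h3 := hu.mul hv
      rw [h2] at h3
      exact not_isUnit_zero h3
    exact NoZeroDivisors.to_isDomain C
  refine ⟨hdom, ?_⟩
  have hnf : ¬ IsField C := by
    rw [isField_iff_maximalIdeal_eq, hm, Ideal.span_singleton_eq_bot]
    exact nonZeroDivisors.ne_zero hg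
  have hp : (maximalIdeal C).IsPrincipal := ⟨⟨g, hm⟩⟩
  exact ((IsDiscreteValuationRing.TFAE C hnf).out 0 4).mpr hp

/-- The ring-theoretic statement. -/
theorem ring_main {A₀ B A : Type u} [CommRing A₀] [CommRing B] [CommRing A] [IsLocalRing A₀] [IsLocalRing B]
    [IsLocalRing A] (a : A₀ →+* B) (b : B →+* A) (hab : Function.Bijective (b.comp a)) (g : B)
    (hg : g ∈ nonZeroDivisors B) (hker : RingHom.ker b = Ideal.span {g})
    [IsNoetherianRing (B ⧸ (maximalIdeal A₀).map a)] :
    ∃ _ : IsDomain (B ⧸ (maximalIdeal A₀).map a), IsDiscreteValuationRing (B ⧸ (maximalIdeal A₀).map a) := by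
  set I := (maximalIdeal A₀).map a with hI
  let e : A₀ ≃+* A := RingEquiv.ofBijective _ hab
  have he : ∀ x, e x = b (a x) := fun x => rfl
  have hbm : ∀ r ∈ maximalIdeal A₀, b (a r) ∈ maximalIdeal A := by
    intro r hr
    rw [mem_maximalIdeal, mem_nonunits_iff]
    intro hu
    rw [← he] at hu
    have h1 := hu.map e.symm
    rw [e.symm_apply_apply] at h1
    exact (mem_maximalIdeal r).mp hr h1
  have hbg : b g = 0 := by
    have : g ∈ RingHom.ker b := by rw [hker]; exact Ideal.mem_span_singleton_self g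
    exact this
  -- decomposition
  have hdec : ∀ y : B, ∃ (r : A₀) (c : B), y = a r + g * c := by
    intro y
    have h1 : y - a (e.symm (b y)) ∈ RingHom.ker b := by
      rw [RingHom.mem_ker, map_sub, ← he, e.apply_symm_apply, sub_self]
    rw [hker, Ideal.mem_span_singleton'] at h1
    obtain ⟨c, hc⟩ := h1
    exact ⟨e.symm (b y), c, by rw [mul_comm g c, hc]; ring⟩
  have hdecI : ∀ y ∈ I, ∃ (r : A₀) (c : B), r ∈ maximalIdeal A₀ ∧ c ∈ I ∧ y = a r + g * c := by
    intro y hy
    rw [hI, Ideal.map] at hy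
    induction hy using Submodule.span_induction with
    | mem x hx =>
      obtain ⟨r, hr, rfl⟩ := hx
      exact ⟨r, 0, hr, zero_mem _, by ring⟩
    | zero => exact ⟨0, 0, zero_mem _, zero_mem _, by simp⟩
    | add x y _ _ hx hy =>
      obtain ⟨r, c, hr, hc, rfl⟩ := hx
      obtain ⟨r', c', hr', hc', rfl⟩ := hy
      exact ⟨r + r', c + c', add_mem hr hr', add_mem hc hc', by rw [map_add]; ring⟩
    | smul z x _ hx =>
      obtain ⟨r, c, hr, hc, rfl⟩ := hx
      obtain ⟨r', c', rfl⟩ := hdec z
      refine ⟨r' * r, c' * a r + (a r' + g * c') * c, Ideal.mul_mem_left _ _ hr,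
        add_mem (Ideal.mul_mem_left _ _ (Ideal.mem_map_of_mem a hr)) (Ideal.mul_mem_left _ _ hc), ?_⟩
      rw [smul_eq_mul, map_mul]
      ring
  have hIb : ∀ y ∈ I, b y ∈ maximalIdeal A := by
    intro y hy
    obtain ⟨r, c, hr, hc, rfl⟩ := hdecI y hy
    rw [map_add, map_mul, hbg, zero_mul, add_zero]
    exact hbm r hr
  have hItop : I ≠ ⊤ := fun h => by
    have h1 : (1 : B) ∈ I := by rw [h]; trivial
    have h2 := hIb 1 h1
    rw [map_one] at h2
    exact (maximalIdeal.isMaximal A).ne_top ((Ideal.eq_top_iff_one _).mpr h2)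
  have : Nontrivial (B ⧸ I) := Ideal.Quotient.nontrivial_iff.mpr hItop
  have : IsLocalRing (B ⧸ I) := IsLocalRing.of_surjective' (Ideal.Quotient.mk I) Ideal.Quotient.mk_surjective
  have hgI : Ideal.Quotient.mk I g ∈ nonZeroDivisors (B ⧸ I) := by
    rw [mem_nonZeroDivisors_iff_right]
    intro z hz
    obtain ⟨y, rfl⟩ := Ideal.Quotient.mk_surjective z
    rw [← map_mul, Ideal.Quotient.eq_zero_iff_mem] at hz
    obtain ⟨r, c, hr, hc, hyc⟩ := hdecI _ hz
    have h1 := congrArg b hyc
    rw [map_mul, map_add, map_mul, hbg, mul_zero, zero_mul, add_zero, ← he] at h1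
    have h2 : r = 0 := (map_eq_zero_iff e e.injective).mp h1.symm
    rw [h2, map_zero, zero_add, mul_comm y g] at hyc
    have h3 : g * (y - c) = 0 := by rw [mul_sub, hyc, sub_self]
    have h4 := (mem_nonZeroDivisors_iff.mp hg).1 _ h3
    rw [sub_eq_zero] at h4
    rw [h4, Ideal.Quotient.eq_zero_iff_mem]
    exact hc
  have hgm : Ideal.Quotient.mk I g ∈ maximalIdeal (B ⧸ I) := by
    rw [mem_maximalIdeal, mem_nonunits_iff]
    intro hu
    obtain ⟨z, hz⟩ := hu.exists_right_inv
    obtain ⟨y, rfl⟩ := Ideal.Quotient.mk_surjective z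
    rw [← map_mul, ← map_one (Ideal.Quotient.mk I), Ideal.Quotient.eq] at hz
    have h1 := hIb _ hz
    rw [map_sub, map_mul, hbg, zero_mul, zero_sub, map_one, neg_mem_iff] at h1
    exact (maximalIdeal.isMaximal A).ne_top ((Ideal.eq_top_iff_one _).mpr h1)
  refine dvr_of_span hgI (le_antisymm ?_ ?_)
  · intro z hz
    obtain ⟨y, rfl⟩ := Ideal.Quotient.mk_surjective z
    obtain ⟨r, c, rfl⟩ := hdec y
    rw [map_add, map_mul]
    refine add_mem ?_ (Ideal.mul_mem_right _ _ (Ideal.mem_span_singleton_self _))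
    have hr : r ∈ maximalIdeal A₀ := by
      rw [mem_maximalIdeal, mem_nonunits_iff]
      intro hu
      have h5 : Ideal.Quotient.mk I (a r) ∈ maximalIdeal (B ⧸ I) := by
        have h6 : Ideal.Quotient.mk I (a r) = Ideal.Quotient.mk I (a r + g * c) -
            Ideal.Quotient.mk I g * Ideal.Quotient.mk I c := by rw [map_add, map_mul]; ring
        rw [h6]
        exact sub_mem hz (Ideal.mul_mem_right _ _ hgm)
      exact (mem_maximalIdeal _).mp h5 ((hu.map a).map (Ideal.Quotient.mk I))
    rw [Ideal.Quotient.eq_zero_iff_mem.mpr (Ideal.mem_map_of_mem a hr)]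
    exact zero_mem _
  · rw [Ideal.span_singleton_le_iff_mem]
    exact hgm

/-- The geometric statement. -/
theorem main {X V : Scheme.{u}} (π : V ⟶ X) [LocallyOfFiniteType π]
    (j : X ⟶ V) [IsClosedImmersion j] (hj : j ≫ π = 𝟙 X) (hJ : BlowUp.IsEffCartierIdeal j.ker) (x : X) :
    ∃ _ : IsDomain ((π.fiber (π.base (j.base x))).presheaf.stalk (π.asFiber (j.base x))),
      IsDiscreteValuationRing ((π.fiber (π.base (j.base x))).presheaf.stalk (π.asFiber (j.base x))) := by
  obtain ⟨U, hxU, f, hf, hfU⟩ := hJ (j x)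
  have hker : RingHom.ker (j.stalkMap x).hom = Ideal.span {(V.presheaf.germ U.1 (j x) hxU).hom f} := by
    rw [Groth.Agent.Divis.RegStalk.ker_stalkMap j x U hxU, hfU, Ideal.map_span, Set.image_singleton]
  have hg : (V.presheaf.germ U.1 (j x) hxU).hom f ∈ nonZeroDivisors (V.presheaf.stalk (j x)) :=
    Groth.Agent.Ega4late.H532.Spread.germ_mem_nonZeroDivisors U.2 hxU hf
  have hiso : Function.Bijective ((j.stalkMap x).hom.comp (π.stalkMap (j x)).hom) := by
    have h1 : IsIso (j ≫ π) := by rw [hj]; infer_instance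
    have h2 : Function.Bijective ((j ≫ π).stalkMap x).hom := ConcreteCategory.bijective_of_isIso ((j ≫ π).stalkMap x)
    rw [Scheme.Hom.stalkMap_comp] at h2
    exact h2
  have hN : IsNoetherianRing (V.presheaf.stalk (j x) ⧸
      (maximalIdeal (X.presheaf.stalk (π (j x)))).map (π.stalkMap (j x)).hom) :=
    K582.FibBasic.isNoetherianRing_quot π (j x)
  obtain ⟨h1, h2⟩ := ring_main (π.stalkMap (j x)).hom (j.stalkMap x).hom hiso _ hg hker
  obtain ⟨e⟩ := Groth.Agent.S9724.nonempty_equiv π (π (j x)) (π.asFiber (j x)) (j x) (π.fiberι_asFiber (j x))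
  have h3 : IsDomain ((π.fiber (π.base (j.base x))).presheaf.stalk (π.asFiber (j.base x))) :=
    e.symm.toMulEquiv.isDomain _
  exact ⟨h3, IsDiscreteValuationRing.RingEquivClass.isDiscreteValuationRing e⟩

end K36.SecFib
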