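import Groth.Agent.EGA2.K36.SymAlg
import Groth.Agent.EGA2.K36.SpecLocal
import Groth.Agent.EGA2.K37.PullbackCrit
import Groth.Agent.Sga67.CohBasic
/-!
# `V(E ⊕ F) = V(E) ×_S V(F)`
-/

set_option autoImplicit false
universe u

open CategoryTheory CategoryTheory.Limits AlgebraicGeometry Opposite TopologicalSpace

namespace K36.SymSum

open Groth.Agent.CohqB.SymLoc K36.QCAlgAff K36.SymAlg

variable {S : Scheme.{u}} {E F : S.Modules} (hE : Coh.IsQCoh E) (hF : Coh.IsQCoh F)
    {AE AF A : RelSpec.QCAlg S} {jE : E ⟶ AE.toModule} {jF : F ⟶ AF.toModule} {j : E ⊞ F ⟶ A.toModule}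
    (hAE : RelSpec.IsSymAlg E AE jE) (hAF : RelSpec.IsSymAlg F AF jF) (hA : RelSpec.IsSymAlg (E ⊞ F) A j)
    {ψE : AE ⟶ A} {ψF : AF ⟶ A}
    (hψE : jE ≫ RelSpec.QCAlg.Hom.toModuleMap ψE = biprod.inl ≫ j)
    (hψF : jF ≫ RelSpec.QCAlg.Hom.toModuleMap ψF = biprod.inr ≫ j)

/-- First projection on sections. -/
noncomputable def fst (U : S.Opens) : Γ(E ⊞ F, U) →+ Γ(E, U) := ((biprod.fst : E ⊞ F ⟶ E).app U).hom

/-- Second projection on sections. -/
noncomputable def snd (U : S.Opens) : Γ(E ⊞ F, U) →+ Γ(F, U) := ((biprod.snd : E ⊞ F ⟶ F).app U).hom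

/-- First injection on sections. -/
noncomputable def inl (U : S.Opens) : Γ(E, U) →+ Γ(E ⊞ F, U) := ((biprod.inl : E ⟶ E ⊞ F).app U).hom

/-- Second injection on sections. -/
noncomputable def inr (U : S.Opens) : Γ(F, U) →+ Γ(E ⊞ F, U) := ((biprod.inr : F ⟶ E ⊞ F).app U).hom

theorem fst_inl (U : S.Opens) (m : Γ(E, U)) : fst (F := F) U (inl U m) = m :=
  congr(($(biprod.inl_fst (X := E) (Y := F))).app U m)

theorem snd_inl (U : S.Opens) (m : Γ(E, U)) : snd (F := F) U (inl U m) = 0 :=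
  congr(($(biprod.inl_snd (X := E) (Y := F))).app U m)

theorem fst_inr (U : S.Opens) (m : Γ(F, U)) : fst (E := E) U (inr U m) = 0 :=
  congr(($(biprod.inr_fst (X := E) (Y := F))).app U m)

theorem snd_inr (U : S.Opens) (m : Γ(F, U)) : snd (E := E) U (inr U m) = m :=
  congr(($(biprod.inr_snd (X := E) (Y := F))).app U m)

theorem total (U : S.Opens) (m : Γ(E ⊞ F, U)) : inl U (fst U m) + inr U (snd U m) = m :=
  congr(($(biprod.total (X := E) (Y := F))).app U m)

theorem fst_smul (U : S.Opens) (r : Γ(S, U)) (m : Γ(E ⊞ F, U)) : fst U (r • m) = r • fst U m :=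
  Scheme.Modules.Hom.app_smul _ r m

theorem snd_smul (U : S.Opens) (r : Γ(S, U)) (m : Γ(E ⊞ F, U)) : snd U (r • m) = r • snd U m :=
  Scheme.Modules.Hom.app_smul _ r m

include hψE in
theorem ψE_j (U : S.Opens) (m : Γ(E, U)) :
    (ψE.hom.app (op U)).hom (jApp E AE jE U m) = jApp (E ⊞ F) A j U (inl U m) :=
  congr(($hψE).app U m)

include hψF in
theorem ψF_j (U : S.Opens) (m : Γ(F, U)) :
    (ψF.hom.app (op U)).hom (jApp F AF jF U m) = jApp (E ⊞ F) A j U (inr U m) :=
  congr(($hψF).app U m)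

theorem hom_str {A B : RelSpec.QCAlg S} (ψ : A ⟶ B) (U : S.Opens) (r : Γ(S, U)) :
    (ψ.hom.app (op U)).hom ((A.str.app (op U)).hom r) = (B.str.app (op U)).hom r :=
  congr($(NatTrans.congr_app ψ.comm (op U)) r)

include hE hF hA hψE hψF in
theorem hom_ext {U : S.Opens} (hU : IsAffineOpen U) {C : CommRingCat.{u}} {h h' : A.presheaf.obj (op U) ⟶ C}
    (h1 : ψE.hom.app (op U) ≫ h = ψE.hom.app (op U) ≫ h') (h2 : ψF.hom.app (op U) ≫ h = ψF.hom.app (op U) ≫ h') :
    h = h' := by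
  let eA := RingEquiv.ofBijective _ (bijective_symHom (Groth.Agent.Sga67.CohBasic.isQCoh_biprod hE hF) hA U hU)
  have key : h.hom.comp (symHom (E ⊞ F) A j U) = h'.hom.comp (symHom (E ⊞ F) A j U) := by
    apply ringHom_ext
    · intro r
      rw [RingHom.comp_apply, RingHom.comp_apply, symHom_algebraMap, ← hom_str ψE U r]
      exact congr($h1 ((AE.str.app (op U)).hom r))
    · intro m
      rw [RingHom.comp_apply, RingHom.comp_apply, symHom_ι, ← total U m, map_add, map_add, map_add,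
        ← ψE_j hψE, ← ψF_j hψF]
      exact congrArg₂ (· + ·) congr($h1 (jApp E AE jE U (fst U m))) congr($h2 (jApp F AF jF U (snd U m)))
  ext x
  obtain ⟨y, rfl⟩ := eA.surjective x
  exact congr($key y)

include hE hF hAE hAF hA hψE hψF in
theorem exists_desc {U : S.Opens} (hU : IsAffineOpen U) {C : CommRingCat.{u}} (f : AE.presheaf.obj (op U) ⟶ C)
    (g : AF.presheaf.obj (op U) ⟶ C) (w : AE.str.app (op U) ≫ f = AF.str.app (op U) ≫ g) :
    ∃ h : A.presheaf.obj (op U) ⟶ C, ψE.hom.app (op U) ≫ h = f ∧ ψF.hom.app (op U) ≫ h = g := by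
  let eE := RingEquiv.ofBijective _ (bijective_symHom hE hAE U hU)
  let eF := RingEquiv.ofBijective _ (bijective_symHom hF hAF U hU)
  let eA := RingEquiv.ofBijective _ (bijective_symHom (Groth.Agent.Sga67.CohBasic.isQCoh_biprod hE hF) hA U hU)
  let l : Γ(E ⊞ F, U) →+ C :=
    (f.hom.toAddMonoidHom.comp (jApp E AE jE U)).comp (fst U) +
      (g.hom.toAddMonoidHom.comp (jApp F AF jF U)).comp (snd U)
  have hl : ∀ m, l m = f.hom (jApp E AE jE U (fst U m)) + g.hom (jApp F AF jF U (snd U m)) := fun m => rfl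
  have hls : ∀ (r : Γ(S, U)) m, l (r • m) = (AE.str.app (op U) ≫ f).hom r * l m := by
    intro r m
    have w' : g.hom ((AF.str.app (op U)).hom r) = f.hom ((AE.str.app (op U)).hom r) := congr($w r).symm
    rw [hl, hl, fst_smul, snd_smul, jApp_smul, jApp_smul, map_mul, map_mul, w', mul_add]
    rfl
  let d := desc (AE.str.app (op U) ≫ f).hom l hls
  let h : A.presheaf.obj (op U) ⟶ C := CommRingCat.ofHom (d.comp eA.symm.toRingHom)
  have h1 : ∀ x, h.hom (symHom (E ⊞ F) A j U x) = d x := fun x =>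
    congrArg d (eA.symm_apply_apply x)
  have hr : ∀ r : Γ(S, U), h.hom ((A.str.app (op U)).hom r) = f.hom ((AE.str.app (op U)).hom r) := fun r => by
    rw [← symHom_algebraMap (E ⊞ F) A j, h1]
    exact desc_algebraMap _ _ _ r
  have hm : ∀ m, h.hom (jApp (E ⊞ F) A j U m) = l m := fun m => by
    rw [← symHom_ι (E ⊞ F) A j, h1]
    exact desc_ι _ _ _ m
  refine ⟨h, ?_, ?_⟩
  · have key : (ψE.hom.app (op U) ≫ h).hom.comp (symHom E AE jE U) = f.hom.comp (symHom E AE jE U) := by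
      apply ringHom_ext
      · intro r
        rw [RingHom.comp_apply, RingHom.comp_apply, symHom_algebraMap, ← hr, ← hom_str ψE U r]
        rfl
      · intro m
        rw [RingHom.comp_apply, RingHom.comp_apply, symHom_ι]
        change h.hom ((ψE.hom.app (op U)).hom (jApp E AE jE U m)) = _
        rw [ψE_j hψE, hm, hl, fst_inl, snd_inl, map_zero, map_zero, add_zero]
    ext x
    obtain ⟨y, rfl⟩ := eE.surjective x
    exact congr($key y)
  · have key : (ψF.hom.app (op U) ≫ h).hom.comp (symHom F AF jF U) = g.hom.comp (symHom F AF jF U) := by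
      apply ringHom_ext
      · intro r
        have w' : g.hom ((AF.str.app (op U)).hom r) = f.hom ((AE.str.app (op U)).hom r) := congr($w r).symm
        rw [RingHom.comp_apply, RingHom.comp_apply, symHom_algebraMap, w', ← hr, ← hom_str ψF U r]
        rfl
      · intro m
        rw [RingHom.comp_apply, RingHom.comp_apply, symHom_ι]
        change h.hom ((ψF.hom.app (op U)).hom (jApp F AF jF U m)) = _
        rw [ψF_j hψF, hm, hl, fst_inr, snd_inr, map_zero, map_zero, zero_add]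
    ext x
    obtain ⟨y, rfl⟩ := eF.surjective x
    exact congr($key y)

include hE hF hAE hAF hA hψE hψF in
theorem isPushout (U : S.Opens) (hU : IsAffineOpen U) :
    IsPushout (AE.str.app (op U)) (AF.str.app (op U)) (ψE.hom.app (op U)) (ψF.hom.app (op U)) := by
  have w : AE.str.app (op U) ≫ ψE.hom.app (op U) = AF.str.app (op U) ≫ ψF.hom.app (op U) := by
    rw [← NatTrans.comp_app, ← NatTrans.comp_app, ψE.comm, ψF.comm]
  refine ⟨⟨w⟩, ⟨PushoutCocone.IsColimit.mk w
    (fun s => (exists_desc hE hF hAE hAF hA hψE hψF hU s.inl s.inr s.condition).choose)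
    (fun s => (exists_desc hE hF hAE hAF hA hψE hψF hU s.inl s.inr s.condition).choose_spec.1)
    (fun s => (exists_desc hE hF hAE hAF hA hψE hψF hU s.inl s.inr s.condition).choose_spec.2) ?_⟩⟩
  intro s m h1 h2
  refine hom_ext hE hF hA hψE hψF hU (h1.trans ?_) (h2.trans ?_)
  · exact (exists_desc hE hF hAE hAF hA hψE hψF hU s.inl s.inr s.condition).choose_spec.1.symm
  · exact (exists_desc hE hF hAE hAF hA hψE hψF hU s.inl s.inr s.condition).choose_spec.2.symm

include hE hF hAE hAF hA hψE hψF in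
theorem isPullback : IsPullback (RelSpec.QCAlg.specMap ψE) (RelSpec.QCAlg.specMap ψF) AE.π AF.π := by
  have w : RelSpec.QCAlg.specMap ψE ≫ AE.π = RelSpec.QCAlg.specMap ψF ≫ AF.π := by
    rw [RelSpec.QCAlg.specMap_π, RelSpec.QCAlg.specMap_π]
  refine K37.PullbackCrit.isPullback_of_charts w (J := S.affineOpens)
    (fun U => Spec (AE.presheaf.obj (op U.1))) (fun U => Spec (AF.presheaf.obj (op U.1)))
    (fun U => Spec (A.presheaf.obj (op U.1))) (fun U => AE.ι U.1 U.2) (fun U => AF.ι U.1 U.2)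
    (fun U => A.ι U.1 U.2) (fun U => Spec.map (ψE.hom.app (op U.1))) (fun U => Spec.map (ψF.hom.app (op U.1)))
    (fun U => (RelSpec.QCAlg.ι_specMap U.1 U.2 ψE).symm) (fun U => (RelSpec.QCAlg.ι_specMap U.1 U.2 ψF).symm) ?_ ?_ ?_
  · intro U
    have h1 := isPullback_SpecMap_of_isPushout _ _ _ _ (isPushout hE hF hAE hAF hA hψE hψF U.1 U.2)
    have h2 := K37.PullbackCrit.isPullback_comp_mono h1 U.2.fromSpec
    rw [← (SpecLocal.isPullback_ι AE U.1 U.2).w, ← (SpecLocal.isPullback_ι AF U.1 U.2).w] at h2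
    exact h2
  · intro U x hx _
    have h1 : x ∈ A.π ⁻¹ᵁ U.1 := by
      have h3 : RelSpec.QCAlg.specMap ψE x ∈ AE.π ⁻¹ᵁ U.1 := by
        rw [AE.π_preimage U.1 U.2]; exact hx
      have h4 : (RelSpec.QCAlg.specMap ψE ≫ AE.π) x ∈ U.1 := h3
      rw [RelSpec.QCAlg.specMap_π] at h4
      exact h4
    rw [A.π_preimage U.1 U.2] at h1
    exact h1
  · intro x y hxy
    obtain ⟨U, hU, hx, -⟩ := (Opens.isBasis_iff_nbhd.mp S.isBasis_affineOpens) (show AE.π x ∈ (⊤ : S.Opens) from trivial)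
    refine ⟨⟨U, hU⟩, ?_, ?_⟩
    · have h1 : x ∈ AE.π ⁻¹ᵁ U := hx
      rw [AE.π_preimage U hU] at h1
      exact h1
    · have h1 : y ∈ AF.π ⁻¹ᵁ U := by
        change AF.π y ∈ U
        rw [← hxy]; exact hx
      rw [AF.π_preimage U hU] at h1
      exact h1

end K36.SymSum
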