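import Groth.Agent.Ega2.H270.ProjCover
import Groth.Agent.Ega2.H271.GradedFG
import Groth.Agent.Ega2.H302.ConeFibre
import Groth.Agent.EGA2.K30.GradedGen
/-!
# Graded rings with the same `Proj` as the subring generated in degree one agree in large degrees
-/

set_option autoImplicit false
universe u
open CategoryTheory CategoryTheory.Limits AlgebraicGeometry TopologicalSpace Opposite
open Groth.Agent.Ega2 H270.ProjCover H271.GradedFG

namespace K36.VeryLarge

variable {R A B : Type u} [CommRing R] [CommRing A] [Algebra R A] (𝒜 : ℕ → Submodule R A) [GradedAlgebra 𝒜]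
  [CommRing B] [Algebra R B] (ℬ : ℕ → Submodule R B) [GradedAlgebra ℬ] (φ : 𝒜 →+*ᵍ ℬ)

/-- `ℬ 1 ^ n ≤ ℬ n`. -/
theorem pow_le (n : ℕ) : ℬ 1 ^ n ≤ ℬ n := by
  induction n with
  | zero =>
    rw [pow_zero, Submodule.one_le]
    exact SetLike.GradedOne.one_mem
  | succ n ih =>
    rw [pow_succ, Submodule.mul_le]
    intro a ha b hb
    exact SetLike.mul_mem_graded (ih ha) hb

variable {𝒜 ℬ}

/-- Elements of `𝒜 1 ^ (n + 1)` map to `ℬ 1 ^ (n + 1)`. -/
theorem map_pow_mem (n : ℕ) {a : A} (ha : a ∈ 𝒜 1 ^ (n + 1)) : φ a ∈ ℬ 1 ^ (n + 1) := by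
  induction n generalizing a with
  | zero =>
    rw [zero_add, pow_one] at ha ⊢
    exact φ.map_mem ha
  | succ n ih =>
    rw [pow_succ] at ha ⊢
    induction ha using Submodule.mul_induction_on' with
    | mem_mul_mem a ha b hb =>
      rw [map_mul]
      exact Submodule.mul_mem_mul (ih ha) (φ.map_mem hb)
    | add a _ b _ ha hb =>
      rw [map_add]
      exact add_mem ha hb

/-- Elements of `𝒜 1 ^ n` lie in the `n`-th power of any ideal containing `𝒜 1`. -/
theorem mem_pow_of_le {I : Ideal A} (hI : ∀ a ∈ 𝒜 1, a ∈ I) (n : ℕ) {a : A} (ha : a ∈ 𝒜 1 ^ n) : a ∈ I ^ n := by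
  induction n generalizing a with
  | zero => rw [pow_zero, Ideal.one_eq_top]; trivial
  | succ n ih =>
    rw [pow_succ] at ha ⊢
    induction ha using Submodule.mul_induction_on' with
    | mem_mul_mem a ha b hb => exact Ideal.mul_mem_mul (ih ha) (hI b hb)
    | add a _ b _ ha hb => exact add_mem ha hb

/-- Surjectivity of the homogeneous localizations gives elements of the image. -/
theorem exists_pow_mem_range {s : A} (hs : s ∈ 𝒜 1)
    (hsurj : Function.Surjective (HomogeneousLocalization.Away.map φ s)) {q : ℕ} {c : B} (hc : c ∈ ℬ q) :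
    ∃ (k : ℕ) (x : A), φ s ^ k * c = φ x := by
  obtain ⟨z, hz⟩ := hsurj (HomogeneousLocalization.Away.mk ℬ (φ.map_mem hs) q c (by rwa [smul_eq_mul, mul_one]))
  obtain ⟨n, x, hx, rfl⟩ := HomogeneousLocalization.Away.mk_surjective 𝒜 hs z
  rw [HomogeneousLocalization.Away.map_mk] at hz
  have h := congrArg HomogeneousLocalization.val hz
  change Localization.mk _ _ = Localization.mk _ _ at h
  rw [Localization.mk_eq_mk_iff, Localization.r_iff_exists] at h
  obtain ⟨⟨_, k, rfl⟩, h⟩ := h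
  refine ⟨k + n, s ^ k * (s ^ q * x), ?_⟩
  simp only at h
  rw [map_mul, map_mul, map_pow, map_pow, h, pow_add, mul_assoc]

/-- Every element of a degree one piece of the span by finitely many elements. -/
theorem mem_span_of_mem_gr {k : ℕ} {S : Finset B} (hS : Submodule.span (SetLike.GradeZero.subring ℬ) (S : Set B) = gr ℬ ℬ k)
    {b : B} (hb : b ∈ ℬ k) : b ∈ Ideal.span (S : Set B) := by
  have hb' : b ∈ gr ℬ ℬ k := hb
  rw [← hS] at hb'
  induction hb' using Submodule.span_induction with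
  | mem x hx => exact Ideal.subset_span hx
  | zero => exact zero_mem _
  | add x y hx' hy' hx hy =>
    rw [hS] at hx' hy'
    exact add_mem (hx hx') (hy hy')
  | smul c x hx' hx =>
    rw [hS] at hx'
    exact Ideal.mul_mem_left _ _ (hx hx')

/-- Elements in the span of the generators of `ℬ 1`: reduction to `ℬ q`. -/
theorem mem_closure {S : Finset B} (hS1 : ∀ s ∈ S, s ∈ ℬ 1) {q : ℕ}
    (hq : ∀ k, q ≤ k → ∀ b ∈ ℬ k, b ∈ Ideal.span (S : Set B)) (hA : ∀ s ∈ S, ∃ a ∈ 𝒜 1, φ a = s) (j : ℕ) :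
    ∀ b ∈ ℬ (q + 1 + j), b ∈ AddSubgroup.closure {x : B | ∃ a ∈ 𝒜 j, ∃ c ∈ ℬ (q + 1), x = φ a * c} := by
  classical
  induction j with
  | zero =>
    intro b hb
    refine AddSubgroup.subset_closure ⟨1, SetLike.GradedOne.one_mem, b, hb, ?_⟩
    rw [map_one, one_mul]
  | succ j ih =>
    intro b hb
    obtain ⟨c, hc, -, rfl⟩ := exists_homog_comb ℬ ℬ S (fun x => x) (fun _ => 1) hS1 hb
      (by rw [Set.image_id']; exact hq _ (by omega) b hb)
    refine sum_mem fun s hs => ?_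
    obtain ⟨a, ha, has⟩ := hA s hs
    have h2 := ih (c s) (hc s hs (by omega))
    suffices H : ∀ y ∈ AddSubgroup.closure {x : B | ∃ a ∈ 𝒜 j, ∃ c ∈ ℬ (q + 1), x = φ a * c},
        y * φ a ∈ AddSubgroup.closure {x : B | ∃ a ∈ 𝒜 (j + 1), ∃ c ∈ ℬ (q + 1), x = φ a * c} by
      have h3 := H _ h2
      rwa [has] at h3
    intro y h2
    induction h2 using AddSubgroup.closure_induction with
    | mem x hx =>
      obtain ⟨a', ha', d, hd, rfl⟩ := hx
      refine AddSubgroup.subset_closure ⟨a' * a, SetLike.mul_mem_graded ha' ha, d, hd, ?_⟩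
      rw [map_mul]; ring
    | zero => rw [zero_mul]; exact zero_mem _
    | add x y _ _ hx hy => rw [add_mul]; exact add_mem hx hy
    | neg x _ hx => rw [neg_mul]; exact neg_mem hx

/-- The main statement at the level of rings. -/
theorem exists_forall_eq [Algebra.FiniteType (ℬ 0) B] (hφ : Function.Injective φ)
    (h0 : Set.BijOn φ (𝒜 0) (ℬ 0)) (h1 : Set.BijOn φ (𝒜 1) (ℬ 1))
    (hgen : ∀ n : ℕ, 1 ≤ n → 𝒜 n = 𝒜 1 ^ n)
    (hdom : PCone.dom φ = ⊤)
    (hsurj : ∀ s ∈ 𝒜 1, Function.Surjective (HomogeneousLocalization.Away.map φ s)) :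
    ∃ n₀ : ℕ, ∀ n : ℕ, n₀ ≤ n → ℬ n = ℬ 1 ^ n := by
  classical
  have hfg : (HomogeneousIdeal.irrelevant ℬ).toIdeal.FG := (K30.GradedGen.irrelevant_fg_iff ℬ).mpr inferInstance
  obtain ⟨G, hG, hGspan⟩ := exists_homogeneous_generators ℬ hfg
  choose! e he hGe using hG
  have hgr : ∀ k, (gr ℬ ℬ k).FG := fun k =>
    gr_ring_fg ℬ (T := G) (t := fun x => x) (e := e) hGe he (by rw [Set.image_id']; exact hGspan) k
  obtain ⟨S, hS⟩ := hgr 1
  have hS1 : ∀ s ∈ S, s ∈ ℬ 1 := fun s hs => by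
    have : s ∈ gr ℬ ℬ 1 := by rw [← hS]; exact Submodule.subset_span hs
    exact this
  have hA : ∀ s ∈ S, ∃ a ∈ 𝒜 1, φ a = s := fun s hs => h1.2.2 (hS1 s hs)
  -- the radical
  have hrad : (HomogeneousIdeal.irrelevant ℬ).toIdeal ≤ (Ideal.span (S : Set B)).radical := by
    have h2 := (iSup_basicOpen_eq_top_iff ℬ (fun f : {f : A // ∃ d : ℕ, 0 < d ∧ f ∈ 𝒜 d} => φ f.1)
      (by rintro ⟨f, d, -, hf⟩; exact ⟨d, φ.map_mem hf⟩)).mp hdom
    refine h2.trans (Ideal.radical_mono (Ideal.span_le.mpr ?_))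
    rintro _ ⟨⟨f, d, hd, hf⟩, rfl⟩
    obtain ⟨d, rfl⟩ : ∃ d', d = d' + 1 := ⟨d - 1, by omega⟩
    have h3 : f ∈ 𝒜 1 ^ (d + 1) := by rw [← hgen (d + 1) (by omega)]; exact hf
    have h4 := map_pow_mem φ d h3
    have h5 := mem_pow_of_le (𝒜 := ℬ) (I := Ideal.span (S : Set B)) (fun b hb => mem_span_of_mem_gr hS hb) (d + 1) h4
    exact Ideal.pow_le_self (by omega) h5
  obtain ⟨m, hm⟩ := Ideal.exists_pow_le_of_le_radical_of_fg hrad hfg
  obtain ⟨q, hq⟩ := exists_le_irrelevant_pow ℬ hfg m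
  obtain ⟨C, hC⟩ := hgr (q + 1)
  have hC1 : ∀ c ∈ C, c ∈ ℬ (q + 1) := fun c hc => by
    have : c ∈ gr ℬ ℬ (q + 1) := by rw [← hC]; exact Submodule.subset_span hc
    exact this
  -- the conductor ideals
  have hcond : ∀ c ∈ C, ∃ n : ℕ, ∀ k, n ≤ k → ∀ a ∈ 𝒜 k, φ a * c ∈ φ.toRingHom.range := by
    intro c hc
    let I : Ideal A :=
      { carrier := {a | φ a * c ∈ φ.toRingHom.range}
        add_mem' := fun {a b} ha hb => by
          change φ (a + b) * c ∈ φ.toRingHom.range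
          rw [map_add, add_mul]; exact add_mem ha hb
        zero_mem' := by change φ 0 * c ∈ φ.toRingHom.range; rw [map_zero, zero_mul]; exact zero_mem _
        smul_mem' := fun a b hb => by
          change φ (a * b) * c ∈ φ.toRingHom.range
          rw [map_mul, mul_assoc]
          exact mul_mem ⟨a, rfl⟩ hb }
    choose! α hα1 hα using hA
    have hIrad : Ideal.span (α '' (S : Set B)) ≤ I.radical := by
      rw [Ideal.span_le]
      rintro _ ⟨s, hs, rfl⟩
      obtain ⟨k, x, hx⟩ := exists_pow_mem_range φ (hα1 s hs) (hsurj _ (hα1 s hs)) (hC1 c hc)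
      refine ⟨k, ?_⟩
      change φ (α s ^ k) * c ∈ φ.toRingHom.range
      rw [map_pow, hx]
      exact ⟨x, rfl⟩
    obtain ⟨n, hn⟩ := Ideal.exists_pow_le_of_le_radical_of_fg hIrad ⟨S.image α, by rw [Finset.coe_image]⟩
    have h1A : ∀ a ∈ 𝒜 1, a ∈ Ideal.span (α '' (S : Set B)) := by
      intro a ha
      have h3 : φ a ∈ gr ℬ ℬ 1 := φ.map_mem ha
      rw [← hS] at h3
      obtain ⟨f, -, hf⟩ := Submodule.mem_span_finset.mp h3
      have h4 : ∀ s, ∃ β ∈ 𝒜 0, φ β = (f s : B) := fun s => h0.2.2 (f s).2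
      choose β hβ0 hβ using h4
      have h5 : a = ∑ s ∈ S, β s * α s := by
        apply hφ
        rw [map_sum, ← hf]
        refine Finset.sum_congr rfl fun s hs => ?_
        rw [map_mul, hβ, hα s hs]
        rfl
      rw [h5]
      exact sum_mem fun s hs => Ideal.mul_mem_left _ _ (Ideal.subset_span ⟨s, hs, rfl⟩)
    refine ⟨n + 1, fun k hk a ha => ?_⟩
    have h6 : a ∈ 𝒜 1 ^ k := by rw [← hgen k (by omega)]; exact ha
    have h7 := mem_pow_of_le h1A k h6
    exact hn (Ideal.pow_le_pow_right (by omega) h7)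
  choose! N hN using hcond
  have key : ∀ j, C.sup N ≤ j → ∀ b ∈ ℬ (q + 1 + j), b ∈ φ.toRingHom.range := by
    intro j hj b hb
    have h2 := mem_closure φ hS1 (q := q) (fun k hk b hb => hm (hq k hk b hb)) hA j b hb
    clear hb
    induction h2 using AddSubgroup.closure_induction with
    | mem x hx =>
      obtain ⟨a, ha, c, hc, rfl⟩ := hx
      have h3 : c ∈ gr ℬ ℬ (q + 1) := hc
      rw [← hC] at h3
      obtain ⟨f, -, hf⟩ := Submodule.mem_span_finset.mp h3
      rw [← hf, Finset.mul_sum]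
      refine sum_mem fun s hs => ?_
      obtain ⟨β, hβ0, hβ⟩ := h0.2.2 (f s).2
      have h4 : φ a * (f s • s) = φ (β * a) * s := by
        rw [map_mul, hβ]
        change φ a * ((f s : B) * s) = _
        ring
      rw [h4]
      refine hN s hs j ((Finset.le_sup hs).trans hj) _ ?_
      have := SetLike.mul_mem_graded hβ0 ha
      rwa [zero_add] at this
    | zero => exact zero_mem _
    | add x y _ _ hx hy => exact add_mem hx hy
    | neg x _ hx => exact neg_mem hx
  refine ⟨q + 1 + C.sup N, fun n hn => le_antisymm ?_ (pow_le ℬ n)⟩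
  intro b hb
  obtain ⟨j, rfl⟩ : ∃ j, n = q + 1 + j := ⟨n - (q + 1), by omega⟩
  obtain ⟨x, hx⟩ := key j (by omega) b hb
  change φ x = b at hx
  have h2 : φ (DirectSum.decompose 𝒜 x (q + 1 + j) : A) = b := by
    rw [GradedRingHom.map_directSumDecompose, hx, DirectSum.decompose_of_mem_same _ hb]
  rw [← h2]
  have h3 : (DirectSum.decompose 𝒜 x (q + 1 + j) : A) ∈ 𝒜 1 ^ ((q + j) + 1) := by
    rw [← hgen _ (by omega), show q + j + 1 = q + 1 + j by omega]
    exact SetLike.coe_mem _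
  have h4 := map_pow_mem φ (q + j) h3
  rwa [show q + j + 1 = q + 1 + j by omega] at h4

end K36.VeryLarge
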